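import Groth.Agent.L28.ProEt.Ext
import Groth.Agent.L28.Transfer.Basic
import Groth.Agent.L27.ProEt.Continuity
import Groth.Agent.L27.Fppf.ProEtPull
import Groth.Prelude.Def_EtModW
import Groth.Prelude.Def_WeakSerre
import Mathlib.CategoryTheory.Functor.Flat
import Mathlib.CategoryTheory.Abelian.GrothendieckAxioms.Basic
import Mathlib.Algebra.Category.ModuleCat.AB
import Mathlib.Algebra.Category.Grp.AB
import Mathlib.Algebra.Category.ModuleCat.ChangeOfRings
import Mathlib.CategoryTheory.Adjunction.FullyFaithful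

/-!
The inverse image from the étale to the pro-étale site: exact, fully faithful, image closed under extensions.
-/

set_option autoImplicit false
set_option linter.style.haveILetI false

universe u v₁ v₂ v₃ u₁ u₂ u₃

open CategoryTheory CategoryTheory.Limits AlgebraicGeometry Opposite

namespace Groth.L28.ProEt

section Lan

variable {C : Type u₁} [Category.{v₁} C] {D : Type u₂} [Category.{v₂} D] {E : Type u₃} [Category.{v₃} E]

set_option backward.defeqAttrib.useBackward true in
set_option backward.isDefEq.respectTransparency false in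
/-- The evaluation of a left Kan extension as a colimit over costructured arrows. -/
noncomputable def lanEval (F : C ⥤ D) (X : D) [∀ X : D, HasColimitsOfShape (CostructuredArrow F X) E] :
    F.lan ⋙ (evaluation D E).obj X ≅
      (Functor.whiskeringLeft _ _ E).obj (CostructuredArrow.proj F X) ⋙ colim :=
  NatIso.ofComponents (fun G =>
    IsColimit.coconePointUniqueUpToIso
    (Functor.isPointwiseLeftKanExtensionLeftKanExtensionUnit F G X)
    (colimit.isColimit _)) (fun {G₁ G₂} φ => by
      apply (Functor.isPointwiseLeftKanExtensionLeftKanExtensionUnit F G₁ X).hom_ext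
      intro T
      have h₁ := fun (G : C ⥤ E) => IsColimit.comp_coconePointUniqueUpToIso_hom
        (Functor.isPointwiseLeftKanExtensionLeftKanExtensionUnit F G X) (colimit.isColimit _) T
      have h₂ := congr_app (F.lanUnit.naturality φ) T.left
      dsimp at h₁ h₂ ⊢
      simp only [Category.assoc] at h₁ ⊢
      simp only [Functor.lan, Functor.lanUnit] at h₂ ⊢
      rw [reassoc_of% h₁, NatTrans.naturality_assoc, ← reassoc_of% h₂, h₁,
        ι_colimMap, Functor.whiskerLeft_app]
      rfl)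

theorem preservesFiniteLimits_lan (F : C ⥤ D) [RepresentablyFlat F]
    [∀ X : Dᵒᵖ, HasColimitsOfShape (CostructuredArrow F.op X) E] [HasFiniteLimits E]
    (hE : ∀ X : Dᵒᵖ, IsFiltered (CostructuredArrow F.op X) → HasExactColimitsOfShape (CostructuredArrow F.op X) E) :
    PreservesFiniteLimits (F.op.lan : (Cᵒᵖ ⥤ E) ⥤ _) := by
  apply preservesFiniteLimits_of_preservesFiniteLimitsOfSize.{0}
  intro J _ _
  apply preservesLimitsOfShape_of_evaluation
  intro K
  have hf : IsFiltered (CostructuredArrow F.op K) :=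
    IsFiltered.of_equivalence (structuredArrowOpEquivalence F (unop K))
  haveI := (hE K hf).preservesFiniteLimits
  exact preservesLimitsOfShape_of_natIso (lanEval F.op K).symm

end Lan

set_option backward.isDefEq.respectTransparency.types false

variable (Λ : Type (u + 1)) [CommRing Λ] (X : Scheme.{u}) [ProEtS.EpsCont X]

/-- the adjunction `ε⁻¹ ⊣ ε_*` on sheaves of modules -/
noncomputable abbrev epsAdjMod : EtModW.epsPullMod Λ X ⊣
    (ProEtS.eps X).sheafPushforwardContinuous (ModuleCat.{u + 1} Λ) X.smallEtaleTopology (Scheme.ProEt.topology X) :=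
  (ProEtS.eps X).sheafAdjunctionContinuous (ModuleCat.{u + 1} Λ) X.smallEtaleTopology (Scheme.ProEt.topology X)

/-- `ε_*` on sheaves of modules -/
noncomputable abbrev epsPushMod : EtModW.ModP Λ X ⥤ EtModW.Mod Λ X :=
  (ProEtS.eps X).sheafPushforwardContinuous (ModuleCat.{u + 1} Λ) X.smallEtaleTopology (Scheme.ProEt.topology X)

theorem preservesFiniteLimits_epsPullMod : PreservesFiniteLimits (EtModW.epsPullMod Λ X) := by
  haveI := Groth.L27.ProEt.preservesFiniteLimits_eps X
  haveI := flat_of_preservesFiniteLimits (ProEtS.eps X)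
  haveI : AB5OfSize.{u, u + 1} (ModuleCat.{u + 1} Λ) := AB5OfSize_shrink.{u, u + 1, u + 1, u + 1} _
  haveI : PreservesFiniteLimits ((ProEtS.eps X).op.lan : (X.Etaleᵒᵖ ⥤ ModuleCat.{u + 1} Λ) ⥤ _) :=
    preservesFiniteLimits_lan (ProEtS.eps X) fun K hf => inferInstance
  exact Functor.sheafPullbackConstruction.preservesFiniteLimits _ _ _ _

theorem preservesFiniteLimits_epsPull : PreservesFiniteLimits (ProEtS.epsPull X) := by
  haveI := Groth.L27.ProEt.preservesFiniteLimits_eps X
  haveI := flat_of_preservesFiniteLimits (ProEtS.eps X)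
  haveI : AB5OfSize.{u, u + 1} AddCommGrpCat.{u + 1} := AB5OfSize_shrink.{u, u + 1, u + 1, u + 1} _
  haveI : PreservesFiniteLimits ((ProEtS.eps X).op.lan : (X.Etaleᵒᵖ ⥤ AddCommGrpCat.{u + 1}) ⥤ _) :=
    preservesFiniteLimits_lan (ProEtS.eps X) fun K hf => inferInstance
  exact Functor.sheafPullbackConstruction.preservesFiniteLimits _ _ _ _

/-! ### forgetting the scalars -/

/-- the structure map of the scalars -/
noncomputable def scal : Transfer.Z.{u} →+* Λ :=
  (Int.castRingHom Λ).comp (ULift.ringEquiv : ULift.{u + 1} ℤ ≃+* ℤ).toRingHom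

/-- forgetting the scalars through modules over the lifted integers -/
noncomputable def forgetFactor :
    ModuleCat.restrictScalars.{u + 1} (scal Λ) ⋙ Transfer.fg.{u} ≅ forget₂ (ModuleCat.{u + 1} Λ) AddCommGrpCat.{u + 1} :=
  NatIso.ofComponents fun M => Iso.refl _

/-- the right adjoint of forgetting the scalars -/
noncomputable def coext : AddCommGrpCat.{u + 1} ⥤ ModuleCat.{u + 1} Λ :=
  Transfer.fg.{u}.inv ⋙ ModuleCat.coextendScalars.{u + 1, u + 1, u + 1} (scal Λ)

/-- forgetting the scalars is a left adjoint -/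
noncomputable def forgetCoextAdj : forget₂ (ModuleCat.{u + 1} Λ) AddCommGrpCat.{u + 1} ⊣ coext Λ :=
  ((ModuleCat.restrictCoextendScalarsAdj.{u + 1} (scal Λ)).comp Transfer.fg.{u}.asEquivalence.toAdjunction).ofNatIsoLeft
    (forgetFactor Λ)

instance isRightAdjoint_coext : (coext Λ).IsRightAdjoint := (forgetCoextAdj Λ).isRightAdjoint

variable {C : Type (u + 1)} [Category.{u} C] (J : GrothendieckTopology C)

instance hasSheafCompose_coext : J.HasSheafCompose (coext Λ) := by
  haveI : PreservesLimitsOfSize.{u + 1, u + 1} (coext Λ) := (forgetCoextAdj Λ).rightAdjoint_preservesLimits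
  haveI : PreservesLimitsOfSize.{u, u + 1} (coext Λ) := (forgetCoextAdj Λ).rightAdjoint_preservesLimits
  exact hasSheafCompose_of_preservesLimitsOfSize _

/-- forgetting the scalars of sheaves -/
noncomputable abbrev forgetSh : Sheaf J (ModuleCat.{u + 1} Λ) ⥤ Sheaf J AddCommGrpCat.{u + 1} :=
  sheafCompose J (forget₂ (ModuleCat.{u + 1} Λ) AddCommGrpCat.{u + 1})

/-- forgetting the scalars of sheaves is a left adjoint -/
noncomputable def forgetShAdj : forgetSh Λ J ⊣ sheafCompose J (coext Λ) where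
  unit :=
    { app := fun Z => ObjectProperty.homMk (((forgetCoextAdj Λ).whiskerRight Cᵒᵖ).unit.app Z.obj)
      naturality := fun Z Z' f => Sheaf.hom_ext (((forgetCoextAdj Λ).whiskerRight Cᵒᵖ).unit.naturality f.hom) }
  counit :=
    { app := fun Z => ObjectProperty.homMk (((forgetCoextAdj Λ).whiskerRight Cᵒᵖ).counit.app Z.obj)
      naturality := fun Z Z' f => Sheaf.hom_ext (((forgetCoextAdj Λ).whiskerRight Cᵒᵖ).counit.naturality f.hom) }
  left_triangle_components Z := Sheaf.hom_ext (((forgetCoextAdj Λ).whiskerRight Cᵒᵖ).left_triangle_components Z.obj)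
  right_triangle_components Z := Sheaf.hom_ext (((forgetCoextAdj Λ).whiskerRight Cᵒᵖ).right_triangle_components Z.obj)

theorem forgetShAdj_unit_app (Z : Sheaf J (ModuleCat.{u + 1} Λ)) (U : Cᵒᵖ) :
    ((forgetShAdj Λ J).unit.app Z).hom.app U = (forgetCoextAdj Λ).unit.app (Z.obj.obj U) :=
  (Category.id_comp _).trans (Category.comp_id _)

theorem preservesFiniteLimits_forgetSh : PreservesFiniteLimits (forgetSh Λ J) := by
  apply preservesFiniteLimits_of_preservesFiniteLimitsOfSize.{0}
  intro K _ _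
  haveI : PreservesLimitsOfShape K (forgetSh Λ J ⋙ sheafToPresheaf J AddCommGrpCat.{u + 1}) :=
    inferInstanceAs (PreservesLimitsOfShape K (sheafToPresheaf J (ModuleCat.{u + 1} Λ) ⋙
      (Functor.whiskeringRight Cᵒᵖ _ _).obj (forget₂ (ModuleCat.{u + 1} Λ) AddCommGrpCat.{u + 1})))
  exact preservesLimitsOfShape_of_reflects_of_preserves _ (sheafToPresheaf J AddCommGrpCat.{u + 1})

/-- inverse image commutes with forgetting the scalars -/
noncomputable def theta :
    forgetSh Λ X.smallEtaleTopology ⋙ ProEtS.epsPull X ≅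
      EtModW.epsPullMod Λ X ⋙ forgetSh Λ (Scheme.ProEt.topology X) :=
  Adjunction.leftAdjointUniq ((forgetShAdj Λ X.smallEtaleTopology).comp (ProEtS.epsAdj X))
    (((epsAdjMod Λ X).comp (forgetShAdj Λ (Scheme.ProEt.topology X))).ofNatIsoRight (Iso.refl _))

theorem forget_map_unit (F : EtModW.Mod Λ X) :
    (forgetSh Λ X.smallEtaleTopology).map ((epsAdjMod Λ X).unit.app F) =
      (ProEtS.epsAdj X).unit.app ((forgetSh Λ X.smallEtaleTopology).obj F) ≫
        (ProEtS.epsPush X).map ((theta Λ X).hom.app F) := by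
  let a := forgetShAdj Λ X.smallEtaleTopology
  refine (a.homEquiv _ _).injective ?_
  have h := Adjunction.unit_leftAdjointUniq_hom_app (a.comp (ProEtS.epsAdj X))
    (((epsAdjMod Λ X).comp (forgetShAdj Λ (Scheme.ProEt.topology X))).ofNatIsoRight (Iso.refl _)) F
  refine Eq.trans ?_ (Eq.trans h.symm ?_)
  · refine (Adjunction.homEquiv_unit _ _ _ _).trans ((a.unit_naturality _).trans ?_)
    refine Eq.trans (congrArg (fun k => (epsAdjMod Λ X).unit.app F ≫ k) ?_)
      (Category.comp_id (((epsAdjMod Λ X).comp (forgetShAdj Λ (Scheme.ProEt.topology X))).unit.app F)).symm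
    refine Sheaf.hom_ext (NatTrans.ext (funext fun U => ?_))
    exact (forgetShAdj_unit_app Λ X.smallEtaleTopology _ U).trans
      (forgetShAdj_unit_app Λ (Scheme.ProEt.topology X) _ ((ProEtS.eps X).op.obj U)).symm
  · refine Eq.trans ?_ (Adjunction.homEquiv_unit _ _ _ _).symm
    show ((a.comp (ProEtS.epsAdj X)).unit.app F) ≫ _ = _
    rw [Adjunction.comp_unit_app]
    exact (Category.assoc _ _ _).trans (congrArg (fun k => a.unit.app _ ≫ k) (Functor.map_comp _ _ _).symm)

theorem isIso_unit : IsIso (epsAdjMod Λ X).unit := by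
  haveI : ∀ F, IsIso ((epsAdjMod Λ X).unit.app F) := fun F => by
    haveI := Groth.L27.Fppf.isIso_unit ((forgetSh Λ X.smallEtaleTopology).obj F)
    haveI : IsIso ((forgetSh Λ X.smallEtaleTopology).map ((epsAdjMod Λ X).unit.app F)) := by
      rw [forget_map_unit]
      exact @IsIso.comp_isIso _ _ _ _ _ _ _ this (Functor.map_isIso _ _)
    exact isIso_of_reflects_iso _ (forgetSh Λ X.smallEtaleTopology)
  exact NatIso.isIso_of_isIso_app _

theorem isIso_unit_ab : IsIso (ProEtS.epsAdj X).unit := by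
  haveI : ∀ F, IsIso ((ProEtS.epsAdj X).unit.app F) := fun F => Groth.L27.Fppf.isIso_unit F
  exact NatIso.isIso_of_isIso_app _

theorem epi_epsPushMod_map (T : ShortComplex (EtModW.ModP Λ X)) (hT : T.ShortExact)
    (h : (EtModW.epsPullMod Λ X).essImage T.X₁) : Epi ((epsPushMod Λ X).map T.g) := by
  haveI := preservesFiniteLimits_forgetSh Λ (Scheme.ProEt.topology X)
  haveI : PreservesColimitsOfSize.{0, 0} (forgetSh Λ (Scheme.ProEt.topology X)) :=
    (forgetShAdj Λ (Scheme.ProEt.topology X)).leftAdjoint_preservesColimits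
  haveI : PreservesFiniteColimits (forgetSh Λ (Scheme.ProEt.topology X)) :=
    PreservesColimitsOfSize.preservesFiniteColimits _
  obtain ⟨F, ⟨e⟩⟩ := h
  haveI := epi_epsPush_map (T.map (forgetSh Λ (Scheme.ProEt.topology X)))
    ((theta Λ X).app F ≪≫ (forgetSh Λ (Scheme.ProEt.topology X)).mapIso e)
    (hT.map_of_exact (forgetSh Λ (Scheme.ProEt.topology X)))
  haveI : Epi ((forgetSh Λ X.smallEtaleTopology).map ((epsPushMod Λ X).map T.g)) :=
    inferInstanceAs (Epi ((ProEtS.epsPush X).map ((T.map (forgetSh Λ (Scheme.ProEt.topology X))).g)))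
  exact (forgetSh Λ X.smallEtaleTopology).epi_of_epi_map inferInstance

section Abstract

variable {A : Type u₁} [Category.{v₁} A] [Abelian A] {B : Type u₂} [Category.{v₂} B] [Abelian B]
  {L : A ⥤ B} {R : B ⥤ A} (adj : L ⊣ R) [IsIso adj.unit] [PreservesFiniteLimits L]
  (key : ∀ T : ShortComplex B, T.ShortExact → L.essImage T.X₁ → Epi (R.map T.g))

include adj key in
theorem shortExact_of_key (T : ShortComplex B) (hT : T.ShortExact) (h₁ : L.essImage T.X₁)
    [R.PreservesZeroMorphisms] : (T.map R).ShortExact := by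
  haveI := hT.mono_f
  haveI := adj.rightAdjoint_preservesLimits.{0, 0}
  haveI : Mono (T.map R).f := inferInstanceAs (Mono (R.map T.f))
  haveI : Epi (T.map R).g := key T hT h₁
  exact ShortComplex.ShortExact.mk (hT.exact.map_of_mono_of_preservesKernel R inferInstance inferInstance)

include adj key in
theorem extension_mem (T : ShortComplex B) (hT : T.ShortExact) (h₁ : L.essImage T.X₁) (h₃ : L.essImage T.X₃) :
    IsIso (adj.counit.app T.X₂) := by
  haveI := adj.rightAdjoint_preservesLimits.{0, 0}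
  haveI := adj.leftAdjoint_preservesColimits.{0, 0}
  haveI : R.Additive := Functor.additive_of_preserves_binary_products _
  haveI : PreservesFiniteColimits L := PreservesColimitsOfSize.preservesFiniteColimits _
  haveI : L.Additive := Functor.additive_of_preserves_binary_products _
  haveI := (adj.fullyFaithfulLOfIsIsoUnit).full
  haveI := (adj.fullyFaithfulLOfIsIsoUnit).faithful
  have hR := shortExact_of_key adj key T hT h₁
  let φ : (T.map R).map L ⟶ T :=
    { τ₁ := adj.counit.app _, τ₂ := adj.counit.app _, τ₃ := adj.counit.app _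
      comm₁₂ := (adj.counit_naturality _).symm
      comm₂₃ := (adj.counit_naturality _).symm }
  haveI : IsIso φ.τ₁ := adj.isIso_counit_app_iff_mem_essImage.mpr h₁
  haveI : IsIso φ.τ₃ := adj.isIso_counit_app_iff_mem_essImage.mpr h₃
  exact ShortComplex.isIso₂_of_shortExact_of_isIso₁₃ φ (hR.map_of_exact L) hT

include adj key in
theorem isWeakSerre_image (P : ObjectProperty A) [WSerre.IsWeakSerre P] :
    WSerre.IsWeakSerre (fun F : B => ∃ G : A, P G ∧ Nonempty (L.obj G ≅ F)) := by
  haveI := adj.rightAdjoint_preservesLimits.{0, 0}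
  haveI := adj.leftAdjoint_preservesColimits.{0, 0}
  haveI : R.Additive := Functor.additive_of_preserves_binary_products _
  haveI : PreservesFiniteColimits L := PreservesColimitsOfSize.preservesFiniteColimits _
  haveI : L.Additive := Functor.additive_of_preserves_binary_products _
  let ff := adj.fullyFaithfulLOfIsIsoUnit
  haveI : ObjectProperty.ContainsZero (fun F : B => ∃ G : A, P G ∧ Nonempty (L.obj G ≅ F)) := by
    obtain ⟨Z, hZ, hPZ⟩ := P.exists_prop_of_containsZero
    exact ⟨L.obj Z, L.map_isZero hZ, Z, hPZ, ⟨Iso.refl _⟩⟩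
  haveI : ObjectProperty.IsClosedUnderKernels (fun F : B => ∃ G : A, P G ∧ Nonempty (L.obj G ≅ F)) := by
    refine ⟨?_⟩
    rintro K ⟨f, k, hk, ⟨G₁, h₁, ⟨e₁⟩⟩, ⟨G₂, h₂, ⟨e₂⟩⟩⟩
    let g : G₁ ⟶ G₂ := ff.preimage (e₁.hom ≫ f ≫ e₂.inv)
    have hg : L.map g = e₁.hom ≫ f ≫ e₂.inv := ff.map_preimage _
    refine ⟨kernel g, P.prop_kernel g h₁ h₂, ⟨PreservesKernel.iso L g ≪≫
      kernel.mapIso _ f e₁ e₂ (by rw [hg]; simp) ≪≫ (limit.isLimit _).conePointUniqueUpToIso hk⟩⟩
  haveI : ObjectProperty.IsClosedUnderCokernels (fun F : B => ∃ G : A, P G ∧ Nonempty (L.obj G ≅ F)) := by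
    refine ⟨?_⟩
    rintro K ⟨f, k, hk, ⟨G₁, h₁, ⟨e₁⟩⟩, ⟨G₂, h₂, ⟨e₂⟩⟩⟩
    let g : G₁ ⟶ G₂ := ff.preimage (e₁.hom ≫ f ≫ e₂.inv)
    have hg : L.map g = e₁.hom ≫ f ≫ e₂.inv := ff.map_preimage _
    refine ⟨cokernel g, P.prop_cokernel g h₁ h₂, ⟨PreservesCokernel.iso L g ≪≫
      cokernel.mapIso _ f e₁ e₂ (by rw [hg]; simp) ≪≫ (colimit.isColimit _).coconePointUniqueUpToIso hk⟩⟩
  haveI : ObjectProperty.IsClosedUnderExtensions (fun F : B => ∃ G : A, P G ∧ Nonempty (L.obj G ≅ F)) := by
    refine ⟨fun {T} hT ⟨G₁, h₁, ⟨e₁⟩⟩ ⟨G₃, h₃, ⟨e₃⟩⟩ => ?_⟩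
    haveI := extension_mem adj key T hT ⟨G₁, ⟨e₁⟩⟩ ⟨G₃, ⟨e₃⟩⟩
    refine ⟨R.obj T.X₂, P.prop_X₂_of_shortExact (shortExact_of_key adj key T hT ⟨G₁, ⟨e₁⟩⟩)
      (P.prop_of_iso ((asIso (adj.unit.app G₁) : G₁ ≅ R.obj (L.obj G₁)) ≪≫ R.mapIso e₁) h₁)
      (P.prop_of_iso ((asIso (adj.unit.app G₃) : G₃ ≅ R.obj (L.obj G₃)) ≪≫ R.mapIso e₃) h₃), ⟨asIso (adj.counit.app T.X₂)⟩⟩
  exact { }

end Abstract

theorem isWeakSerre_ab (S : ObjectProperty (EtCoh.Ab X)) [WSerre.IsWeakSerre S] :
    WSerre.IsWeakSerre (fun F : ProEtS.AbP X => ∃ G : EtCoh.Ab X, S G ∧ Nonempty ((ProEtS.epsPull X).obj G ≅ F)) := by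
  haveI := isIso_unit_ab X
  haveI := preservesFiniteLimits_epsPull X
  exact isWeakSerre_image (ProEtS.epsAdj X) (fun T hT ⟨F, ⟨e⟩⟩ => epi_epsPush_map T e hT) S

theorem isWeakSerre_mod (S : ObjectProperty (EtModW.Mod Λ X)) [WSerre.IsWeakSerre S] :
    WSerre.IsWeakSerre (fun F : EtModW.ModP Λ X =>
      ∃ G : EtModW.Mod Λ X, S G ∧ Nonempty ((EtModW.epsPullMod Λ X).obj G ≅ F)) := by
  haveI := isIso_unit Λ X
  haveI := preservesFiniteLimits_epsPullMod Λ X
  exact isWeakSerre_image (epsAdjMod Λ X) (epi_epsPushMod_map Λ X) S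

end Groth.L28.ProEt
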