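import Groth.Agent.L28.ProEt.Cech.BaseChangeMod

/-!
Direct images of adic sheaves along closed immersions with retrocompact complement.
-/

set_option autoImplicit false
set_option linter.style.haveILetI false

universe u

open CategoryTheory CategoryTheory.Limits AlgebraicGeometry Opposite

set_option backward.isDefEq.respectTransparency.types false

namespace Groth.L28.ProEt

variable {Λ : Type (u + 1)} [CommRing Λ] {Z X : Scheme.{u}} (f : Z ⟶ X)

/-- base change sends weakly contractible affines to weakly contractible affines -/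
def KeepsWC : Prop :=
  ∀ V : X.ProEt, IsAffine V.left → EtPBC.IsWContractible ↥(Γ(V.left, ⊤)) →
    IsAffine ((ProEtS.bcP f).obj V).left ∧ EtPBC.IsWContractible ↥(Γ(((ProEtS.bcP f).obj V).left, ⊤))

theorem keepsWC_of_closedImmersion [IsClosedImmersion f] (hr : IsRetrocompact (Set.range f)ᶜ) : KeepsWC f := by
  intro V hV hwc
  haveI : IsAffine ((ProEtS.bcP f).obj V).left := by
    let q : ((ProEtS.bcP f).obj V).left ⟶ V.left := pullback.fst V.hom f
    haveI : IsAffineHom q := MorphismProperty.pullback_fst _ _ (inferInstance : IsAffineHom f)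
    exact isAffine_of_isAffineHom q
  refine ⟨inferInstance, Groth.L27.ProEt.isWContractible_of_isWC ?_⟩
  exact PushExact.isWC_bcP_of_closedImmersion f hr V hwc

variable {f} (h : KeepsWC f) [ProEtS.PCont f]

include h

omit [ProEtS.PCont f] in
theorem isWC_bcP_of_keepsWC {V : X.ProEt} [IsAffine V.left] (hwc : EtPBC.IsWContractible ↥(Γ(V.left, ⊤))) :
    ProEtS.IsWC ((ProEtS.bcP f).obj V) := by
  obtain ⟨hA, hW⟩ := h V ‹_› hwc
  haveI := hA
  exact Groth.L27.ProEt.isWC_of_isWContractible hW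

theorem isQuot_pushPMod {I : Ideal Λ} {F Q : EtModW.ModP Λ Z} {p : F ⟶ Q} (hp : ARSys.IsQuot I p) :
    ARSys.IsQuot I ((Cech.pushPMod Λ f).map p) := by
  haveI := epi_of_isQuot hp
  have hcov : ∀ U : X.ProEt, ∃ (ι : Type u) (V : ι → X.ProEt) (g : ∀ i, V i ⟶ U),
      Sieve.ofArrows V g ∈ Scheme.ProEt.topology X U ∧
        ∀ i, IsAffine (V i).left ∧ EtPBC.IsWContractible ↥(Γ((V i).left, ⊤)) := fun U => by
    obtain ⟨ι, W, hW, hc⟩ := L27.ProEt.exists_affineOpens_cover U.left
    obtain ⟨V, g, hmem, -, hV⟩ := L27.ProEt.exists_wContractible_family U W hW hc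
    exact ⟨ι, V, g, hmem, hV⟩
  haveI : Epi ((Cech.pushPMod Λ f).map p) := by
    refine (Sheaf.isLocallySurjective_iff_epi' (ModuleCat.{u + 1} Λ) ((Cech.pushPMod Λ f).map p)).mp ⟨fun {U} x => ?_⟩
    obtain ⟨ι, V, g, hmem, hV⟩ := hcov U
    refine GrothendieckTopology.superset_covering _ ?_ hmem
    rw [Sieve.generate_le_iff, Presieve.ofArrows_le_iff]
    intro i
    haveI := (hV i).1
    exact surjective_mod p (isWC_bcP_of_keepsWC h (hV i).2)
      (((Cech.pushPMod Λ f).obj Q).obj.map (g i).op x)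
  refine ⟨fun a ha => ?_, fun T φ hφ => ?_⟩
  · show a • (Cech.pushPMod Λ f).map (𝟙 Q) = 0
    exact (congrArg (Cech.pushPMod Λ f).map (hp.1 a ha)).trans (Functor.map_zero _ _ _)
  · have hk : kernel.ι ((Cech.pushPMod Λ f).map p) ≫ φ = 0 := by
      refine Sheaf.hom_ext (NatTrans.ext (funext fun ⟨U⟩ => ConcreteCategory.hom_ext _ _ fun x => ?_))
      obtain ⟨ι, V, g, hmem, hV⟩ := hcov U
      have hT := (isSheaf_iff_isSheaf_of_type _ _).mp
        ((sheafCompose (Scheme.ProEt.topology X) (forget (ModuleCat.{u + 1} Λ))).obj T).property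
      refine (hT _ hmem).isSeparatedFor.ext ?_
      rintro W k ⟨_, m, _, ⟨i⟩, rfl⟩
      show T.obj.map (m ≫ g i).op _ = T.obj.map (m ≫ g i).op 0
      rw [map_zero, op_comp, Functor.map_comp]
      refine (congrArg (T.obj.map m.op) ?_).trans (map_zero (T.obj.map m.op).hom)
      refine (NatTrans.naturality_apply (kernel.ι _ ≫ φ).hom (g i).op x).symm.trans ?_
      haveI := (hV i).1
      obtain ⟨hA, hW⟩ := h (V i) (hV i).1 (hV i).2
      haveI := hA
      generalize ((kernel ((Cech.pushPMod Λ f).map p)).obj.map (g i).op) x = z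
      let z' : F.obj.obj (op ((ProEtS.bcP f).obj (V i))) := (kernel.ι ((Cech.pushPMod Λ f).map p)).hom.app (op (V i)) z
      show φ.hom.app (op (V i)) z' = 0
      have hz : p.hom.app (op ((ProEtS.bcP f).obj (V i))) z' = 0 :=
        ConcreteCategory.congr_hom (congrArg (fun e => e.hom.app (op (V i)))
          (kernel.condition ((Cech.pushPMod Λ f).map p))) z
      have hmem' := mem_smul_of_isQuot I hp hW z' hz
      generalize z' = y at hmem'
      induction hmem' using Submodule.smul_induction_on' with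
      | smul a ha v _ =>
        exact (map_smul (φ.hom.app (op (V i))).hom a v).trans ((app_smul a φ (V i) v).symm.trans
          (ConcreteCategory.congr_hom (congrArg (fun e => e.hom.app (op (V i))) (hφ a ha)) v))
      | add v _ v' _ hv hv' => exact (map_add (φ.hom.app (op (V i))).hom v v').trans ((congrArg₂ (· + ·) hv hv').trans (add_zero _))
    exact ⟨Abelian.epiDesc _ φ hk, Abelian.comp_epiDesc _ φ hk, fun ψ hψ => by
      rw [← cancel_epi ((Cech.pushPMod Λ f).map p), hψ, Abelian.comp_epiDesc]⟩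

theorem isAdicP_pushPMod [QuasiCompact f] [QuasiSeparated f] [ProEtS.EpsCont Z] [ProEtS.EpsCont X] (I : Ideal Λ)
    (P : EtModW.Mod Λ Z → Prop) (P' : EtModW.Mod Λ X → Prop)
    (hpush : ∀ E : EtModW.Mod Λ Z, P E → P' ((EtModW.push Λ f).obj E))
    {F : EtModW.ModP Λ Z} {Q : ℕᵒᵖ ⥤ EtModW.ModP Λ Z} (p : (Functor.const ℕᵒᵖ).obj F ⟶ Q)
    (hq : ∀ n : ℕ, ARSys.IsQuot (I ^ (n + 1)) (p.app (op n)))
    (hE : ∀ n : ℕ, ∃ E : EtModW.Mod Λ Z, P E ∧ Nonempty ((EtModW.epsPullMod Λ Z).obj E ≅ Q.obj (op n)))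
    (hi : IsIso (limit.lift Q (Cone.mk F p))) :
    ∃ (Q' : ℕᵒᵖ ⥤ EtModW.ModP Λ X) (p' : (Functor.const ℕᵒᵖ).obj ((Cech.pushPMod Λ f).obj F) ⟶ Q'),
      (∀ n : ℕ, ARSys.IsQuot (I ^ (n + 1)) (p'.app (op n))) ∧
      (∀ n : ℕ, ∃ E : EtModW.Mod Λ X, P' E ∧ Nonempty ((EtModW.epsPullMod Λ X).obj E ≅ Q'.obj (op n))) ∧
      IsIso (limit.lift Q' (Cone.mk ((Cech.pushPMod Λ f).obj F) p')) := by
  let R := Cech.pushPMod Λ f
  let p' : (Functor.const ℕᵒᵖ).obj (R.obj F) ⟶ Q ⋙ R := (R.mapCone (Cone.mk F p)).π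
  refine ⟨Q ⋙ R, p', fun n => isQuot_pushPMod h (hq n), fun n => ?_, ?_⟩
  · obtain ⟨E, hPE, ⟨e⟩⟩ := hE n
    haveI := Cech.isIso_thetaMod Λ f E
    exact ⟨(EtModW.push Λ f).obj E, hpush E hPE, ⟨asIso (Cech.thetaMod Λ f E) ≪≫ R.mapIso e⟩⟩
  · let l := IsLimit.ofPointIso (limit.isLimit Q) (t := Cone.mk F p) (i := hi)
    haveI : PreservesLimitsOfShape ℕᵒᵖ R := by
      haveI := ((ProEtS.bcP f).sheafAdjunctionContinuous (ModuleCat.{u + 1} Λ) (Scheme.ProEt.topology X)
        (Scheme.ProEt.topology Z)).rightAdjoint_preservesLimits.{0, 0}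
      infer_instance
    let l' := isLimitOfPreserves R l
    exact ⟨(IsLimit.conePointUniqueUpToIso l' (limit.isLimit (Q ⋙ R))).inv,
      by
        refine l'.hom_ext fun n => ?_
        rw [Category.assoc, IsLimit.conePointUniqueUpToIso_inv_comp, Category.id_comp]
        exact limit.lift_π (Cone.mk (R.obj F) p') n,
      by
        refine limit.hom_ext fun n => ?_
        rw [Category.assoc, limit.lift_π, Category.id_comp]
        exact IsLimit.conePointUniqueUpToIso_inv_comp l' (limit.isLimit (Q ⋙ R)) n⟩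

end Groth.L28.ProEt
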