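import Mathlib.CategoryTheory.Limits.Shapes.Pullback.IsPullback.Basic
import Mathlib.CategoryTheory.Filtered.Connected

/-!
Cofiltered limits commute with fibre products.
-/

set_option autoImplicit false

universe w v v' u u'

open CategoryTheory CategoryTheory.Limits

namespace Groth.L28.ProEt.Pb

variable {C : Type u} [Category.{v} C] [HasPullbacks C] {E : Type u'} [Category.{v'} E]
  {I : Type w} [Category I] {D₁ D₂ : I ⥤ C} {U : C}
  (a₁ : ∀ i, D₁.obj i ⟶ U) (a₂ : ∀ i, D₂.obj i ⟶ U)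
  (ha₁ : ∀ {i j : I} (f : i ⟶ j), D₁.map f ≫ a₁ j = a₁ i)
  (ha₂ : ∀ {i j : I} (f : i ⟶ j), D₂.map f ≫ a₂ j = a₂ i)

/-- the stagewise fibre product -/
noncomputable def diag : I ⥤ C where
  obj i := pullback (a₁ i) (a₂ i)
  map {i j} f := pullback.lift (pullback.fst (a₁ i) (a₂ i) ≫ D₁.map f)
    (pullback.snd (a₁ i) (a₂ i) ≫ D₂.map f) (by
      rw [Category.assoc, Category.assoc, ha₁, ha₂, pullback.condition])
  map_id i := pullback.hom_ext (by simp) (by simp)
  map_comp f g := pullback.hom_ext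
    (by rw [pullback.lift_fst, Category.assoc, pullback.lift_fst, pullback.lift_fst_assoc, Category.assoc,
      Functor.map_comp])
    (by rw [pullback.lift_snd, Category.assoc, pullback.lift_snd, pullback.lift_snd_assoc, Category.assoc,
      Functor.map_comp])

theorem diag_fst {i j : I} (f : i ⟶ j) :
    (diag a₁ a₂ ha₁ ha₂).map f ≫ pullback.fst (a₁ j) (a₂ j) = pullback.fst (a₁ i) (a₂ i) ≫ D₁.map f :=
  pullback.lift_fst _ _ _

theorem diag_snd {i j : I} (f : i ⟶ j) :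
    (diag a₁ a₂ ha₁ ha₂).map f ≫ pullback.snd (a₁ j) (a₂ j) = pullback.snd (a₁ i) (a₂ i) ≫ D₂.map f :=
  pullback.lift_snd _ _ _

variable (c₁ : Cone D₁) (c₂ : Cone D₂) (w₁ : c₁.pt ⟶ U) (w₂ : c₂.pt ⟶ U)
  (h₁ : ∀ i, c₁.π.app i ≫ a₁ i = w₁) (h₂ : ∀ i, c₂.π.app i ≫ a₂ i = w₂)

/-- the comparison map to a stage -/
noncomputable def proj (i : I) : pullback w₁ w₂ ⟶ pullback (a₁ i) (a₂ i) :=
  pullback.lift (pullback.fst w₁ w₂ ≫ c₁.π.app i) (pullback.snd w₁ w₂ ≫ c₂.π.app i) (by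
    rw [Category.assoc, Category.assoc, h₁, h₂, pullback.condition])

theorem proj_fst (i : I) :
    proj a₁ a₂ c₁ c₂ w₁ w₂ h₁ h₂ i ≫ pullback.fst (a₁ i) (a₂ i) = pullback.fst w₁ w₂ ≫ c₁.π.app i :=
  pullback.lift_fst _ _ _

theorem proj_snd (i : I) :
    proj a₁ a₂ c₁ c₂ w₁ w₂ h₁ h₂ i ≫ pullback.snd (a₁ i) (a₂ i) = pullback.snd w₁ w₂ ≫ c₂.π.app i :=
  pullback.lift_snd _ _ _

/-- the fibre product of two cones -/
noncomputable def cone : Cone (diag a₁ a₂ ha₁ ha₂) where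
  pt := pullback w₁ w₂
  π :=
    { app := proj a₁ a₂ c₁ c₂ w₁ w₂ h₁ h₂
      naturality := fun i j f => (Category.id_comp _).trans <| pullback.hom_ext
        (by
          refine (proj_fst a₁ a₂ c₁ c₂ w₁ w₂ h₁ h₂ j).trans ?_
          refine Eq.trans ?_ ((Category.assoc _ _ _).trans (congrArg (fun k => _ ≫ k) (diag_fst a₁ a₂ ha₁ ha₂ f))).symm
          exact ((Category.assoc _ _ _).symm.trans ((congrArg (fun k => k ≫ D₁.map f)
            (proj_fst a₁ a₂ c₁ c₂ w₁ w₂ h₁ h₂ i)).trans ((Category.assoc _ _ _).trans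
            (congrArg (fun k => pullback.fst w₁ w₂ ≫ k) (c₁.w f))))).symm)
        (by
          refine (proj_snd a₁ a₂ c₁ c₂ w₁ w₂ h₁ h₂ j).trans ?_
          refine Eq.trans ?_ ((Category.assoc _ _ _).trans (congrArg (fun k => _ ≫ k) (diag_snd a₁ a₂ ha₁ ha₂ f))).symm
          exact ((Category.assoc _ _ _).symm.trans ((congrArg (fun k => k ≫ D₂.map f)
            (proj_snd a₁ a₂ c₁ c₂ w₁ w₂ h₁ h₂ i)).trans ((Category.assoc _ _ _).trans
            (congrArg (fun k => pullback.snd w₁ w₂ ≫ k) (c₂.w f))))).symm) }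

/-- the fibre product of two limits is a limit -/
noncomputable def isLimit (G : C ⥤ E) [∀ {A B T : C} (f : A ⟶ T) (g : B ⟶ T), PreservesLimit (cospan f g) G]
    [IsCofiltered I] (hc₁ : IsLimit (G.mapCone c₁)) (hc₂ : IsLimit (G.mapCone c₂)) :
    IsLimit (G.mapCone (cone a₁ a₂ ha₁ ha₂ c₁ c₂ w₁ w₂ h₁ h₂)) := by
  have hp := fun {A B T : C} (f : A ⟶ T) (g : B ⟶ T) => (IsPullback.of_hasPullback f g).map G
  let s₁ : ∀ s : Cone (diag a₁ a₂ ha₁ ha₂ ⋙ G), Cone (D₁ ⋙ G) := fun s =>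
    { pt := s.pt
      π := { app := fun i => s.π.app i ≫ G.map (pullback.fst (a₁ i) (a₂ i))
             naturality := fun i j f => (Category.id_comp _).trans (by
               refine (congrArg (fun k => k ≫ G.map (pullback.fst (a₁ j) (a₂ j))) (s.w f).symm).trans ?_
               refine (Category.assoc _ _ _).trans ((congrArg (fun k => s.π.app i ≫ k) (((G.map_comp _ _).symm.trans
                 (congrArg G.map (diag_fst a₁ a₂ ha₁ ha₂ f))).trans (G.map_comp _ _))).trans (Category.assoc _ _ _).symm)) } }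
  let s₂ : ∀ s : Cone (diag a₁ a₂ ha₁ ha₂ ⋙ G), Cone (D₂ ⋙ G) := fun s =>
    { pt := s.pt
      π := { app := fun i => s.π.app i ≫ G.map (pullback.snd (a₁ i) (a₂ i))
             naturality := fun i j f => (Category.id_comp _).trans (by
               refine (congrArg (fun k => k ≫ G.map (pullback.snd (a₁ j) (a₂ j))) (s.w f).symm).trans ?_
               refine (Category.assoc _ _ _).trans ((congrArg (fun k => s.π.app i ≫ k) (((G.map_comp _ _).symm.trans
                 (congrArg G.map (diag_snd a₁ a₂ ha₁ ha₂ f))).trans (G.map_comp _ _))).trans (Category.assoc _ _ _).symm)) } }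
  have hs : ∀ s, hc₁.lift (s₁ s) ≫ G.map w₁ = hc₂.lift (s₂ s) ≫ G.map w₂ := by
    intro s
    let i : I := IsCofiltered.nonempty.some
    rw [← h₁ i, ← h₂ i, G.map_comp, G.map_comp, ← Category.assoc, ← Category.assoc]
    refine (congrArg (fun k => k ≫ G.map (a₁ i)) (hc₁.fac (s₁ s) i)).trans ?_
    refine Eq.trans ?_ (congrArg (fun k => k ≫ G.map (a₂ i)) (hc₂.fac (s₂ s) i)).symm
    exact (Category.assoc _ _ _).trans ((congrArg (fun k => s.π.app i ≫ k)
      (((G.map_comp _ _).symm.trans (congrArg G.map pullback.condition)).trans (G.map_comp _ _))).trans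
      (Category.assoc _ _ _).symm)
  refine
    { lift := fun s => (hp w₁ w₂).lift (hc₁.lift (s₁ s)) (hc₂.lift (s₂ s)) (hs s)
      fac := fun s i => (hp (a₁ i) (a₂ i)).hom_ext ?_ ?_
      uniq := fun s m hm => (hp w₁ w₂).hom_ext ?_ ?_ }
  · refine (Category.assoc _ _ _).trans ((congrArg (fun k => _ ≫ k) (((G.map_comp _ _).symm.trans
      (congrArg G.map (proj_fst a₁ a₂ c₁ c₂ w₁ w₂ h₁ h₂ i))).trans (G.map_comp _ _))).trans ?_)
    refine (Category.assoc _ _ _).symm.trans ((congrArg (fun k => k ≫ _) ((hp w₁ w₂).lift_fst _ _ _)).trans ?_)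
    exact hc₁.fac (s₁ s) i
  · refine (Category.assoc _ _ _).trans ((congrArg (fun k => _ ≫ k) (((G.map_comp _ _).symm.trans
      (congrArg G.map (proj_snd a₁ a₂ c₁ c₂ w₁ w₂ h₁ h₂ i))).trans (G.map_comp _ _))).trans ?_)
    refine (Category.assoc _ _ _).symm.trans ((congrArg (fun k => k ≫ _) ((hp w₁ w₂).lift_snd _ _ _)).trans ?_)
    exact hc₂.fac (s₂ s) i
  · refine Eq.trans ?_ ((hp w₁ w₂).lift_fst _ _ _).symm
    refine hc₁.hom_ext fun i => Eq.trans ?_ (hc₁.fac (s₁ s) i).symm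
    refine (Category.assoc _ _ _).trans ((congrArg (fun k => m ≫ k) (((G.map_comp _ _).symm.trans
      (congrArg G.map (proj_fst a₁ a₂ c₁ c₂ w₁ w₂ h₁ h₂ i).symm)).trans (G.map_comp _ _))).trans
      ((Category.assoc _ _ _).symm.trans ?_))
    exact congrArg (fun k => k ≫ G.map (pullback.fst (a₁ i) (a₂ i))) (hm i)
  · refine Eq.trans ?_ ((hp w₁ w₂).lift_snd _ _ _).symm
    refine hc₂.hom_ext fun i => Eq.trans ?_ (hc₂.fac (s₂ s) i).symm
    refine (Category.assoc _ _ _).trans ((congrArg (fun k => m ≫ k) (((G.map_comp _ _).symm.trans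
      (congrArg G.map (proj_snd a₁ a₂ c₁ c₂ w₁ w₂ h₁ h₂ i).symm)).trans (G.map_comp _ _))).trans
      ((Category.assoc _ _ _).symm.trans ?_))
    exact congrArg (fun k => k ≫ G.map (pullback.snd (a₁ i) (a₂ i))) (hm i)

end Groth.L28.ProEt.Pb
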