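import Groth.Agent.L28.ProEt.Cover
import Groth.Agent.L28.ProEt.PullbackLimit
import Groth.Agent.L27.EtSite.Pull
import Groth.Agent.S7282
import Mathlib.Algebra.Homology.ShortComplex.Ab
import Mathlib.Algebra.Homology.ShortComplex.ExactFunctor

/-!
Extensions by inverse images of étale sheaves on the pro-étale site come from the étale site.
-/

set_option autoImplicit false
set_option linter.style.haveILetI false

universe u

open CategoryTheory CategoryTheory.Limits AlgebraicGeometry Opposite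

set_option backward.isDefEq.respectTransparency.types false

namespace Groth.L28.ProEt

variable {X : Scheme.{u}}

/-- restriction of sections -/
noncomputable abbrev rs (T : ProEtS.AbP X) {A B : X.ProEt} (f : A ⟶ B) (x : T.obj.obj (op B)) : T.obj.obj (op A) :=
  T.obj.map f.op x

theorem rs_comp (T : ProEtS.AbP X) {A B C : X.ProEt} (f : A ⟶ B) (g : B ⟶ C) (x : T.obj.obj (op C)) :
    rs T (f ≫ g) x = rs T f (rs T g x) :=
  ConcreteCategory.congr_hom (T.obj.map_comp g.op f.op) x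

theorem rs_natural {S T : ProEtS.AbP X} (φ : S ⟶ T) {A B : X.ProEt} (f : A ⟶ B) (x : S.obj.obj (op B)) :
    φ.hom.app (op A) (rs S f x) = rs T f (φ.hom.app (op B) x) :=
  NatTrans.naturality_apply φ.hom f.op x

theorem isAffine_pullback {A B C : X.ProEt} (f : A ⟶ C) (g : B ⟶ C) [IsAffine A.left] [IsAffine B.left]
    [IsAffine C.left] : IsAffine (pullback f g).left := by
  haveI : IsAffine ((Scheme.ProEt.forget X ⋙ Over.forget X).obj A) := ‹IsAffine A.left›
  haveI : IsAffine ((Scheme.ProEt.forget X ⋙ Over.forget X).obj B) := ‹IsAffine B.left›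
  haveI : IsAffine ((Scheme.ProEt.forget X ⋙ Over.forget X).obj C) := ‹IsAffine C.left›
  exact IsAffine.of_isIso (PreservesPullback.iso (Scheme.ProEt.forget X ⋙ Over.forget X) f g).hom

section Colimit

variable [ProEtS.EpsCont X] {F : EtCoh.Ab X} {A : ProEtS.AbP X} (e : (ProEtS.epsPull X).obj F ≅ A)
  {I : Type u} [SmallCategory I] [IsCofiltered I] {D : I ⥤ X.ProEt} (hD : ∀ i, IsAffine (D.obj i).left)
  (c : Cone D) (hc : IsLimit ((Scheme.ProEt.forget X ⋙ Over.forget X).mapCone c))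

include e hD hc

theorem nonempty_isColimit : Nonempty (IsColimit ((A.obj ⋙ forget AddCommGrpCat.{u + 1}).mapCocone c.op)) := by
  haveI := hD
  haveI : ∀ (i j : I) (a : i ⟶ j), IsAffineHom (D.map a).left := fun i j a => inferInstance
  obtain ⟨h⟩ := Groth.Agent.S7282.result X D c hc F
  haveI : PreservesColimitsOfShape Iᵒᵖ (forget AddCommGrpCat.{u + 1}) := by
    haveI : IsFiltered (AsSmall.{u + 1} Iᵒᵖ) := IsFiltered.of_equivalence AsSmall.equiv
    haveI : PreservesColimitsOfShape (AsSmall.{u + 1} Iᵒᵖ) (forget AddCommGrpCat.{u + 1}) :=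
      PreservesFilteredColimitsOfSize.preserves_filtered_colimits.{u + 1, u + 1} _
    exact preservesColimitsOfShape_of_equiv AsSmall.equiv.symm _
  exact ⟨isColimitOfPreserves (forget AddCommGrpCat.{u + 1})
    (IsColimit.mapCoconeEquiv ((sheafToPresheaf _ _).mapIso e) h)⟩

theorem exists_stage (x : A.obj.obj (op c.pt)) : ∃ (i : I) (y : A.obj.obj (op (D.obj i))), rs A (c.π.app i) y = x := by
  obtain ⟨h⟩ := nonempty_isColimit e hD c hc
  obtain ⟨i, y, hy⟩ := Types.jointly_surjective_of_isColimit h x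
  exact ⟨i.unop, y, hy⟩

theorem exists_zero {i : I} (y : A.obj.obj (op (D.obj i))) (hy : rs A (c.π.app i) y = 0) :
    ∃ (j : I) (f : j ⟶ i), rs A (D.map f) y = 0 := by
  obtain ⟨h⟩ := nonempty_isColimit e hD c hc
  have h0 : rs A (c.π.app i) (0 : A.obj.obj (op (D.obj i))) = 0 := map_zero _
  obtain ⟨k, f, g, hfg⟩ := (Types.FilteredColimit.isColimit_eq_iff _ h (i := op i) (j := op i) (xi := y)
    (xj := (0 : A.obj.obj (op (D.obj i))))).1 (hy.trans h0.symm)
  exact ⟨k.unop, f.unop, hfg.trans (map_zero (A.obj.map (D.map g.unop).op).hom)⟩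

end Colimit

/-- amalgamation along a single covering map -/
theorem exists_descend (T : ProEtS.AbP X) {Q V : X.ProEt} (q : Q ⟶ V)
    (hq : Sieve.ofArrows (fun _ : PUnit.{u + 1} => Q) (fun _ => q) ∈ Scheme.ProEt.topology X V)
    (t : T.obj.obj (op Q)) (ht : ∀ (Z : X.ProEt) (g₁ g₂ : Z ⟶ Q), g₁ ≫ q = g₂ ≫ q → rs T g₁ t = rs T g₂ t) :
    ∃ t' : T.obj.obj (op V), rs T q t' = t := by
  have hT := (isSheaf_iff_isSheaf_of_type _ _).mp
    ((sheafCompose (Scheme.ProEt.topology X) (forget AddCommGrpCat.{u + 1})).obj T).property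
  obtain ⟨t', ht', -⟩ := ((Presieve.isSheafFor_arrows_iff _ _).mp
    ((Presieve.isSheafFor_iff_generate _).mpr (hT _ hq))) (fun _ => t) fun _ _ Z g₁ g₂ h => ht Z g₁ g₂ h
  exact ⟨t', ht' PUnit.unit⟩

theorem eq_of_cover (T : ProEtS.AbP X) {Q V : X.ProEt} (q : Q ⟶ V)
    (hq : Sieve.ofArrows (fun _ : PUnit.{u + 1} => Q) (fun _ => q) ∈ Scheme.ProEt.topology X V)
    {x y : T.obj.obj (op V)} (h : rs T q x = rs T q y) : x = y := by
  have hT := (isSheaf_iff_isSheaf_of_type _ _).mp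
    ((sheafCompose (Scheme.ProEt.topology X) (forget AddCommGrpCat.{u + 1})).obj T).property
  refine (hT _ hq).isSeparatedFor.ext ?_
  rintro Y f ⟨_, a, _, ⟨⟨⟩⟩, rfl⟩
  show rs T (a ≫ q) x = rs T (a ≫ q) y
  rw [rs_comp, rs_comp, h]

theorem surjective_of_isWC {S T : ProEtS.AbP X} (φ : S ⟶ T) [Epi φ] {W : X.ProEt} (hW : ProEtS.IsWC W) :
    Function.Surjective (φ.hom.app (op W)) := by
  haveI : Sheaf.IsLocallySurjective φ := (Sheaf.isLocallySurjective_iff_epi' AddCommGrpCat.{u + 1} φ).mpr inferInstance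
  let φ' := (sheafCompose (Scheme.ProEt.topology X) (forget AddCommGrpCat.{u + 1})).map φ
  haveI : Sheaf.IsLocallySurjective φ' := inferInstance
  exact hW _ _ φ' ((Sheaf.isLocallySurjective_iff_epi φ').mp inferInstance)

variable (S : ShortComplex (ProEtS.AbP X))

theorem sections_injective [Mono S.f] (Z : X.ProEt) : Function.Injective (S.f.hom.app (op Z)) :=
  (AddCommGrpCat.mono_iff_injective _).1
    (inferInstanceAs (Mono ((sheafToPresheaf _ _ ⋙ (evaluation _ _).obj (op Z)).map S.f)))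

theorem sections_exact (hS : S.Exact) [Mono S.f] (Z : X.ProEt) (t : S.X₂.obj.obj (op Z))
    (ht : S.g.hom.app (op Z) t = 0) : ∃ a : S.X₁.obj.obj (op Z), S.f.hom.app (op Z) a = t := by
  let Φ := sheafToPresheaf (Scheme.ProEt.topology X) AddCommGrpCat.{u + 1} ⋙ (evaluation _ _).obj (op Z)
  haveI : Φ.PreservesZeroMorphisms := ⟨fun _ _ => rfl⟩
  exact (ShortComplex.ab_exact_iff _).1 (hS.map_of_mono_of_preservesKernel Φ inferInstance inferInstance) t ht

variable [ProEtS.EpsCont X] {F : EtCoh.Ab X} (e : (ProEtS.epsPull X).obj F ≅ S.X₁)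

include e in
theorem exists_lift_affine (hS : S.ShortExact) (U : X.Etale) [IsAffine U.left]
    (x : S.X₃.obj.obj (op ((ProEtS.eps X).obj U))) :
    ∃ (V : X.Etale) (g : V ⟶ U) (y : S.X₂.obj.obj (op ((ProEtS.eps X).obj V))), Function.Surjective g.left ∧
      S.g.hom.app _ y = rs S.X₃ ((ProEtS.eps X).map g) x := by
  haveI := hS.mono_f
  haveI := hS.epi_g
  obtain ⟨P⟩ := exists_proCover U
  let D := P.D ⋙ ProEtS.eps X
  let b : ∀ i, D.obj i ⟶ (ProEtS.eps X).obj U := fun i => (ProEtS.eps X).map (P.a.app i)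
  have hb : ∀ {i j : P.I} (f : i ⟶ j), D.map f ≫ b j = b i := fun f =>
    ((ProEtS.eps X).map_comp _ _).symm.trans (congrArg (ProEtS.eps X).map ((P.a.naturality f).trans (Category.comp_id _)))
  haveI : IsAffine ((ProEtS.eps X).obj U).left := ‹IsAffine U.left›
  haveI : ∀ i, IsAffine (D.obj i).left := P.affine
  haveI : IsAffine P.c.pt.left := P.affine_pt
  haveI : Surjective P.w.left := P.surjective
  obtain ⟨s, hs⟩ := surjective_of_isWC S.g P.isWC (rs S.X₃ P.w x)
  let p₁ := pullback.fst P.w P.w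
  let p₂ := pullback.snd P.w P.w
  obtain ⟨a, ha⟩ := sections_exact S hS.exact _ (rs S.X₂ p₁ s - rs S.X₂ p₂ s) (by
    rw [map_sub, rs_natural, rs_natural, hs, ← rs_comp, ← rs_comp, pullback.condition, sub_self])
  let D₂ := Pb.diag b b hb hb
  haveI : ∀ i, IsAffine (D₂.obj i).left := fun i => isAffine_pullback (b i) (b i)
  let c₂ := Pb.cone b b hb hb P.c P.c P.w P.w P.w_eq P.w_eq
  let hc₂ := Pb.isLimit b b hb hb P.c P.c P.w P.w P.w_eq P.w_eq (Scheme.ProEt.forget X ⋙ Over.forget X)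
    P.isLimit P.isLimit
  obtain ⟨i, δ, hδ⟩ := exists_stage e (D := D₂) (fun i => inferInstance) c₂ hc₂ a
  -- the triple products
  let b₂ : ∀ i, D₂.obj i ⟶ (ProEtS.eps X).obj U := fun i => pullback.fst (b i) (b i) ≫ b i
  have hb₂ : ∀ {i j : P.I} (f : i ⟶ j), D₂.map f ≫ b₂ j = b₂ i := fun {i j} f => by
    show D₂.map f ≫ pullback.fst (b j) (b j) ≫ b j = pullback.fst (b i) (b i) ≫ b i
    exact (Category.assoc _ _ _).symm.trans ((congrArg (fun k => k ≫ b j) (Pb.diag_fst b b hb hb f)).trans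
      ((Category.assoc _ _ _).trans (congrArg (fun k => pullback.fst (b i) (b i) ≫ k) (hb f))))
  let w₂ : c₂.pt ⟶ (ProEtS.eps X).obj U := p₁ ≫ P.w
  have hw₂ : ∀ i, c₂.π.app i ≫ b₂ i = w₂ := fun i => by
    show Pb.proj b b P.c P.c P.w P.w P.w_eq P.w_eq i ≫ pullback.fst (b i) (b i) ≫ b i = p₁ ≫ P.w
    rw [← Category.assoc, Pb.proj_fst, Category.assoc, P.w_eq]
  haveI : IsAffine c₂.pt.left := isAffine_pullback P.w P.w
  let D₃ := Pb.diag b₂ b hb₂ hb
  haveI : ∀ i, IsAffine (D₃.obj i).left := fun i => isAffine_pullback (b₂ i) (b i)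
  let c₃ := Pb.cone b₂ b hb₂ hb c₂ P.c w₂ P.w hw₂ P.w_eq
  let hc₃ := Pb.isLimit b₂ b hb₂ hb c₂ P.c w₂ P.w hw₂ P.w_eq (Scheme.ProEt.forget X ⋙ Over.forget X)
    hc₂ P.isLimit
  -- evaluation at a pair of points of a stage
  let ev : ∀ (j : P.I) (f : j ⟶ i) {Z : X.ProEt} (y z : Z ⟶ D.obj j) (h : y ≫ b j = z ≫ b j),
      S.X₁.obj.obj (op Z) := fun j f Z y z h =>
    rs S.X₁ (pullback.lift (y ≫ D.map f) (z ≫ D.map f) (by rw [Category.assoc, Category.assoc, hb]; exact h)) δ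
  have evW : ∀ (j : P.I) (f : j ⟶ i) {Z : X.ProEt} (y z : Z ⟶ P.c.pt) (h : y ≫ P.w = z ≫ P.w)
      (h' : (y ≫ P.c.π.app j) ≫ b j = (z ≫ P.c.π.app j) ≫ b j),
      S.f.hom.app (op Z) (ev j f (y ≫ P.c.π.app j) (z ≫ P.c.π.app j) h') = rs S.X₂ y s - rs S.X₂ z s := by
    intro j f Z y z h h'
    have e1 : pullback.lift ((y ≫ P.c.π.app j) ≫ D.map f) ((z ≫ P.c.π.app j) ≫ D.map f)
        (by rw [Category.assoc _ (D.map f), Category.assoc _ (D.map f), hb]; exact h') =
          pullback.lift y z h ≫ c₂.π.app i := by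
      apply pullback.hom_ext
      · rw [pullback.lift_fst, Category.assoc]
        refine Eq.trans ?_ (congrArg (fun k => pullback.lift y z h ≫ k)
          (Pb.proj_fst b b P.c P.c P.w P.w P.w_eq P.w_eq i)).symm
        rw [← Category.assoc (pullback.lift y z h), pullback.lift_fst]
        exact congrArg (fun k => y ≫ k) (P.c.w f)
      · rw [pullback.lift_snd, Category.assoc]
        refine Eq.trans ?_ (congrArg (fun k => pullback.lift y z h ≫ k)
          (Pb.proj_snd b b P.c P.c P.w P.w P.w_eq P.w_eq i)).symm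
        rw [← Category.assoc (pullback.lift y z h), pullback.lift_snd]
        exact congrArg (fun k => z ≫ k) (P.c.w f)
    refine (congrArg (fun m => S.f.hom.app (op Z) (rs S.X₁ m δ)) e1).trans ?_
    refine (congrArg (S.f.hom.app (op Z)) ((rs_comp S.X₁ _ _ δ).trans (congrArg (fun k => rs S.X₁ (pullback.lift y z h) k) hδ))).trans ?_
    refine (rs_natural S.f _ a).trans ((congrArg (fun k => rs S.X₂ (pullback.lift y z h) k) ha).trans ?_)
    show S.X₂.obj.map _ (rs S.X₂ p₁ s - rs S.X₂ p₂ s) = _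
    rw [map_sub]
    show rs S.X₂ (pullback.lift y z h) (rs S.X₂ p₁ s) - rs S.X₂ (pullback.lift y z h) (rs S.X₂ p₂ s) = _
    rw [← rs_comp, ← rs_comp, pullback.lift_fst, pullback.lift_snd]
  have ev_res : ∀ (j : P.I) (f : j ⟶ i) {Z Z' : X.ProEt} (m : Z' ⟶ Z) (y z : Z ⟶ D.obj j)
      (h : y ≫ b j = z ≫ b j) (h' : (m ≫ y) ≫ b j = (m ≫ z) ≫ b j),
      rs S.X₁ m (ev j f y z h) = ev j f (m ≫ y) (m ≫ z) h' := by
    intro j f Z Z' m y z h h'
    refine (rs_comp _ _ _ _).symm.trans (congrArg (fun k => rs S.X₁ k δ) (pullback.hom_ext ?_ ?_))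
    · rw [Category.assoc, pullback.lift_fst, pullback.lift_fst, Category.assoc]
    · rw [Category.assoc, pullback.lift_snd, pullback.lift_snd, Category.assoc]
  have ev_le : ∀ (j k : P.I) (f : j ⟶ i) (g : k ⟶ j) {Z : X.ProEt} (y z : Z ⟶ D.obj k) (h : y ≫ b k = z ≫ b k)
      (h' : (y ≫ D.map g) ≫ b j = (z ≫ D.map g) ≫ b j),
      ev k (g ≫ f) y z h = ev j f (y ≫ D.map g) (z ≫ D.map g) h' := by
    intro j k f g Z y z h h'
    refine congrArg (fun k => rs S.X₁ k δ) (pullback.hom_ext ?_ ?_)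
    · rw [pullback.lift_fst, pullback.lift_fst, Category.assoc, D.map_comp]
    · rw [pullback.lift_snd, pullback.lift_snd, Category.assoc, D.map_comp]
  let t₁ : D₃.obj i ⟶ D.obj i := pullback.fst (b₂ i) (b i) ≫ pullback.fst (b i) (b i)
  let t₂ : D₃.obj i ⟶ D.obj i := pullback.fst (b₂ i) (b i) ≫ pullback.snd (b i) (b i)
  let t₃ : D₃.obj i ⟶ D.obj i := pullback.snd (b₂ i) (b i)
  have ht₁₂ : t₁ ≫ b i = t₂ ≫ b i := by
    show (_ ≫ _) ≫ _ = (_ ≫ _) ≫ _
    exact (Category.assoc _ _ _).trans ((congrArg (fun k => pullback.fst (b₂ i) (b i) ≫ k)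
      (pullback.condition (f := b i) (g := b i))).trans (Category.assoc _ _ _).symm)
  have ht₁₃ : t₁ ≫ b i = t₃ ≫ b i := by
    show (_ ≫ _) ≫ _ = _
    rw [Category.assoc]
    exact pullback.condition
  let κ := ev i (𝟙 i) t₁ t₂ ht₁₂ + ev i (𝟙 i) t₂ t₃ (ht₁₂.symm.trans ht₁₃) - ev i (𝟙 i) t₁ t₃ ht₁₃
  have hκ : rs S.X₁ (c₃.π.app i) κ = 0 := by
    let u := pullback.fst w₂ P.w
    have e₁ : c₃.π.app i ≫ t₁ = (u ≫ p₁) ≫ P.c.π.app i := by
      refine ((Category.assoc _ _ _).symm.trans ((congrArg (fun k => k ≫ pullback.fst (b i) (b i))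
        (Pb.proj_fst b₂ b c₂ P.c w₂ P.w hw₂ P.w_eq i)).trans ((Category.assoc _ _ _).trans ?_)))
      exact (congrArg (fun k => u ≫ k) (Pb.proj_fst b b P.c P.c P.w P.w P.w_eq P.w_eq i)).trans
        (Category.assoc _ _ _).symm
    have e₂ : c₃.π.app i ≫ t₂ = (u ≫ p₂) ≫ P.c.π.app i := by
      refine ((Category.assoc _ _ _).symm.trans ((congrArg (fun k => k ≫ pullback.snd (b i) (b i))
        (Pb.proj_fst b₂ b c₂ P.c w₂ P.w hw₂ P.w_eq i)).trans ((Category.assoc _ _ _).trans ?_)))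
      exact (congrArg (fun k => u ≫ k) (Pb.proj_snd b b P.c P.c P.w P.w P.w_eq P.w_eq i)).trans
        (Category.assoc _ _ _).symm
    have e₃ : c₃.π.app i ≫ t₃ = pullback.snd w₂ P.w ≫ P.c.π.app i :=
      Pb.proj_snd b₂ b c₂ P.c w₂ P.w hw₂ P.w_eq i
    apply sections_injective S c₃.pt
    show S.f.hom.app _ (S.X₁.obj.map _ _) = _
    rw [map_sub (S.X₁.obj.map _).hom, map_add (S.X₁.obj.map _).hom]
    show S.f.hom.app _ (rs S.X₁ _ _ + rs S.X₁ _ _ - rs S.X₁ _ _) = _
    rw [ev_res i (𝟙 i) _ _ _ ht₁₂ ((Category.assoc _ _ _).trans ((congrArg (fun k => c₃.π.app i ≫ k) (ht₁₂)).trans (Category.assoc _ _ _).symm)),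
      ev_res i (𝟙 i) _ _ _ (ht₁₂.symm.trans ht₁₃) ((Category.assoc _ _ _).trans ((congrArg (fun k => c₃.π.app i ≫ k) (ht₁₂.symm.trans ht₁₃)).trans (Category.assoc _ _ _).symm)),
      ev_res i (𝟙 i) _ _ _ ht₁₃ ((Category.assoc _ _ _).trans ((congrArg (fun k => c₃.π.app i ≫ k) (ht₁₃)).trans (Category.assoc _ _ _).symm))]
    have h12 : (u ≫ p₁) ≫ P.w = (u ≫ p₂) ≫ P.w :=
      (Category.assoc _ _ _).trans ((congrArg (fun k => u ≫ k) (pullback.condition (f := P.w) (g := P.w))).trans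
        (Category.assoc _ _ _).symm)
    have h13 : (u ≫ p₁) ≫ P.w = pullback.snd w₂ P.w ≫ P.w := by
      rw [Category.assoc]
      exact pullback.condition
    simp only [e₁, e₂, e₃, map_sub, map_add]
    refine Eq.trans ?_ (map_zero (S.f.hom.app (op c₃.pt)).hom).symm
    have hl : ∀ {y z : c₃.pt ⟶ P.c.pt}, y ≫ P.w = z ≫ P.w →
        (y ≫ P.c.π.app i) ≫ b i = (z ≫ P.c.π.app i) ≫ b i := fun h =>
      (Category.assoc _ _ _).trans ((congrArg (fun k => _ ≫ k) (P.w_eq i)).trans (h.trans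
        ((congrArg (fun k => _ ≫ k) (P.w_eq i).symm).trans (Category.assoc _ _ _).symm)))
    have k12 := evW i (𝟙 i) _ _ h12 (hl h12)
    have k23 := evW i (𝟙 i) _ _ (h12.symm.trans h13) (hl (h12.symm.trans h13))
    have k13 := evW i (𝟙 i) _ _ h13 (hl h13)
    refine (congrArg₂ (fun p q : S.X₂.obj.obj (op c₃.pt) => p - q)
      (congrArg₂ (fun p q : S.X₂.obj.obj (op c₃.pt) => p + q) k12 k23) k13).trans ?_
    exact sub_eq_zero.mpr (sub_add_sub_cancel _ _ _)
  obtain ⟨j, f, hf⟩ := exists_zero e (D := D₃) (fun i => inferInstance) c₃ hc₃ κ hκ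
  have cocycle : ∀ {Z : X.ProEt} (x y z : Z ⟶ D.obj j) (hxy : x ≫ b j = y ≫ b j) (hyz : y ≫ b j = z ≫ b j),
      ev j f x y hxy + ev j f y z hyz = ev j f x z (hxy.trans hyz) := by
    intro Z x y z hxy hyz
    let m : Z ⟶ D₃.obj j := pullback.lift (pullback.lift x y hxy) z (by
      show pullback.lift x y hxy ≫ pullback.fst (b j) (b j) ≫ b j = _
      rw [pullback.lift_fst_assoc]; exact hxy.trans hyz)
    have e₁ : (m ≫ D₃.map f) ≫ t₁ = x ≫ D.map f := by
      refine (Category.assoc _ _ _).trans ((congrArg (fun k => m ≫ k) ((Category.assoc _ _ _).symm.trans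
        (congrArg (fun k => k ≫ pullback.fst (b i) (b i)) (Pb.diag_fst b₂ b hb₂ hb f)))).trans ?_)
      refine (congrArg (fun k => m ≫ k) ((Category.assoc _ _ _).trans ((congrArg (fun k => pullback.fst (b₂ j) (b j) ≫ k)
        (Pb.diag_fst b b hb hb f)).trans (Category.assoc _ _ _).symm))).trans ?_
      refine (Category.assoc _ _ _).symm.trans (congrArg (fun k => k ≫ D.map f) ?_)
      exact (Category.assoc _ _ _).symm.trans ((congrArg (fun k => k ≫ pullback.fst (b j) (b j))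
        (pullback.lift_fst _ _ _)).trans (pullback.lift_fst _ _ _))
    have e₂ : (m ≫ D₃.map f) ≫ t₂ = y ≫ D.map f := by
      refine (Category.assoc _ _ _).trans ((congrArg (fun k => m ≫ k) ((Category.assoc _ _ _).symm.trans
        (congrArg (fun k => k ≫ pullback.snd (b i) (b i)) (Pb.diag_fst b₂ b hb₂ hb f)))).trans ?_)
      refine (congrArg (fun k => m ≫ k) ((Category.assoc _ _ _).trans ((congrArg (fun k => pullback.fst (b₂ j) (b j) ≫ k)
        (Pb.diag_snd b b hb hb f)).trans (Category.assoc _ _ _).symm))).trans ?_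
      refine (Category.assoc _ _ _).symm.trans (congrArg (fun k => k ≫ D.map f) ?_)
      exact (Category.assoc _ _ _).symm.trans ((congrArg (fun k => k ≫ pullback.snd (b j) (b j))
        (pullback.lift_fst _ _ _)).trans (pullback.lift_snd _ _ _))
    have e₃ : (m ≫ D₃.map f) ≫ t₃ = z ≫ D.map f := by
      refine (Category.assoc _ _ _).trans ((congrArg (fun k => m ≫ k) (Pb.diag_snd b₂ b hb₂ hb f)).trans ?_)
      exact (Category.assoc _ _ _).symm.trans (congrArg (fun k => k ≫ D.map f) (pullback.lift_snd _ _ _))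
    have h : rs S.X₁ (m ≫ D₃.map f) κ = 0 := by
      rw [rs_comp, hf]; exact map_zero _
    have hm : ∀ {p q : D₃.obj i ⟶ D.obj i}, p ≫ b i = q ≫ b i →
        ((m ≫ D₃.map f) ≫ p) ≫ b i = ((m ≫ D₃.map f) ≫ q) ≫ b i := fun h => by simp only [Category.assoc, h]
    have h' := (map_sub (S.X₁.obj.map (m ≫ D₃.map f).op).hom _ _).symm.trans h
    rw [map_add] at h'
    change rs S.X₁ _ _ + rs S.X₁ _ _ - rs S.X₁ _ _ = 0 at h'
    rw [ev_res i (𝟙 i) _ _ _ ht₁₂ (hm ht₁₂), ev_res i (𝟙 i) _ _ _ (ht₁₂.symm.trans ht₁₃) (hm (ht₁₂.symm.trans ht₁₃)),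
      ev_res i (𝟙 i) _ _ _ ht₁₃ (hm ht₁₃)] at h'
    simp only [e₁, e₂, e₃] at h'
    have el : ∀ (p q : Z ⟶ D.obj j) (hpq : p ≫ b j = q ≫ b j),
        ev i (𝟙 i) (p ≫ D.map f) (q ≫ D.map f) (by simp only [Category.assoc, hb]; exact hpq) = ev j f p q hpq := by
      intro p q hpq
      refine (ev_le i j (𝟙 i) f p q hpq (by simp only [Category.assoc, hb]; exact hpq)).symm.trans ?_
      simp only [Category.comp_id]
    rw [el x y hxy, el y z hyz, el x z (hxy.trans hyz), sub_eq_zero] at h'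
    exact h'
  -- the descended lift
  let V : X.Etale := P.D.obj j
  haveI : Surjective (b j).left := by
    haveI : Surjective ((P.c.π.app j).left ≫ (b j).left) := by
      have : (P.c.π.app j).left ≫ (b j).left = P.w.left :=
        congrArg (fun k : P.c.pt ⟶ _ => k.left) (P.w_eq j)
      rw [this]; infer_instance
    exact Surjective.of_comp (P.c.π.app j).left (b j).left
  let Q := pullback (b j) P.w
  let q := pullback.fst (b j) P.w
  haveI : IsAffine Q.left := isAffine_pullback (b j) P.w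
  haveI : Surjective q.left := MorphismProperty.of_isPullback (P := @Surjective)
    ((IsPullback.of_hasPullback (b j) P.w).map (Scheme.ProEt.forget X ⋙ Over.forget X)).flip P.surjective
  have hq : Sieve.ofArrows (fun _ : PUnit.{u + 1} => Q) (fun _ => q) ∈ Scheme.ProEt.topology X (D.obj j) :=
    L27.ProEt.generate_ofArrows_mem_of_quasiCompact _ _ fun x => ⟨PUnit.unit, q.left.surjective x⟩
  have hqb : q ≫ b j = (pullback.snd (b j) P.w ≫ P.c.π.app j) ≫ b j := by
    rw [Category.assoc, P.w_eq]; exact pullback.condition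
  let s' : S.X₂.obj.obj (op Q) :=
    rs S.X₂ (pullback.snd (b j) P.w) s + S.f.hom.app (op Q) (ev j f q (pullback.snd (b j) P.w ≫ P.c.π.app j) hqb)
  obtain ⟨t, ht⟩ := exists_descend S.X₂ q hq s' fun Z g₁ g₂ hg => by
    show S.X₂.obj.map _ _ = S.X₂.obj.map _ _
    rw [map_add, map_add]
    show rs S.X₂ g₁ _ + rs S.X₂ g₁ _ = rs S.X₂ g₂ _ + rs S.X₂ g₂ _
    have hr : ∀ g : Z ⟶ Q, (g ≫ q) ≫ b j = ((g ≫ pullback.snd (b j) P.w) ≫ P.c.π.app j) ≫ b j := fun g => by
      rw [Category.assoc, hqb]; simp only [Category.assoc]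
    have hres : ∀ g : Z ⟶ Q, rs S.X₁ g (ev j f q (pullback.snd (b j) P.w ≫ P.c.π.app j) hqb) =
        ev j f (g ≫ q) ((g ≫ pullback.snd (b j) P.w) ≫ P.c.π.app j) (hr g) := fun g => by
      refine (ev_res j f g _ _ hqb (by simp only [Category.assoc, hqb])).trans ?_
      simp only [Category.assoc]
    rw [← rs_comp, ← rs_comp, ← rs_natural, ← rs_natural, hres g₁, hres g₂]
    have h2 : (g₁ ≫ pullback.snd (b j) P.w) ≫ P.w = (g₂ ≫ pullback.snd (b j) P.w) ≫ P.w := by
      rw [Category.assoc, Category.assoc, ← pullback.condition, ← Category.assoc, ← Category.assoc]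
      exact congrArg (fun k => k ≫ b j) hg
    have h3 : ((g₁ ≫ pullback.snd (b j) P.w) ≫ P.c.π.app j) ≫ b j =
        ((g₂ ≫ pullback.snd (b j) P.w) ≫ P.c.π.app j) ≫ b j := by
      exact (Category.assoc _ _ _).trans ((congrArg (fun k => _ ≫ k) (P.w_eq j)).trans (h2.trans
        ((congrArg (fun k => _ ≫ k) (P.w_eq j).symm).trans (Category.assoc _ _ _).symm)))
    have h4 := congrArg (S.f.hom.app (op Z)) (cocycle (g₂ ≫ q)
      ((g₁ ≫ pullback.snd (b j) P.w) ≫ P.c.π.app j) ((g₂ ≫ pullback.snd (b j) P.w) ≫ P.c.π.app j)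
      (by rw [← hg]; exact hr g₁) h3)
    rw [map_add, evW j f _ _ h2 h3] at h4
    simp only [hg]
    rw [← h4]
    abel
  refine ⟨V, P.a.app j, t, fun x => (b j).left.surjective x, ?_⟩
  refine eq_of_cover S.X₃ q hq ?_
  refine (rs_natural S.g q t).symm.trans ((congrArg (S.g.hom.app (op Q)) ht).trans ?_)
  show S.g.hom.app _ (_ + _) = _
  rw [map_add, rs_natural, hs, ← rs_comp, ← rs_comp]
  rw [show S.g.hom.app (op Q) (S.f.hom.app (op Q) _) = 0 from
    ConcreteCategory.congr_hom (congrArg (fun k => k.hom.app (op Q)) S.zero) _, add_zero]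
  exact congrArg (fun k => rs S.X₃ k x) pullback.condition.symm

include e in
theorem epi_epsPush_map (hS : S.ShortExact) : Epi ((ProEtS.epsPush X).map S.g) := by
  refine (Sheaf.isLocallySurjective_iff_epi' AddCommGrpCat.{u + 1} _).mp ⟨fun {U} x => ?_⟩
  refine (L27.EtSite.mem_topology_iff _).mpr fun u => ?_
  obtain ⟨W, hW, huW, -⟩ := exists_isAffineOpen_mem_and_subset (U := (⊤ : U.left.Opens))
    (TopologicalSpace.Opens.mem_top u)
  haveI : AlgebraicGeometry.Etale U.hom := U.prop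
  let U' : X.Etale := Scheme.Etale.mk (W.ι ≫ U.hom)
  let g₀ : U' ⟶ U := MorphismProperty.Over.homMk W.ι rfl
  haveI : IsAffine U'.left := hW
  obtain ⟨V, g, y, hg, hy⟩ := exists_lift_affine S e hS U' (rs S.X₃ ((ProEtS.eps X).map g₀) x)
  obtain ⟨v, hv⟩ := hg (⟨u, huW⟩ : W)
  refine ⟨V, g ≫ g₀, v, ⟨y, ?_⟩, congrArg (fun z : W => z.1) hv⟩
  refine hy.trans ?_
  rw [← rs_comp, ← Functor.map_comp]
  rfl

end Groth.L28.ProEt
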