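import Groth.Agent.L28.ProEt.WCFinitePres
import Groth.Agent.L28.ProEt.Ext
import Groth.Agent.L27.ProEt.Covers
import Mathlib.AlgebraicGeometry.Morphisms.Finite
import Mathlib.AlgebraicGeometry.Morphisms.FinitePresentation
import Mathlib.AlgebraicGeometry.Morphisms.ClosedImmersion
import Mathlib.Algebra.Homology.ShortComplex.ExactFunctor

/-!
Exactness of direct images on the pro-étale site along finite morphisms.
-/

set_option autoImplicit false
set_option linter.style.haveILetI false

universe u

open CategoryTheory CategoryTheory.Limits AlgebraicGeometry Opposite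

set_option backward.isDefEq.respectTransparency.types false

namespace Groth.L28.ProEt.PushExact

variable {Z X : Scheme.{u}} (f : Z ⟶ X) [ProEtS.PCont f]

theorem exact_pushP (h : ∀ V : X.ProEt, IsAffine V.left → EtPBC.IsWContractible ↥(Γ(V.left, ⊤)) →
      ProEtS.IsWC ((ProEtS.bcP f).obj V)) :
    PreservesFiniteLimits (ProEtS.pushP f) ∧ PreservesFiniteColimits (ProEtS.pushP f) := by
  haveI : PreservesFiniteLimits (ProEtS.pushP f) := by
    haveI := (ProEtS.pullPushAdjP f).rightAdjoint_preservesLimits.{0, 0}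
    exact PreservesLimitsOfSize.preservesFiniteLimits _
  refine ((Functor.exact_tfae (ProEtS.pushP f)).out 0 3).1 fun S hS => ?_
  haveI := hS.mono_f
  haveI := hS.epi_g
  haveI : Mono (S.map (ProEtS.pushP f)).f := inferInstanceAs (Mono ((ProEtS.pushP f).map S.f))
  haveI : Epi (S.map (ProEtS.pushP f)).g := by
    refine (Sheaf.isLocallySurjective_iff_epi' AddCommGrpCat.{u + 1} ((ProEtS.pushP f).map S.g)).mp ⟨fun {U} x => ?_⟩
    obtain ⟨ι, W, hW, hc⟩ := L27.ProEt.exists_affineOpens_cover U.left
    obtain ⟨V, g, hmem, -, hV⟩ := L27.ProEt.exists_wContractible_family U W hW hc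
    refine GrothendieckTopology.superset_covering _ ?_ hmem
    rw [Sieve.generate_le_iff, Presieve.ofArrows_le_iff]
    intro i
    exact surjective_of_isWC S.g (h _ (hV i).1 (hV i).2) (((ProEtS.pushP f).obj S.X₃).obj.map (g i).op x)
  exact { exact := hS.exact.map_of_mono_of_preservesKernel _ inferInstance inferInstance }

omit [ProEtS.PCont f] in
theorem isWC_of_isWContractible_appTop [IsAffineHom f]
    (h : ∀ (V : Scheme.{u}) (W : Scheme.{u}) (q : W ⟶ V) (a : V ⟶ X) (b : W ⟶ Z), IsPullback q b a f → IsAffine V →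
      IsAffine W → EtPBC.IsWContractible ↥(Γ(V, ⊤)) → EtPBC.IsWContractible ↥(Γ(W, ⊤)))
    (V : X.ProEt) [IsAffine V.left] (hV : EtPBC.IsWContractible ↥(Γ(V.left, ⊤))) :
    ProEtS.IsWC ((ProEtS.bcP f).obj V) := by
  let q : ((ProEtS.bcP f).obj V).left ⟶ V.left := pullback.fst V.hom f
  let b : ((ProEtS.bcP f).obj V).left ⟶ Z := pullback.snd V.hom f
  haveI : IsAffineHom q := MorphismProperty.pullback_fst _ _ ‹IsAffineHom f›
  haveI : IsAffine ((ProEtS.bcP f).obj V).left := isAffine_of_isAffineHom q
  exact L27.ProEt.isWC_of_isWContractible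
    (h _ _ q V.hom b (IsPullback.of_hasPullback V.hom f) ‹_› ‹_› hV)

theorem exact_pushP_of_finite [IsFinite f] [LocallyOfFinitePresentation f] :
    PreservesFiniteLimits (ProEtS.pushP f) ∧ PreservesFiniteColimits (ProEtS.pushP f) := by
  refine exact_pushP f fun V hV hwc => isWC_of_isWContractible_appTop f (fun V W q a b hP _ _ h => ?_) V hwc
  haveI : IsFinite q := MorphismProperty.of_isPullback hP.flip ‹IsFinite f›
  haveI : LocallyOfFinitePresentation q := MorphismProperty.of_isPullback hP.flip ‹LocallyOfFinitePresentation f›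
  letI := q.appTop.hom.toAlgebra
  haveI : Module.Finite ↥Γ(V, ⊤) ↥Γ(W, ⊤) := Scheme.Hom.finite_appTop q
  haveI : Algebra.FinitePresentation ↥Γ(V, ⊤) ↥Γ(W, ⊤) :=
    HasRingHomProperty.appTop (P := @LocallyOfFinitePresentation) q inferInstance
  exact WC.isWContractible_of_finite_presentation h

omit [ProEtS.PCont f] in
theorem isWC_bcP_of_closedImmersion [IsClosedImmersion f] (hr : IsRetrocompact (Set.range f)ᶜ)
    (V : X.ProEt) [IsAffine V.left] (hwc : EtPBC.IsWContractible ↥(Γ(V.left, ⊤))) :
    ProEtS.IsWC ((ProEtS.bcP f).obj V) := by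
  refine isWC_of_isWContractible_appTop f (fun V W q a b hP _ _ h => ?_) V hwc
  haveI : IsClosedImmersion q := MorphismProperty.of_isPullback hP.flip ‹IsClosedImmersion f›
  let U : X.Opens := ⟨(Set.range f)ᶜ, f.isClosedEmbedding.isClosed_range.isOpen_compl⟩
  haveI : QuasiCompact U.ι := quasiCompact_iff_isSpectralMap.mpr (IsRetrocompact_iff_isSpectralMap_subtypeVal.mp hr)
  have hc : IsCompact ((Set.range q)ᶜ : Set V) := by
    have hq : Set.range q = a ⁻¹' Set.range f := by
      rw [← Scheme.Pullback.range_fst, ← hP.isoPullback_hom_fst]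
      exact hP.isoPullback.hom.homeomorph.surjective.range_comp (pullback.fst a f)
    rw [hq, Set.compl_def]
    let p : pullback a U.ι ⟶ V := pullback.fst a U.ι
    haveI : QuasiCompact p := MorphismProperty.pullback_fst _ _ ‹QuasiCompact U.ι›
    haveI : CompactSpace ↑(pullback a U.ι) := QuasiCompact.compactSpace_of_compactSpace p
    rw [show {x | x ∉ a ⁻¹' Set.range f} = Set.range p by
      rw [Scheme.Pullback.range_fst, Scheme.Opens.range_ι]; rfl]
    exact isCompact_range p.continuous
  letI := q.appTop.hom.toAlgebra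
  have hs : Function.Surjective (algebraMap ↥Γ(V, ⊤) ↥Γ(W, ⊤)) :=
    (IsClosedImmersion.isAffine_surjective_of_isAffine q).2
  refine WC.isWContractible_of_surjective hs ?_ h
  let r : PrimeSpectrum ↥Γ(W, ⊤) → PrimeSpectrum ↥Γ(V, ⊤) := Spec.map q.appTop
  have hrange : Set.range r = V.isoSpec.hom '' Set.range q := by
    show Set.range (Spec.map q.appTop) = _
    rw [← Set.range_comp]
    refine Eq.trans ?_ (congrArg (fun g : W ⟶ Spec Γ(V, ⊤) => Set.range g) (Scheme.isoSpec_hom_naturality q))
    exact (W.isoSpec.hom.homeomorph.surjective.range_comp _).symm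
  have hcl : IsClosed (Set.range r) := (PrimeSpectrum.isClosedEmbedding_comap_of_surjective _ _ hs).isClosed_range
  have hcc : IsCompact (Set.range r)ᶜ := by
    rw [hrange]
    have he : (V.isoSpec.hom '' Set.range q)ᶜ = V.isoSpec.hom '' (Set.range q)ᶜ :=
      (Set.image_compl_eq V.isoSpec.hom.homeomorph.bijective).symm
    exact (congrArg IsCompact he).mpr (hc.image V.isoSpec.hom.continuous)
  exact Topology.isConstructible_compl.mp ((hcc.isRetrocompact hcl.isOpen_compl).isConstructible hcl.isOpen_compl)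

theorem exact_pushP_of_closedImmersion [IsClosedImmersion f] (hr : IsRetrocompact (Set.range f)ᶜ) :
    PreservesFiniteLimits (ProEtS.pushP f) ∧ PreservesFiniteColimits (ProEtS.pushP f) :=
  exact_pushP f fun V _ hwc => isWC_bcP_of_closedImmersion f hr V hwc

end Groth.L28.ProEt.PushExact
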