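import Groth.Agent.L28.ProEt.WC
import Groth.Agent.L27.ProEt.Sections

/-!
Kernels of quotient maps modulo an arbitrary ideal on weakly contractible affine objects.
-/

set_option autoImplicit false
set_option linter.style.haveILetI false

universe u

open CategoryTheory CategoryTheory.Limits AlgebraicGeometry Opposite

set_option backward.isDefEq.respectTransparency.types false

namespace Groth.L28.ProEt

variable {Λ : Type (u + 1)} [CommRing Λ] {X : Scheme.{u}} (I : Ideal Λ)

/-- the naive quotient presheaf -/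
noncomputable def quotPre (F : EtModW.ModP Λ X) : X.ProEtᵒᵖ ⥤ ModuleCat.{u + 1} Λ where
  obj U := ModuleCat.of Λ (F.obj.obj U ⧸ I • (⊤ : Submodule Λ (F.obj.obj U)))
  map {U V} f := ModuleCat.ofHom (Submodule.mapQ _ _ (F.obj.map f).hom
    (Submodule.smul_le.2 fun a ha x _ => by
      rw [Submodule.mem_comap, map_smul]
      exact Submodule.smul_mem_smul ha Submodule.mem_top))
  map_id U := by
    ext x
    exact congrArg Submodule.Quotient.mk (ConcreteCategory.congr_hom (F.obj.map_id U) x)
  map_comp f g := by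
    ext x
    exact congrArg Submodule.Quotient.mk (ConcreteCategory.congr_hom (F.obj.map_comp f g) x)

/-- the projection to its sheafification -/
noncomputable def quotMap (F : EtModW.ModP Λ X) :
    F ⟶ (presheafToSheaf (Scheme.ProEt.topology X) (ModuleCat.{u + 1} Λ)).obj (quotPre I F) :=
  ⟨({ app := fun _ => ModuleCat.ofHom (Submodule.mkQ _), naturality := fun _ _ _ => rfl } : F.obj ⟶ quotPre I F) ≫
    toSheafify (Scheme.ProEt.topology X) (quotPre I F)⟩

theorem homKilledBy_quotMap (F : EtModW.ModP Λ X) : ARSys.HomKilledBy I (quotMap I F) := by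
  intro a ha
  refine Sheaf.hom_ext (NatTrans.ext (funext fun U => ConcreteCategory.hom_ext _ _ fun x => ?_))
  show a • (toSheafify _ (quotPre I F)).app U (Submodule.Quotient.mk x) = 0
  refine (map_smul ((toSheafify _ (quotPre I F)).app U).hom a _).symm.trans ?_
  have h0 : a • Submodule.Quotient.mk (p := I • (⊤ : Submodule Λ (F.obj.obj U))) x = 0 :=
    (Submodule.Quotient.mk_eq_zero _).mpr (Submodule.smul_mem_smul ha Submodule.mem_top)
  exact (congrArg ((toSheafify _ (quotPre I F)).app U).hom h0).trans (map_zero _)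

/-- extension by zero along a decomposition -/
theorem mem_smul_of_decomposition (F : EtModW.ModP Λ X) {W : X.ProEt} {n : ℕ} (P : Fin n → W.left.Opens)
    (hd : Pairwise fun k l => Disjoint (P k : Set W.left) (P l)) (hc : (⋃ k, (P k : Set W.left)) = Set.univ)
    (x : F.obj.obj (op W))
    (h : ∀ k, F.obj.map (L27.ProEt.mkOpenHom W (P k)).op x ∈
      I • (⊤ : Submodule Λ (F.obj.obj (op (L27.ProEt.mkOpen W (P k)))))) :
    x ∈ I • (⊤ : Submodule Λ (F.obj.obj (op W))) := by
  classical
  haveI : ∀ k : ULift.{u} (Fin n), IsOpenImmersion (L27.ProEt.mkOpenHom W (P k.down)).left := fun k =>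
    inferInstanceAs (IsOpenImmersion (P k.down).ι)
  have hb' := Groth.L27.ProEt.bijective_sheaf_of_disjoint
    ((sheafCompose (Scheme.ProEt.topology X) (forget (ModuleCat.{u + 1} Λ))).obj F)
    (fun k : ULift.{u} (Fin n) => L27.ProEt.mkOpen W (P k.down)) (fun k => L27.ProEt.mkOpenHom W (P k.down))
    (fun k l hkl => by
      show Disjoint (Set.range (P k.down).ι) (Set.range (P l.down).ι)
      rw [Scheme.Opens.range_ι, Scheme.Opens.range_ι]
      exact hd fun e => hkl (ULift.ext _ _ e))
    (fun z => by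
      obtain ⟨k, hk⟩ := Set.mem_iUnion.mp (hc.ge (Set.mem_univ z))
      exact ⟨⟨k⟩, ⟨z, hk⟩, rfl⟩)
  let r : F.obj.obj (op W) →ₗ[Λ] (∀ k, F.obj.obj (op (L27.ProEt.mkOpen W (P k)))) :=
    LinearMap.pi fun k => (F.obj.map (L27.ProEt.mkOpenHom W (P k)).op).hom
  have hb : Function.Bijective r :=
    ((Equiv.piCongrLeft' _ Equiv.ulift).bijective.comp hb' :)
  let e := LinearEquiv.ofBijective r hb
  have hmap : I • (⊤ : Submodule Λ (∀ k, F.obj.obj (op (L27.ProEt.mkOpen W (P k))))) =
      (I • (⊤ : Submodule Λ (F.obj.obj (op W)))).map e.toLinearMap := by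
    rw [Submodule.map_smul'', Submodule.map_top, LinearMap.range_eq_top.mpr e.surjective]
  have hx : e x ∈ I • (⊤ : Submodule Λ (∀ k, F.obj.obj (op (L27.ProEt.mkOpen W (P k))))) := by
    rw [← Finset.univ_sum_single (e x)]
    refine Submodule.sum_mem _ fun k _ => ?_
    have := Submodule.mem_map_of_mem (f := LinearMap.single Λ (fun k => F.obj.obj (op (L27.ProEt.mkOpen W (P k)))) k)
      (show e x k ∈ I • (⊤ : Submodule Λ (F.obj.obj (op (L27.ProEt.mkOpen W (P k))))) from h k)
    rw [Submodule.map_smul''] at this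
    exact Submodule.smul_mono le_rfl le_top this
  rw [hmap] at hx
  obtain ⟨y, hy, he⟩ := hx
  exact e.injective he ▸ hy

theorem mem_smul_of_isQuot {F Q : EtModW.ModP Λ X} {p : F ⟶ Q} (hp : ARSys.IsQuot I p) {W : X.ProEt}
    [IsAffine W.left] (hW : EtPBC.IsWContractible ↥(Γ(W.left, ⊤))) (x : F.obj.obj (op W))
    (hx : p.hom.app (op W) x = 0) : x ∈ I • (⊤ : Submodule Λ (F.obj.obj (op W))) := by
  obtain ⟨ψ, hψ, -⟩ := hp.2 _ (quotMap I F) (homKilledBy_quotMap I F)
  have h0 : (quotMap I F).hom.app (op W) x = 0 := by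
    rw [← hψ]
    exact (congrArg (ψ.hom.app (op W)) hx).trans (map_zero _)
  obtain ⟨n, P, -, hd, hc, hR⟩ := Groth.L27.ProEt.exists_refinement hW
    (Presheaf.equalizerSieve_mem (Scheme.ProEt.topology X) (toSheafify _ (quotPre I F))
      (Submodule.Quotient.mk x : (quotPre I F).obj (op W)) 0 (h0.trans (map_zero _).symm))
  refine mem_smul_of_decomposition I F P hd hc x fun k => (Submodule.Quotient.mk_eq_zero _).mp ?_
  exact (hR k).trans (map_zero _)

theorem epi_of_isQuot {I : Ideal Λ} {F Q : EtModW.ModP Λ X} {p : F ⟶ Q} (hp : ARSys.IsQuot I p) : Epi p :=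
  Preadditive.epi_of_cancel_zero _ fun {Y} g hg =>
    (hp.2 Y 0 fun a _ => smul_zero a).unique hg comp_zero

end Groth.L28.ProEt
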