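import Groth.Agent.L27.ProEt.Covers
import Groth.Agent.L27.ProEt.Continuity
import Mathlib.CategoryTheory.Limits.Constructions.Over.Connected
import Mathlib.CategoryTheory.Filtered.Connected

/-!
An affine object of the small étale site is covered by a weakly contractible limit of affine objects of it.
-/

set_option autoImplicit false
set_option linter.style.haveILetI false

universe u

open CategoryTheory CategoryTheory.Limits AlgebraicGeometry Opposite

namespace Groth.L28.ProEt

variable {X : Scheme.{u}}

/-- A weakly contractible covering by a limit of étale objects. -/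
structure ProCover (U : X.Etale) where
  /-- The index category. -/
  I : Type u
  [cat : SmallCategory I]
  [cofiltered : IsCofiltered I]
  /-- The stages. -/
  D : I ⥤ X.Etale
  /-- The structure maps of the stages. -/
  a : D ⟶ (Functor.const I).obj U
  affine : ∀ i, IsAffine (D.obj i).left
  /-- The limit. -/
  c : Cone (D ⋙ ProEtS.eps X)
  isLimit : IsLimit ((Scheme.ProEt.forget X ⋙ Over.forget X).mapCone c)
  /-- The covering map. -/
  w : c.pt ⟶ (ProEtS.eps X).obj U
  w_eq : ∀ i, c.π.app i ≫ (ProEtS.eps X).map (a.app i) = w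
  affine_pt : IsAffine c.pt.left
  surjective : Surjective w.left
  isWC : ProEtS.IsWC c.pt

attribute [instance] ProCover.cat ProCover.cofiltered

set_option backward.isDefEq.respectTransparency.types false in
theorem exists_proCover (U : X.Etale) [IsAffine U.left] : Nonempty (ProCover U) := by
  obtain ⟨B, instB, instA, hff, hB, hWC⟩ := L27.WContractible.exists_cover Γ(U.left, ⊤)
  obtain ⟨J, hJ₁, hJ₂, D, cc, hcc, het, ⟨e⟩⟩ := id hB
  haveI : AlgebraicGeometry.Etale U.hom := U.prop
  let ι : Spec Γ(U.left, ⊤) ⟶ U.left := U.left.isoSpec.inv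
  let st : J → X.Etale := fun j =>
    haveI : AlgebraicGeometry.Etale (Spec.map (D.obj j).hom) :=
      (HasRingHomProperty.Spec_iff (P := @AlgebraicGeometry.Etale)).mpr
        (by
          letI := (D.obj j).hom.hom.toAlgebra
          exact RingHom.etale_algebraMap.mpr (het j))
    Scheme.Etale.mk (Spec.map (D.obj j).hom ≫ ι ≫ U.hom)
  have hst : ∀ {i j : J} (f : i ⟶ j), Spec.map (D.map f).right ≫ Spec.map (D.obj i).hom = Spec.map (D.obj j).hom :=
    fun f => (Spec.map_comp _ _).symm.trans (congrArg Spec.map (Under.w (D.map f)))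
  let E : Jᵒᵖ ⥤ X.Etale :=
    { obj := fun j => st j.unop
      map := fun {i j} f => MorphismProperty.Over.homMk (Spec.map (D.map f.unop).right)
        ((Category.assoc _ _ _).symm.trans (congrArg (fun k => k ≫ ι ≫ U.hom) (hst f.unop)))
      map_id := fun i => MorphismProperty.Over.Hom.ext (by
        show Spec.map (D.map (𝟙 i.unop)).right = 𝟙 _
        rw [D.map_id]; exact Spec.map_id _)
      map_comp := fun f g => MorphismProperty.Over.Hom.ext (by
        show Spec.map (D.map (g.unop ≫ f.unop)).right = Spec.map _ ≫ Spec.map _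
        rw [D.map_comp]; exact Spec.map_comp _ _) }
  let a : E ⟶ (Functor.const Jᵒᵖ).obj U :=
    { app := fun j => MorphismProperty.Over.homMk (Spec.map (D.obj j.unop).hom ≫ ι) (Category.assoc _ _ _)
      naturality := fun i j f => MorphismProperty.Over.Hom.ext
        (((Category.assoc _ _ _).symm.trans (congrArg (fun k => k ≫ ι) (hst f.unop))).trans (Category.comp_id _).symm) }
  have he : cc.pt.hom ≫ e.hom.right = CommRingCat.ofHom (algebraMap Γ(U.left, ⊤) B) := Under.w e.hom
  have he' : IsIso e.hom.right := inferInstanceAs (IsIso ((Under.forget _).map e.hom))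
  haveI : WeaklyEtale (Spec.map (CommRingCat.ofHom (algebraMap Γ(U.left, ⊤) B))) :=
    (Groth.L20.weaklyEtale_specMap_iff _).mpr (by
      have e' : (CommRingCat.ofHom (algebraMap Γ(U.left, ⊤) B)).hom.toAlgebra = instA :=
        Algebra.algebra_ext _ _ fun r => rfl
      rw [e']
      exact L27.IndEtale.weaklyEtale _ B hB)
  haveI : Surjective (Spec.map (CommRingCat.ofHom (algebraMap Γ(U.left, ⊤) B))) :=
    ⟨fun x => PrimeSpectrum.comap_surjective_of_faithfullyFlat (A := Γ(U.left, ⊤)) (B := B) x⟩
  have hp : cc.pt.hom = CommRingCat.ofHom (algebraMap Γ(U.left, ⊤) B) ≫ inv e.hom.right :=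
    (IsIso.eq_comp_inv _).2 he
  let p : Spec cc.pt.right ⟶ Spec Γ(U.left, ⊤) := Spec.map cc.pt.hom
  have hp' : p = Spec.map (inv e.hom.right) ≫ Spec.map (CommRingCat.ofHom (algebraMap Γ(U.left, ⊤) B)) :=
    (congrArg Spec.map hp).trans (Spec.map_comp _ _)
  haveI : WeaklyEtale p := hp' ▸ inferInstance
  haveI : Surjective p := hp' ▸ inferInstance
  let f : Spec cc.pt.right ⟶ U.left := p ≫ ι
  haveI : WeaklyEtale f := inferInstanceAs (WeaklyEtale (p ≫ U.left.isoSpec.inv))
  haveI : Surjective f := inferInstanceAs (Surjective (p ≫ U.left.isoSpec.inv))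
  have hcw : ∀ j, Spec.map (cc.ι.app j).right ≫ Spec.map (D.obj j).hom = p := fun j =>
    (Spec.map_comp _ _).symm.trans (congrArg Spec.map (Under.w (cc.ι.app j)))
  let c : Cone (E ⋙ ProEtS.eps X) :=
    { pt := @L27.ProEt.mkOver X ((ProEtS.eps X).obj U) _ f (inferInstanceAs (WeaklyEtale (p ≫ U.left.isoSpec.inv)))
      π :=
        { app := fun j => MorphismProperty.Over.homMk (Spec.map (cc.ι.app j.unop).right)
            (((Category.assoc _ _ _).symm.trans (congrArg (fun k => k ≫ ι ≫ U.hom) (hcw j.unop))).trans
              (Category.assoc _ _ _).symm)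
          naturality := fun i j g => MorphismProperty.Over.Hom.ext ((Category.id_comp _).trans (by
            show Spec.map (cc.ι.app j.unop).right = Spec.map (cc.ι.app i.unop).right ≫ Spec.map (D.map g.unop).right
            exact (congrArg (fun k => Spec.map (k : D.obj j.unop ⟶ cc.pt).right) (cc.w g.unop).symm).trans
              (Spec.map_comp _ _))) } }
  haveI : IsAffine c.pt.left := inferInstanceAs (IsAffine (Spec _))
  refine ⟨{
    I := Jᵒᵖ, D := E, a := a, affine := fun j => inferInstanceAs (IsAffine (Spec _)), c := c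
    isLimit := ?_, w := @L27.ProEt.mkOverMap X ((ProEtS.eps X).obj U) _ f (inferInstanceAs (WeaklyEtale (p ≫ U.left.isoSpec.inv)))
    w_eq := fun j => MorphismProperty.Over.Hom.ext
      ((Category.assoc _ _ _).symm.trans (congrArg (fun k => k ≫ ι) (hcw j.unop)))
    affine_pt := inferInstance, surjective := inferInstanceAs (Surjective f)
    isWC := ?_ }⟩
  · haveI : IsConnected J := IsFiltered.isConnected J
    exact isLimitOfPreserves Scheme.Spec (isColimitOfPreserves (Under.forget _) hcc).op
  · let eB : CommRingCat.of B ≅ Γ(c.pt.left, ⊤) :=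
      (asIso e.hom.right).symm ≪≫ (Scheme.ΓSpecIso cc.pt.right).symm
    exact L27.ProEt.isWC_of_isWContractible (L27.ProEt.isWContractible_of_ringEquiv eB.commRingCatIsoToRingEquiv hWC)

end Groth.L28.ProEt
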