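import Groth.Agent.L28.ProEt.Limit
import Groth.Agent.L28.Lisse.Global
import Groth.Agent.L28.Strata.EtMod

/-!
Lisse stratifications of adic sheaves on the pro-étale site.
-/

set_option autoImplicit false
set_option linter.style.haveILetI false

universe u

open CategoryTheory CategoryTheory.Limits AlgebraicGeometry Opposite

set_option backward.isDefEq.respectTransparency.types false

namespace Groth.L28.ProEt

variable {Λ : Type (u + 1)} [CommRing Λ] {X T : Scheme.{u}}

/-- base change commutes with the inclusion of the étale into the pro-étale site -/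
noncomputable def epsBc (g : T ⟶ X) : ProEtS.eps X ⋙ ProEtS.bcP g ≅ EtCoh.bc g ⋙ ProEtS.eps T :=
  NatIso.ofComponents (fun U => Iso.refl _) fun {U V} f => by
    refine (Category.comp_id _).trans (Eq.trans ?_ (Category.id_comp _).symm)
    exact MorphismProperty.Over.Hom.ext rfl

/-- inverse images commute with `ε⁻¹` -/
noncomputable def pullEps (g : T ⟶ X) [ProEtS.EpsCont X] [ProEtS.EpsCont T] [ProEtS.PCont g] :
    EtModW.epsPullMod Λ X ⋙ (ProEtS.bcP g).sheafPullback (ModuleCat.{u + 1} Λ) (Scheme.ProEt.topology X)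
        (Scheme.ProEt.topology T) ≅
      EtModW.pull Λ g ⋙ EtModW.epsPullMod Λ T :=
  haveI : (EtCoh.bc g ⋙ ProEtS.eps T).IsContinuous X.smallEtaleTopology (Scheme.ProEt.topology T) :=
    Functor.isContinuous_comp (EtCoh.bc g) (ProEtS.eps T) X.smallEtaleTopology T.smallEtaleTopology (Scheme.ProEt.topology T)
  Adjunction.leftAdjointUniq
    ((epsAdjMod Λ X).comp ((ProEtS.bcP g).sheafAdjunctionContinuous (ModuleCat.{u + 1} Λ) (Scheme.ProEt.topology X)
      (Scheme.ProEt.topology T)))
    (((Strata.pullPushAdjMod g).comp (epsAdjMod Λ T)).ofNatIsoRight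
      (Functor.sheafPushforwardContinuousComp' (F := EtCoh.bc g) (G := ProEtS.eps T) (FG := EtCoh.bc g ⋙ ProEtS.eps T)
          (Iso.refl _) (ModuleCat.{u + 1} Λ) X.smallEtaleTopology T.smallEtaleTopology (Scheme.ProEt.topology T) ≪≫
        (Functor.sheafPushforwardContinuousComp' (F := ProEtS.eps X) (G := ProEtS.bcP g) (FG := EtCoh.bc g ⋙ ProEtS.eps T)
          (epsBc g) (ModuleCat.{u + 1} Λ) X.smallEtaleTopology (Scheme.ProEt.topology X) (Scheme.ProEt.topology T)).symm))

variable [∀ T : Scheme.{u}, ProEtS.EpsCont T] [∀ (T : Scheme.{u}) (g : T ⟶ X), ProEtS.PCont g]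

theorem nonempty_pull_iso (g : T ⟶ X) {E : EtModW.Mod Λ X} {Q : EtModW.ModP Λ X}
    (e : (EtModW.epsPullMod Λ X).obj E ≅ Q) :
    Nonempty ((EtModW.epsPullMod Λ T).obj ((EtModW.pull Λ g).obj E) ≅
      ((ProEtS.bcP g).sheafPullback (ModuleCat.{u + 1} Λ) (Scheme.ProEt.topology X) (Scheme.ProEt.topology T)).obj Q) :=
  ⟨((pullEps g).app E).symm ≪≫
    ((ProEtS.bcP g).sheafPullback (ModuleCat.{u + 1} Λ) (Scheme.ProEt.topology X) (Scheme.ProEt.topology T)).mapIso e⟩

end Groth.L28.ProEt
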