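import Groth.Agent.L28.ProEt.IndLift
import Groth.Agent.L28.ProEt.Cech.GoodCover
import Mathlib.AlgebraicGeometry.Morphisms.ClosedImmersion
import Mathlib.CategoryTheory.Sites.DenseSubsite.Basic

/-!
Base change along a closed immersion is cover dense and locally full on small pro-étale sites.
-/

set_option autoImplicit false
set_option linter.style.haveILetI false
set_option linter.unusedSectionVars false

universe u

open CategoryTheory CategoryTheory.Limits AlgebraicGeometry Opposite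

set_option backward.isDefEq.respectTransparency.types false

namespace Groth.L28.ProEt.Closed

open Cech (IndE indE_comp indE_of_iso indE_algebraMap indE_appTop_of_iso)

theorem exists_lift_pushout {A S B : CommRingCat.{u}} (f : A ⟶ S) (hs : Function.Surjective f.hom) (β : S ⟶ B)
    (hβ : IndE β) : ∃ (C : CommRingCat.{u}) (γ : A ⟶ C) (δ : C ⟶ B), IndE γ ∧ IsPushout f γ β δ := by
  let I : Ideal A := RingHom.ker f.hom
  let e : (↥A ⧸ I) ≃+* ↥S := RingHom.quotientKerEquivOfSurjective hs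
  let βe : CommRingCat.of (↥A ⧸ I) ⟶ B := e.toCommRingCatIso.hom ≫ β
  letI : Algebra (↥A ⧸ I) B := βe.hom.toAlgebra
  letI : Algebra ↥A B := ((algebraMap (↥A ⧸ I) B).comp (algebraMap ↥A (↥A ⧸ I))).toAlgebra
  haveI : IsScalarTower ↥A (↥A ⧸ I) B := .of_algebraMap_eq' rfl
  have hB : EtPBC.IsIndEtale (↥A ⧸ I) B :=
    (indE_algebraMap βe).2 (indE_comp (indE_of_iso _) hβ)
  have hef : ∀ a : A, e (Ideal.Quotient.mk I a) = f.hom a := fun a => rfl
  obtain ⟨C, _, _, hC, ⟨e'⟩⟩ := IndLift.exists_indEtale_lift ↥A I B hB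
  let γ : A ⟶ CommRingCat.of C := CommRingCat.ofHom (algebraMap ↥A C)
  let δ : CommRingCat.of C ⟶ B :=
    CommRingCat.ofHom (e'.toAlgHom.toRingHom.comp (Ideal.Quotient.mk _))
  have hδs : Function.Surjective δ.hom := e'.surjective.comp Ideal.Quotient.mk_surjective
  have hcomm : ∀ a : A, δ.hom (γ.hom a) = β.hom (f.hom a) := fun a => by
    rw [← hef]
    exact e'.commutes (Ideal.Quotient.mk I a)
  have hker : ∀ {T : CommRingCat.{u}} (a : S ⟶ T) (b : CommRingCat.of C ⟶ T), f ≫ a = γ ≫ b →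
      ∀ c ∈ I.map (algebraMap ↥A C), b.hom c = 0 := fun a b hab c hc =>
    (Ideal.map_le_iff_le_comap.2 fun x (hx : f.hom x = 0) =>
      ((ConcreteCategory.congr_hom hab x).symm.trans ((congrArg a.hom hx).trans (map_zero a.hom))) :
      I.map (algebraMap ↥A C) ≤ RingHom.ker b.hom) hc
  let d : ∀ {T : CommRingCat.{u}} (a : S ⟶ T) (b : CommRingCat.of C ⟶ T), f ≫ a = γ ≫ b → (B ⟶ T) := fun a b hab =>
    CommRingCat.ofHom ((Ideal.Quotient.lift _ b.hom (hker a b hab)).comp e'.symm.toAlgHom.toRingHom)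
  have hd : ∀ {T : CommRingCat.{u}} (a : S ⟶ T) (b : CommRingCat.of C ⟶ T) (hab : f ≫ a = γ ≫ b) (c : C),
      (d a b hab).hom (δ.hom c) = b.hom c := fun a b hab c =>
    (congrArg (Ideal.Quotient.lift _ b.hom (hker a b hab)) (e'.symm_apply_apply _)).trans
      (Ideal.Quotient.lift_mk _ _ _)
  refine ⟨CommRingCat.of C, γ, δ, (L27.IndEtale.isIndEtale_iff ↥A C).1 hC,
    ⟨⟨CommRingCat.hom_ext (RingHom.ext fun a => (hcomm a).symm)⟩, ⟨PushoutCocone.IsColimit.mk _
      (fun s => d s.inl s.inr s.condition) (fun s => CommRingCat.hom_ext (RingHom.ext fun z => ?_))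
      (fun s => CommRingCat.hom_ext (RingHom.ext fun c => hd s.inl s.inr s.condition c))
      (fun s m h₁ h₂ => CommRingCat.hom_ext (RingHom.ext fun b => ?_))⟩⟩⟩
  · obtain ⟨a, rfl⟩ := hs z
    show (d s.inl s.inr s.condition).hom (β.hom (f.hom a)) = s.inl.hom (f.hom a)
    rw [← hcomm, hd s.inl s.inr s.condition]
    exact (ConcreteCategory.congr_hom s.condition a).symm
  · obtain ⟨c, rfl⟩ := hδs b
    exact (ConcreteCategory.congr_hom h₂ c).trans (hd s.inl s.inr s.condition c).symm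

theorem weaklyEtale_specMap_of_indE {A C : CommRingCat.{u}} {γ : A ⟶ C} (h : IndE γ) : WeaklyEtale (Spec.map γ) := by
  letI := γ.hom.toAlgebra
  exact (Groth.L20.weaklyEtale_specMap_iff γ).mpr (L27.IndEtale.weaklyEtale _ _ ((indE_algebraMap γ).2 h))

theorem exists_indE_enlargement {S R : CommRingCat.{u}} (φ : S ⟶ R) [WeaklyEtale (Spec.map φ)] :
    ∃ (B' : CommRingCat.{u}) (ψ : R ⟶ B'), WeaklyEtale (Spec.map ψ) ∧ Surjective (Spec.map ψ) ∧ IndE (φ ≫ ψ) := by
  letI := φ.hom.toAlgebra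
  haveI : Algebra.WeaklyEtale ↥S ↥R := (Groth.L20.weaklyEtale_specMap_iff φ).1 ‹_›
  obtain ⟨B', _, instB, instA, htow, hff, hB', hA'⟩ := L27.WContractible.exists_indEtale_enlargement ↥S ↥R
    (L27.WContractible.algebraicResidueExtensions _ _)
  let ψ : R ⟶ CommRingCat.of B' := CommRingCat.ofHom (algebraMap _ B')
  refine ⟨CommRingCat.of B', ψ, (Groth.L20.weaklyEtale_specMap_iff ψ).mpr (by
    have e : ψ.hom.toAlgebra = instB := Algebra.algebra_ext _ _ fun r => rfl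
    rw [e]
    exact L27.IndEtale.weaklyEtale _ B' hB'),
    ⟨fun y => PrimeSpectrum.comap_surjective_of_faithfullyFlat (A := R) (B := B') y⟩, ?_⟩
  have e : (φ ≫ ψ).hom.toAlgebra = instA := Algebra.algebra_ext _ _ fun x =>
    (IsScalarTower.algebraMap_apply ↥S ↥R B' x).symm
  refine (indE_algebraMap (φ ≫ ψ)).1 ?_
  rw [e]
  exact hA'

variable {Z X : Scheme.{u}} (i : Z ⟶ X)

/-- ind-étale algebras lift along `i` over affine opens -/
def Lifts : Prop :=
  ∀ (O : X.Opens), IsAffineOpen O → ∀ (B : CommRingCat.{u}) (β : Γ((i ⁻¹ᵁ O).toScheme, ⊤) ⟶ B), IndE β →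
    ∃ (C : CommRingCat.{u}) (γ : Γ(O.toScheme, ⊤) ⟶ C) (δ : C ⟶ B), IndE γ ∧ IsPushout (i ∣_ O).appTop γ β δ

theorem lifts_of_isClosedImmersion [IsClosedImmersion i] : Lifts i := fun O hO B β hβ => by
  haveI : IsAffine O.toScheme := hO
  haveI : IsClosedImmersion (i ∣_ O) := IsZariskiLocalAtTarget.restrict ‹_› O
  exact exists_lift_pushout _ (IsClosedImmersion.isAffine_surjective_of_isAffine (f := i ∣_ O)).2 β hβ

/-- locally, weakly étale schemes over the source extend to weakly étale schemes -/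
theorem exists_lift_affine [IsAffineHom i] (hl : Lifts i) {V : Scheme.{u}} (v : V ⟶ Z) [WeaklyEtale v] (x : V) :
    ∃ (B : V.Opens) (_ : x ∈ B) (V' : Scheme.{u}) (p : V' ⟶ B.toScheme) (W : Scheme.{u}) (w : W ⟶ X) (q : V' ⟶ W),
      WeaklyEtale p ∧ Surjective p ∧ QuasiCompact p ∧ WeaklyEtale w ∧ IsAffine W ∧ IsPullback q (p ≫ B.ι ≫ v) w i := by
  obtain ⟨O, hO, hxO, -⟩ := exists_isAffineOpen_mem_and_subset (U := (⊤ : X.Opens))
    (TopologicalSpace.Opens.mem_top (i (v x)))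
  have hZO : IsAffineOpen (i ⁻¹ᵁ O) := hO.preimage i
  obtain ⟨B, hB, hxB, hle⟩ := exists_isAffineOpen_mem_and_subset (U := v ⁻¹ᵁ (i ⁻¹ᵁ O)) (x := x) hxO
  haveI : IsAffine B.toScheme := hB
  haveI : IsAffine (i ⁻¹ᵁ O).toScheme := hZO
  haveI : IsAffine O.toScheme := hO
  let r : B.toScheme ⟶ (i ⁻¹ᵁ O).toScheme := v.resLE (i ⁻¹ᵁ O) B hle
  haveI : WeaklyEtale (r ≫ (i ⁻¹ᵁ O).ι) := by
    rw [show r ≫ (i ⁻¹ᵁ O).ι = B.ι ≫ v from Scheme.Hom.resLE_comp_ι _ _]
    infer_instance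
  haveI : WeaklyEtale r := MorphismProperty.of_postcomp @WeaklyEtale r (i ⁻¹ᵁ O).ι (inferInstance : WeaklyEtale (i ⁻¹ᵁ O).ι) ‹_›
  let S : CommRingCat.{u} := Γ((i ⁻¹ᵁ O).toScheme, ⊤)
  let φ : S ⟶ Γ(B.toScheme, ⊤) := r.appTop
  haveI hwe : WeaklyEtale (Spec.map φ) :=
    (MorphismProperty.arrow_mk_iso_iff @WeaklyEtale (arrowIsoSpecΓOfIsAffine r)).1 inferInstance
  obtain ⟨B', ψ, _, _, h2⟩ := exists_indE_enlargement φ
  obtain ⟨C, γ, δ, hγ, hpush⟩ := hl O hO _ (φ ≫ ψ) h2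
  haveI := weaklyEtale_specMap_of_indE hγ
  let p : Spec B' ⟶ B.toScheme := Spec.map ψ ≫ B.toScheme.isoSpec.inv
  let w : Spec C ⟶ X := Spec.map γ ≫ O.toScheme.isoSpec.inv ≫ O.ι
  refine ⟨B, hxB, Spec B', p, Spec C, w, Spec.map δ, inferInstance, inferInstance, inferInstance,
    inferInstance, inferInstance, ?_⟩
  have h1 : IsPullback (Spec.map δ) (Spec.map (φ ≫ ψ)) (Spec.map γ) (Spec.map (i ∣_ O).appTop) :=
    (isPullback_SpecMap_of_isPushout _ _ _ _ hpush).flip
  have s1 : IsPullback (Spec.map (i ∣_ O).appTop) (i ⁻¹ᵁ O).toScheme.isoSpec.inv O.toScheme.isoSpec.inv (i ∣_ O) :=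
    IsPullback.of_vert_isIso ⟨Scheme.isoSpec_inv_naturality (i ∣_ O)⟩
  have h3 := h1.paste_vert (s1.paste_vert (isPullback_morphismRestrict i O))
  have e : p ≫ B.ι ≫ v = Spec.map (φ ≫ ψ) ≫ (i ⁻¹ᵁ O).toScheme.isoSpec.inv ≫ (i ⁻¹ᵁ O).ι := by
    rw [← Scheme.Hom.resLE_comp_ι v hle, Spec.map_comp, Category.assoc, Category.assoc]
    refine congrArg (fun k => Spec.map ψ ≫ k) ?_
    rw [← Category.assoc, ← Category.assoc]
    exact congrArg (fun k => k ≫ (i ⁻¹ᵁ O).ι) (Scheme.isoSpec_inv_naturality r).symm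
  rw [e]
  exact h3

/-- the object of `V'` over an object -/
theorem exists_factor_bc {V : Z.ProEt} {Y W : Scheme.{u}} (f : Y ⟶ V.left) [WeaklyEtale f] (w : W ⟶ X)
    [WeaklyEtale w] (q : Y ⟶ W) (h : IsPullback q (f ≫ V.hom) w i) :
    ∃ (T : X.ProEt) (e : L27.ProEt.mkOver f ≅ (ProEtS.bcP i).obj T) (a : T.left ⟶ W),
      e.hom.left ≫ pullback.fst T.hom i ≫ a = q ∧ a ≫ w = T.hom := by
  let T : X.ProEt := Scheme.ProEt.mk w
  refine ⟨T, MorphismProperty.Over.isoMk (A := L27.ProEt.mkOver f) (B := (ProEtS.bcP i).obj T) h.isoPullback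
    h.isoPullback_hom_snd, 𝟙 W, ?_, Category.id_comp _⟩
  exact (congrArg (fun k => h.isoPullback.hom ≫ k) (Category.comp_id _)).trans h.isoPullback_hom_fst

theorem mem_of_lifts {V : Z.ProEt} (S : Sieve V)
    (h : ∀ x : V.left, ∃ (B : V.left.Opens) (_ : x ∈ B) (Y : Scheme.{u}) (p : Y ⟶ B.toScheme) (_ : WeaklyEtale p)
      (_ : Surjective p) (_ : QuasiCompact p), S (L27.ProEt.mkOverMap (p ≫ B.ι))) :
    S ∈ Scheme.ProEt.topology Z V := by
  choose B hxB Y p hp₁ hp₂ hp₃ hS using h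
  refine (Scheme.ProEt.topology Z).transitive
    (L27.ProEt.ofArrows_mkOpenHom_mem B (Set.eq_univ_of_forall fun x => Set.mem_iUnion.2 ⟨x, hxB x⟩)) _ ?_
  rintro T f ⟨_, a, _, ⟨x⟩, rfl⟩
  rw [Sieve.pullback_comp]
  refine (Scheme.ProEt.topology Z).pullback_stable a ?_
  haveI := hp₁ x
  let P : Z.ProEt := L27.ProEt.mkOver (p x ≫ (B x).ι)
  let g : P ⟶ L27.ProEt.mkOpen V (B x) := MorphismProperty.Over.homMk (p x) (Category.assoc _ _ _).symm
  haveI : QuasiCompact g.left := hp₃ x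
  refine GrothendieckTopology.superset_covering _ ?_
    (L27.ProEt.generate_ofArrows_mem_of_quasiCompact (U := L27.ProEt.mkOpen V (B x)) (fun _ : PUnit.{u + 1} => P)
      (fun _ => g) fun z => ⟨PUnit.unit, (hp₂ x).1 z⟩)
  rw [Sieve.generate_le_iff, Presieve.ofArrows_le_iff]
  intro _
  show S (g ≫ L27.ProEt.mkOpenHom V (B x))
  exact hS x

theorem isCoverDense_of_lifts [IsAffineHom i] (hl : Lifts i) : (ProEtS.bcP i).IsCoverDense (Scheme.ProEt.topology Z) := by
  refine ⟨fun V => mem_of_lifts _ fun x => ?_⟩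
  haveI : WeaklyEtale V.hom := V.prop
  obtain ⟨B, hxB, Y, p, W, w, q, hp, hs, hqc, hw, -, hP⟩ := exists_lift_affine i hl V.hom x
  haveI : WeaklyEtale (p ≫ B.ι) := inferInstance
  obtain ⟨T, e, -, -, -⟩ := exists_factor_bc i (p ≫ B.ι) w q (by rwa [Category.assoc])
  exact ⟨B, hxB, Y, p, hp, hs, hqc, ⟨⟨T, e.hom, e.inv ≫ L27.ProEt.mkOverMap (p ≫ B.ι), e.hom_inv_id_assoc _⟩⟩⟩

theorem isLocallyFull_of_lifts [IsAffineHom i]
    (hl : ∀ {T : Scheme.{u}} (c : T ⟶ X), Lifts (pullback.fst c i)) : (ProEtS.bcP i).IsLocallyFull (Scheme.ProEt.topology Z) := by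
  refine ⟨fun {W' W} g => mem_of_lifts _ fun x => ?_⟩
  haveI : WeaklyEtale W'.hom := W'.prop
  haveI : WeaklyEtale W.hom := W.prop
  let c : pullback W'.hom W.hom ⟶ X := pullback.fst _ _ ≫ W'.hom
  haveI : WeaklyEtale (pullback.fst W'.hom W.hom) := MorphismProperty.pullback_fst _ _ ‹WeaklyEtale W.hom›
  haveI : WeaklyEtale c := inferInstance
  let s : ((ProEtS.bcP i).obj W').left ⟶ pullback W'.hom W.hom :=
    pullback.lift (pullback.fst W'.hom i) (g.left ≫ pullback.fst W.hom i) (by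
      refine (pullback.condition (f := W'.hom) (g := i)).trans (Eq.trans ?_ (Category.assoc _ _ _).symm)
      refine Eq.trans ?_ (congrArg (fun k => g.left ≫ k) (pullback.condition (f := W.hom) (g := i))).symm
      exact (congrArg (fun k => k ≫ i) (MorphismProperty.Over.w g)).symm.trans (Category.assoc _ _ _))
  have hs : s ≫ c = pullback.snd W'.hom i ≫ i := by
    exact ((Category.assoc _ _ _).symm.trans (congrArg (fun k => k ≫ W'.hom) (pullback.lift_fst _ _ _))).trans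
      pullback.condition
  let v : ((ProEtS.bcP i).obj W').left ⟶ pullback c i := pullback.lift s (pullback.snd W'.hom i) hs
  haveI : WeaklyEtale (v ≫ pullback.snd c i) := by
    rw [pullback.lift_snd]
    exact ((ProEtS.bcP i).obj W').prop
  haveI : WeaklyEtale (pullback.snd c i) := MorphismProperty.pullback_snd _ _ ‹WeaklyEtale c›
  haveI : WeaklyEtale v := MorphismProperty.of_postcomp @WeaklyEtale v (pullback.snd c i) ‹WeaklyEtale (pullback.snd c i)› ‹_›
  haveI : IsAffineHom (pullback.fst c i) := MorphismProperty.pullback_fst _ _ ‹IsAffineHom i›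
  obtain ⟨B, hxB, Y, p, Q, w, q, hp, hps, hqc, hw, -, hP⟩ := exists_lift_affine (pullback.fst c i) (hl c) v x
  haveI : WeaklyEtale (p ≫ B.ι) := inferInstance
  haveI : WeaklyEtale (w ≫ c) := inferInstance
  have hP' : IsPullback q ((p ≫ B.ι) ≫ ((ProEtS.bcP i).obj W').hom) (w ≫ c) i := by
    have := hP.paste_vert (IsPullback.of_hasPullback c i)
    have e : (p ≫ B.ι ≫ v) ≫ pullback.snd c i = (p ≫ B.ι) ≫ ((ProEtS.bcP i).obj W').hom := by
      rw [Category.assoc, Category.assoc, pullback.lift_snd, Category.assoc]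
      rfl
    rwa [e] at this
  obtain ⟨T, e, a, ha, haw⟩ := exists_factor_bc i (p ≫ B.ι) (w ≫ c) q hP'
  let fa : T ⟶ W' := MorphismProperty.Over.homMk (a ≫ w ≫ pullback.fst _ _) (by
    rw [Category.assoc, Category.assoc]; exact haw)
  let fb : T ⟶ W := MorphismProperty.Over.homMk (a ≫ w ≫ pullback.snd _ _) (by
    rw [Category.assoc, Category.assoc, ← pullback.condition]; exact haw)
  refine ⟨B, hxB, Y, p, hp, hps, hqc, ?_⟩
  have key : ∀ {T' : X.ProEt} (f : T ⟶ T'),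
      (e.hom ≫ (ProEtS.bcP i).map f).left ≫ pullback.fst T'.hom i = e.hom.left ≫ pullback.fst T.hom i ≫ f.left :=
    fun f => (Category.assoc _ _ _).trans (congrArg (fun k => e.hom.left ≫ k) (pullback.lift_fst _ _ _))
  have hA : ∀ {T' : X.ProEt} (f : T ⟶ T') (π : pullback W'.hom W.hom ⟶ T'.left), f.left = a ≫ w ≫ π →
      (e.hom ≫ (ProEtS.bcP i).map f).left ≫ pullback.fst T'.hom i = (p ≫ B.ι) ≫ s ≫ π := fun f π hf => by
    rw [key, hf]
    have h1 : (p ≫ B.ι ≫ v) ≫ pullback.fst c i = q ≫ w := hP.w.symm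
    have h2 : v ≫ pullback.fst c i = s := pullback.lift_fst _ _ _
    have h3 : e.hom.left ≫ pullback.fst T.hom i ≫ a ≫ w ≫ π = (e.hom.left ≫ pullback.fst T.hom i ≫ a) ≫ w ≫ π :=
      (congrArg (fun k => e.hom.left ≫ k) (Category.assoc _ _ _).symm).trans (Category.assoc _ _ _).symm
    refine h3.trans ((congrArg (fun k => k ≫ w ≫ π) ha).trans ?_)
    refine (Category.assoc _ _ _).symm.trans ((congrArg (fun k => k ≫ π) h1.symm).trans ?_)
    refine (Category.assoc _ _ _).trans (Eq.trans ?_ (congrArg (fun k => (p ≫ B.ι) ≫ k) (congrArg (fun k => k ≫ π) h2)))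
    exact ((Category.assoc _ _ _).trans (congrArg (fun k => p ≫ k) ((Category.assoc _ _ _)))).trans
      (((congrArg (fun k => p ≫ B.ι ≫ k) (Category.assoc v (pullback.fst c i) π).symm)).trans (Category.assoc _ _ _).symm)
  have e1 : e.hom ≫ (ProEtS.bcP i).map fa = L27.ProEt.mkOverMap (p ≫ B.ι) := by
    refine MorphismProperty.Over.Hom.ext (pullback.hom_ext ?_ ?_)
    · exact (hA fa _ rfl).trans (congrArg (fun k => (p ≫ B.ι) ≫ k) (pullback.lift_fst _ _ _))
    · exact (MorphismProperty.Over.w (e.hom ≫ (ProEtS.bcP i).map fa)).trans rfl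
  have e2 : e.hom ≫ (ProEtS.bcP i).map fb = L27.ProEt.mkOverMap (p ≫ B.ι) ≫ g := by
    refine MorphismProperty.Over.Hom.ext (pullback.hom_ext ?_ ?_)
    · exact (hA fb _ rfl).trans ((congrArg (fun k => (p ≫ B.ι) ≫ k) (pullback.lift_snd _ _ _)).trans
        (Category.assoc _ _ _).symm)
    · exact (MorphismProperty.Over.w (e.hom ≫ (ProEtS.bcP i).map fb)).trans
        (MorphismProperty.Over.w (L27.ProEt.mkOverMap (p ≫ B.ι) ≫ g)).symm
  refine ⟨T, fa, e.hom, ⟨fb, ?_⟩, e1.symm⟩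
  rw [← cancel_epi e.hom, ← Category.assoc, e1, e2]

theorem isCoverDense [IsClosedImmersion i] : (ProEtS.bcP i).IsCoverDense (Scheme.ProEt.topology Z) :=
  isCoverDense_of_lifts i (lifts_of_isClosedImmersion i)

theorem isLocallyFull [IsClosedImmersion i] : (ProEtS.bcP i).IsLocallyFull (Scheme.ProEt.topology Z) :=
  isLocallyFull_of_lifts i fun c => by
    haveI : IsClosedImmersion (pullback.fst c i) := MorphismProperty.pullback_fst _ _ ‹IsClosedImmersion i›
    exact lifts_of_isClosedImmersion _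

end Groth.L28.ProEt.Closed
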