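import Groth.Agent.L28.ProEt.HensSection
import Groth.Agent.L28.ProEt.ClosedDense
import Groth.Agent.L27.ProEt.Sections
import Groth.Agent.L27.ProEt.Continuity
import Groth.Agent.L27.WContractible

/-!
Henselian objects of the small pro-étale site with weakly contractible closed part.
-/

set_option autoImplicit false
set_option linter.style.haveILetI false
set_option linter.unusedSectionVars false

universe u

open CategoryTheory CategoryTheory.Limits AlgebraicGeometry Opposite

set_option backward.isDefEq.respectTransparency.types false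

namespace Groth.L28.ProEt.Closed

open Cech (IndE indE_comp indE_of_iso indE_algebraMap)

/-- the part over the closed subscheme -/
noncomputable abbrev clPart {Z X : Scheme.{u}} (i : Z ⟶ X) (W : X.ProEt) : ((ProEtS.bcP i).obj W).left ⟶ W.left :=
  pullback.fst W.hom i

theorem isPushout_of_surjective {A S H B : CommRingCat.{u}} (f : A ⟶ S) (γ : A ⟶ H) (β : S ⟶ B) (δ : H ⟶ B)
    (w : f ≫ β = γ ≫ δ) (hs : Function.Surjective f.hom) (hδ : Function.Surjective δ.hom)
    (hker : RingHom.ker δ.hom ≤ (RingHom.ker f.hom).map γ.hom) : IsPushout f γ β δ := by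
  have hk : ∀ {T : CommRingCat.{u}} (a : S ⟶ T) (b : H ⟶ T), f ≫ a = γ ≫ b →
      ∀ c ∈ RingHom.ker δ.hom, b.hom c = 0 := fun a b hab c hc =>
    (Ideal.map_le_iff_le_comap.2 fun x (hx : f.hom x = 0) =>
      ((ConcreteCategory.congr_hom hab x).symm.trans ((congrArg a.hom hx).trans (map_zero a.hom))) :
      (RingHom.ker f.hom).map γ.hom ≤ RingHom.ker b.hom) (hker hc)
  let d : ∀ {T : CommRingCat.{u}} (a : S ⟶ T) (b : H ⟶ T), f ≫ a = γ ≫ b → (B ⟶ T) := fun a b hab =>
    CommRingCat.ofHom ((Ideal.Quotient.lift _ b.hom (hk a b hab)).comp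
      (RingHom.quotientKerEquivOfSurjective hδ).symm.toRingHom)
  have hd : ∀ {T : CommRingCat.{u}} (a : S ⟶ T) (b : H ⟶ T) (hab : f ≫ a = γ ≫ b) (c : H),
      (d a b hab).hom (δ.hom c) = b.hom c := fun a b hab c =>
    (congrArg (Ideal.Quotient.lift _ b.hom (hk a b hab))
      ((RingHom.quotientKerEquivOfSurjective hδ).symm_apply_apply (Ideal.Quotient.mk _ c))).trans
      (Ideal.Quotient.lift_mk _ _ _)
  refine ⟨⟨w⟩, ⟨PushoutCocone.IsColimit.mk _ (fun s => d s.inl s.inr s.condition)
    (fun s => CommRingCat.hom_ext (RingHom.ext fun z => ?_))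
    (fun s => CommRingCat.hom_ext (RingHom.ext fun c => hd s.inl s.inr s.condition c))
    (fun s m h₁ h₂ => CommRingCat.hom_ext (RingHom.ext fun b => ?_))⟩⟩
  · obtain ⟨a, rfl⟩ := hs z
    show (d s.inl s.inr s.condition).hom (β.hom (f.hom a)) = s.inl.hom (f.hom a)
    rw [show β.hom (f.hom a) = δ.hom (γ.hom a) from ConcreteCategory.congr_hom w a, hd s.inl s.inr s.condition]
    exact (ConcreteCategory.congr_hom s.condition a).symm
  · obtain ⟨c, rfl⟩ := hδ b
    exact (ConcreteCategory.congr_hom h₂ c).trans (hd s.inl s.inr s.condition c).symm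

theorem henselian_ker_transfer {H B H' B' : CommRingCat.{u}} (δ : H ⟶ B) (δ' : H' ⟶ B') (a : H ≅ H') (b : B ≅ B')
    (w : δ ≫ b.hom = a.hom ≫ δ') [HenselianRing H (RingHom.ker δ.hom)] : HenselianRing H' (RingHom.ker δ'.hom) := by
  let e := a.commRingCatIsoToRingEquiv
  have hbinj : Function.Injective b.hom.hom := b.commRingCatIsoToRingEquiv.injective
  suffices h : RingHom.ker δ'.hom = (RingHom.ker δ.hom).map e.toRingHom from
    h ▸ HensLift.henselianRing_map_ringEquiv e _
  refine le_antisymm (fun x hx => ?_) (Ideal.map_le_iff_le_comap.2 fun x (hx : δ.hom x = 0) => ?_)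
  · obtain ⟨y, rfl⟩ := e.surjective x
    refine Ideal.mem_map_of_mem _ (hbinj ?_)
    exact (ConcreteCategory.congr_hom w y).trans (hx.trans (map_zero b.hom.hom).symm)
  · show δ'.hom (a.hom.hom x) = 0
    exact (ConcreteCategory.congr_hom w x).symm.trans ((congrArg b.hom.hom hx).trans (map_zero _))

variable {Z X : Scheme.{u}} (i : Z ⟶ X) [IsClosedImmersion i]

/-- affine, henselian along the closed part, with weakly contractible closed part -/
structure Good (W : X.ProEt) : Prop where
  aff : IsAffine W.left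
  hens : HenselianRing ↥Γ(W.left, ⊤) (RingHom.ker (clPart i W).appTop.hom)
  wc : EtPBC.IsWContractible ↥Γ(((ProEtS.bcP i).obj W).left, ⊤)

variable {i}

theorem isClosedImmersion_clPart (W : X.ProEt) : IsClosedImmersion (clPart i W) :=
  MorphismProperty.pullback_fst _ _ ‹IsClosedImmersion i›

theorem Good.isWC {W : X.ProEt} (hW : Good i W) : ProEtS.IsWC ((ProEtS.bcP i).obj W) := by
  haveI := hW.aff
  haveI := isClosedImmersion_clPart (i := i) W
  haveI : IsAffine ((ProEtS.bcP i).obj W).left := isAffine_of_isAffineHom (clPart i W)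
  exact L27.ProEt.isWC_of_isWContractible hW.wc

/-- over an affine object there is a good object with surjective closed part -/
theorem exists_good_over (T : X.ProEt) [IsAffine T.left] :
    ∃ (W : X.ProEt) (g : W ⟶ T), Good i W ∧ Surjective ((ProEtS.bcP i).map g).left := by
  haveI := isClosedImmersion_clPart (i := i) T
  haveI : IsAffine ((ProEtS.bcP i).obj T).left := isAffine_of_isAffineHom (clPart i T)
  let A : CommRingCat.{u} := Γ(T.left, ⊤)
  let R₀ : CommRingCat.{u} := Γ(((ProEtS.bcP i).obj T).left, ⊤)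
  let f : A ⟶ R₀ := (clPart i T).appTop
  have hs : Function.Surjective f.hom := (IsClosedImmersion.isAffine_surjective_of_isAffine (f := clPart i T)).2
  let I : Ideal A := RingHom.ker f.hom
  let e : (↥A ⧸ I) ≃+* ↥R₀ := RingHom.quotientKerEquivOfSurjective hs
  obtain ⟨C₀, _, alg₀, hff, hind, hwc⟩ := L27.WContractible.exists_cover ↥R₀
  let β : R₀ ⟶ CommRingCat.of C₀ := CommRingCat.ofHom (algebraMap ↥R₀ C₀)
  let βe : CommRingCat.of (↥A ⧸ I) ⟶ CommRingCat.of C₀ := e.toCommRingCatIso.hom ≫ β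
  letI : Algebra (↥A ⧸ I) C₀ := βe.hom.toAlgebra
  letI : Algebra ↥A C₀ := ((algebraMap (↥A ⧸ I) C₀).comp (algebraMap ↥A (↥A ⧸ I))).toAlgebra
  haveI : IsScalarTower ↥A (↥A ⧸ I) C₀ := .of_algebraMap_eq' rfl
  have hβ : IndE β := (L27.IndEtale.isIndEtale_iff ↥R₀ C₀).1 hind
  have hB : EtPBC.IsIndEtale (↥A ⧸ I) C₀ := (indE_algebraMap βe).2 (indE_comp (indE_of_iso _) hβ)
  obtain ⟨C, _, _, hC, ⟨e'⟩⟩ := IndLift.exists_indEtale_lift ↥A I C₀ hB
  let J : Ideal C := I.map (algebraMap ↥A C)
  let H : Type u := Groth.L05.Henselization.PairHens C J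
  obtain ⟨hH, -⟩ := Groth.L05.Henselization.isPairHenselization C J
  let γ : A ⟶ CommRingCat.of H := CommRingCat.ofHom ((algebraMap C H).comp (algebraMap ↥A C))
  have hγ : IndE γ := indE_comp (f := CommRingCat.ofHom (algebraMap ↥A C))
    ((L27.IndEtale.isIndEtale_iff ↥A C).1 hC)
    ((L27.IndEtale.isIndEtale_iff C H).1 (Groth.L05.Henselization.isIndEtale (A := C) (K := C ⧸ J)))
  let δr : H →+* C₀ := e'.toAlgHom.toRingHom.comp (Groth.L05.Henselization.ε C (C ⧸ J)).toRingHom
  let δ : CommRingCat.of H ⟶ CommRingCat.of C₀ := CommRingCat.ofHom δr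
  have hδs : Function.Surjective δ.hom := e'.surjective.comp (Groth.L05.Henselization.ε_pair_surjective C J)
  have hker : RingHom.ker δ.hom = I.map γ.hom := by
    refine (RingHom.ker_comp_of_injective _ e'.injective).trans ?_
    refine (Groth.L05.Henselization.ker_ε_pair C J).trans ?_
    exact Ideal.map_map _ _
  haveI : HenselianRing ↥(CommRingCat.of H) (RingHom.ker δ.hom) := by
    rw [hker]
    show HenselianRing H (I.map ((algebraMap C H).comp (algebraMap ↥A C)))
    rw [← Ideal.map_map]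
    exact hH
  have w : f ≫ β = γ ≫ δ := CommRingCat.hom_ext (RingHom.ext fun a => by
    show algebraMap ↥R₀ C₀ (f.hom a) = e' (Groth.L05.Henselization.ε C (C ⧸ J) (algebraMap C H (algebraMap ↥A C a)))
    rw [AlgHom.commutes]
    exact (e'.commutes (Ideal.Quotient.mk I a)).symm)
  have hpush := isPushout_of_surjective f γ β δ w hs hδs hker.le
  haveI := weaklyEtale_specMap_of_indE hγ
  let g₀ : Spec (CommRingCat.of H) ⟶ T.left := Spec.map γ ≫ T.left.isoSpec.inv
  haveI : WeaklyEtale T.hom := T.prop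
  haveI : WeaklyEtale (g₀ ≫ T.hom) := inferInstance
  let W : X.ProEt := Scheme.ProEt.mk (g₀ ≫ T.hom)
  let g : W ⟶ T := MorphismProperty.Over.homMk g₀ rfl
  haveI : IsAffine W.left := inferInstanceAs (IsAffine (Spec _))
  let p₀ : Spec (CommRingCat.of C₀) ⟶ ((ProEtS.bcP i).obj T).left :=
    Spec.map β ≫ ((ProEtS.bcP i).obj T).left.isoSpec.inv
  have h1 : IsPullback (Spec.map δ) (Spec.map β) (Spec.map γ) (Spec.map f) :=
    (isPullback_SpecMap_of_isPushout _ _ _ _ hpush).flip
  have h2 : IsPullback (Spec.map f) ((ProEtS.bcP i).obj T).left.isoSpec.inv T.left.isoSpec.inv (clPart i T) :=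
    IsPullback.of_vert_isIso ⟨Scheme.isoSpec_inv_naturality (clPart i T)⟩
  have h3 : IsPullback (Spec.map δ) (p₀ ≫ pullback.snd T.hom i) (g₀ ≫ T.hom) i :=
    (h1.paste_vert h2).paste_vert (IsPullback.of_hasPullback T.hom i)
  let E : Spec (CommRingCat.of C₀) ≅ ((ProEtS.bcP i).obj W).left := h3.isoPullback
  haveI : IsAffine ((ProEtS.bcP i).obj W).left := .of_isIso E.inv
  have hE : E.hom ≫ clPart i W = Spec.map δ := h3.isoPullback_hom_fst
  refine ⟨W, g, ⟨inferInstance, ?_, ?_⟩, ⟨fun y => ?_⟩⟩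
  · refine henselian_ker_transfer δ _ (Scheme.ΓSpecIso (CommRingCat.of H)).symm
      ((Scheme.ΓSpecIso (CommRingCat.of C₀)).symm ≪≫
        ⟨E.inv.appTop, E.hom.appTop, by rw [← Scheme.Hom.comp_appTop, E.hom_inv_id, Scheme.Hom.id_appTop],
          by rw [← Scheme.Hom.comp_appTop, E.inv_hom_id, Scheme.Hom.id_appTop]⟩) ?_
    show δ ≫ (Scheme.ΓSpecIso _).inv ≫ E.inv.appTop = (Scheme.ΓSpecIso _).inv ≫ (clPart i W).appTop
    rw [← Category.assoc, Scheme.ΓSpecIso_inv_naturality δ, Category.assoc]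
    refine congrArg (fun k => (Scheme.ΓSpecIso (CommRingCat.of H)).inv ≫ k) ?_
    rw [← hE, ← Scheme.Hom.comp_appTop]
    exact congrArg Scheme.Hom.appTop (E.inv_hom_id_assoc (clPart i W))
  · exact L27.ProEt.isWContractible_of_ringEquiv
      ((Scheme.ΓSpecIso (CommRingCat.of C₀)).symm ≪≫
        ⟨E.inv.appTop, E.hom.appTop, by rw [← Scheme.Hom.comp_appTop, E.hom_inv_id, Scheme.Hom.id_appTop],
          by rw [← Scheme.Hom.comp_appTop, E.inv_hom_id, Scheme.Hom.id_appTop]⟩).commRingCatIsoToRingEquiv hwc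
  · haveI : Surjective (Spec.map β) := ⟨fun y => by
      haveI := hff
      exact PrimeSpectrum.comap_surjective_of_faithfullyFlat (A := ↥R₀) (B := C₀) y⟩
    have h4 : E.hom ≫ ((ProEtS.bcP i).map g).left = p₀ := by
      refine pullback.hom_ext ?_ ?_
      · refine (Category.assoc _ _ _).trans ((congrArg (fun k => E.hom ≫ k) (pullback.lift_fst _ _ _)).trans ?_)
        refine (Category.assoc _ _ _).symm.trans ((congrArg (fun k => k ≫ g₀) hE).trans ?_)
        exact ((h1.paste_vert h2).w)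
      · exact (Category.assoc _ _ _).trans ((congrArg (fun k => E.hom ≫ k) (pullback.lift_snd _ _ _)).trans
          h3.isoPullback_hom_snd)
    obtain ⟨x, hx⟩ := (inferInstance : Surjective p₀).1 y
    exact ⟨E.hom x, (congrArg (fun m : Spec (CommRingCat.of C₀) ⟶ ((ProEtS.bcP i).obj T).left => m x) h4).trans hx⟩

/-- objects over a good object are determined by their closed part -/
theorem map_bijective {W : X.ProEt} (hW : Good i W) (T : X.ProEt) :
    Function.Bijective (fun h : W ⟶ T => (ProEtS.bcP i).map h) := by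
  haveI := hW.aff
  haveI := hW.hens
  haveI := isClosedImmersion_clPart (i := i) W
  haveI : WeaklyEtale T.hom := T.prop
  haveI : WeaklyEtale (pullback.snd T.hom W.hom) := MorphismProperty.pullback_snd _ _ ‹WeaklyEtale T.hom›
  refine ⟨fun h₁ h₂ e => ?_, fun σ => ?_⟩
  · let s : (W ⟶ T) → (W.left ⟶ pullback T.hom W.hom) := fun h =>
      pullback.lift h.left (𝟙 W.left) ((MorphismProperty.Over.w h).trans (Category.id_comp _).symm)
    have hz : ∀ h : W ⟶ T, clPart i W ≫ h.left = ((ProEtS.bcP i).map h).left ≫ pullback.fst T.hom i := fun h =>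
      (pullback.lift_fst _ _ _).symm
    have : s h₁ = s h₂ := eq_of_comp_eq (clPart i W) (pullback.snd T.hom W.hom) hW.hens.jac _ _
      (pullback.lift_snd _ _ _) (pullback.lift_snd _ _ _) (pullback.hom_ext
        (by
          refine (Category.assoc _ _ _).trans (Eq.trans ?_ (Category.assoc _ _ _).symm)
          refine (congrArg (fun k => clPart i W ≫ k) (pullback.lift_fst _ _ _)).trans
            (Eq.trans ?_ (congrArg (fun k => clPart i W ≫ k) (pullback.lift_fst _ _ _)).symm)
          exact (hz h₁).trans ((congrArg (fun k => k.left ≫ pullback.fst T.hom i) e).trans (hz h₂).symm))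
        (by rw [Category.assoc, Category.assoc, pullback.lift_snd, pullback.lift_snd]))
    exact MorphismProperty.Over.Hom.ext (((pullback.lift_fst _ _ _).symm.trans
      (congrArg (fun k => k ≫ pullback.fst T.hom W.hom) this)).trans (pullback.lift_fst _ _ _))
  · let σ₁ : ((ProEtS.bcP i).obj W).left ⟶ pullback T.hom W.hom :=
      pullback.lift (σ.left ≫ pullback.fst T.hom i) (clPart i W) (by
        refine (Category.assoc _ _ _).trans ((congrArg (fun k => σ.left ≫ k) (pullback.condition (f := T.hom) (g := i))).trans ?_)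
        refine (Category.assoc _ _ _).symm.trans ((congrArg (fun k => k ≫ i) (MorphismProperty.Over.w σ)).trans ?_)
        exact (pullback.condition (f := W.hom) (g := i)).symm)
    obtain ⟨s, hs, hz⟩ := exists_section (clPart i W) (pullback.snd T.hom W.hom) hW.hens hW.wc σ₁
      (pullback.lift_snd _ _ _)
    let h : W ⟶ T := MorphismProperty.Over.homMk (s ≫ pullback.fst T.hom W.hom) (by
      rw [Category.assoc, pullback.condition, ← Category.assoc, hs, Category.id_comp])
    refine ⟨h, MorphismProperty.Over.Hom.ext (pullback.hom_ext ?_ ?_)⟩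
    · refine (pullback.lift_fst _ _ _).trans ?_
      refine (Category.assoc _ _ _).symm.trans ((congrArg (fun k => k ≫ pullback.fst T.hom W.hom) hz).trans ?_)
      exact pullback.lift_fst _ _ _
    · exact (MorphismProperty.Over.w ((ProEtS.bcP i).map h)).trans (MorphismProperty.Over.w σ).symm

variable (i) in
/-- quasi-compact objects over the closed subscheme are covered by closed parts of good objects -/
theorem exists_good_cover (V : Z.ProEt) [CompactSpace V.left] :
    ∃ (ι : Type u) (_ : Finite ι) (W : ι → X.ProEt) (h : ∀ k, (ProEtS.bcP i).obj (W k) ⟶ V),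
      (∀ k, Good i (W k)) ∧ ∀ v : V.left, ∃ k y, (h k).left y = v := by
  haveI : WeaklyEtale V.hom := V.prop
  have key : ∀ x : V.left, ∃ (B : V.left.Opens) (_ : x ∈ B) (W : X.ProEt) (h : (ProEtS.bcP i).obj W ⟶ V),
      Good i W ∧ ∀ v ∈ B, ∃ y, h.left y = v := fun x => by
    obtain ⟨B, hxB, Y, p, C, w, q, hp, hps, -, hw, hC, hP⟩ :=
      exists_lift_affine i (lifts_of_isClosedImmersion i) V.hom x
    haveI : WeaklyEtale (p ≫ B.ι) := inferInstance
    let T : X.ProEt := Scheme.ProEt.mk w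
    haveI : IsAffine T.left := hC
    obtain ⟨W, g, hW, hgs⟩ := exists_good_over (i := i) T
    have hP' : IsPullback q ((p ≫ B.ι) ≫ V.hom) w i := by rwa [Category.assoc]
    let h : (ProEtS.bcP i).obj T ⟶ V := MorphismProperty.Over.homMk (hP'.isoPullback.inv ≫ p ≫ B.ι)
      ((Category.assoc _ _ _).trans hP'.isoPullback_inv_snd)
    refine ⟨B, hxB, W, (ProEtS.bcP i).map g ≫ h, hW, fun v hv => ?_⟩
    obtain ⟨y, hy⟩ := hps.1 ⟨v, hv⟩
    obtain ⟨z, hz⟩ := hgs.1 (hP'.isoPullback.hom y)
    refine ⟨z, ?_⟩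
    refine (Scheme.Hom.comp_apply ((ProEtS.bcP i).map g).left h.left z).trans ((congrArg h.left hz).trans ?_)
    show (hP'.isoPullback.inv ≫ p ≫ B.ι) (hP'.isoPullback.hom y) = v
    rw [← Scheme.Hom.comp_apply, Iso.hom_inv_id_assoc, Scheme.Hom.comp_apply, hy]
    rfl
  choose B hxB W h hW hh using key
  obtain ⟨t, ht⟩ := isCompact_univ.elim_finite_subcover (fun x : V.left => (B x : Set V.left)) (fun x => (B x).2)
    (fun x _ => Set.mem_iUnion.2 ⟨x, hxB x⟩)
  refine ⟨{x // x ∈ t}, inferInstance, fun k => W k.1, fun k => h k.1, fun k => hW k.1, fun v => ?_⟩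
  obtain ⟨y, hy, hvy⟩ : ∃ y ∈ t, v ∈ B y := by simpa using ht (Set.mem_univ v)
  exact ⟨⟨y, hy⟩, hh y v hvy⟩

/-- coverings of the closed part of a good object split -/
theorem exists_splitting [ProEtS.PCont i] {W : X.ProEt} (hW : Good i W) {R : Sieve ((ProEtS.bcP i).obj W)}
    (hR : R ∈ Scheme.ProEt.topology Z ((ProEtS.bcP i).obj W)) :
    ∃ (ι : Type u) (_ : Finite ι) (V : ι → X.ProEt) (P : X.ProEt) (c : ∀ k, V k ⟶ P) (π : P ⟶ W) (S : W ⟶ P),
      (∀ k, Good i (V k)) ∧ (∀ k, IsOpenImmersion (c k).left) ∧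
      (Pairwise fun a b => Disjoint (Set.range (c a).left) (Set.range (c b).left)) ∧
      (∀ x : P.left, ∃ k y, (c k).left y = x) ∧ S ≫ π = 𝟙 W ∧ ∀ k, R ((ProEtS.bcP i).map (c k ≫ π)) := by
  haveI := hW.aff
  haveI := isClosedImmersion_clPart (i := i) W
  haveI : IsAffine ((ProEtS.bcP i).obj W).left := isAffine_of_isAffineHom (clPart i W)
  obtain ⟨κ, hκ, V', g, hV', hg, hcov⟩ := L27.ProEt.exists_affine_refinement hR
  haveI := hκ
  haveI : ∀ k, CompactSpace (V' k).left := fun k => by haveI := hV' k; infer_instance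
  choose ι₀ hι₀ V₀ h₀ hV₀ hc₀ using fun k => exists_good_cover i (V' k)
  haveI := hι₀
  let ι := Σ k, ι₀ k
  let V : ι → X.ProEt := fun a => V₀ a.1 a.2
  have hVg : ∀ a, Good i (V a) := fun a => hV₀ a.1 a.2
  choose m hm using fun a : ι => (map_bijective (hVg a) W).2 (h₀ a.1 a.2 ≫ g a.1)
  haveI : ∀ a, IsAffine (V a).left := fun a => (hVg a).aff
  haveI : Finite ι := inferInstance
  let σ : (∐ fun a => (V a).left) ⟶ X := Sigma.desc fun a => (V a).hom
  haveI : ∀ a, WeaklyEtale (V a).hom := fun a => (V a).prop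
  haveI : WeaklyEtale σ := IsZariskiLocalAtSource.sigmaDesc (P := @WeaklyEtale) fun a => inferInstance
  let P : X.ProEt := Scheme.ProEt.mk σ
  haveI : IsAffine P.left := inferInstanceAs (IsAffine (∐ fun a => (V a).left))
  let c : ∀ a, V a ⟶ P := fun a =>
    MorphismProperty.Over.homMk (Sigma.ι (fun a => (V a).left) a) (Sigma.ι_desc _ a) trivial
  let π : P ⟶ W := MorphismProperty.Over.homMk (Sigma.desc fun a => (m a).left) (Sigma.hom_ext _ _ fun a =>
    (Sigma.ι_desc_assoc _ a _).trans ((MorphismProperty.Over.w (m a)).trans (Sigma.ι_desc (fun a => (V a).hom) a).symm))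
    trivial
  have hcπ : ∀ a, c a ≫ π = m a := fun a => MorphismProperty.Over.Hom.ext (Sigma.ι_desc _ a)
  have hbm : ∀ a, (ProEtS.bcP i).map (c a ≫ π) = h₀ a.1 a.2 ≫ g a.1 := fun a =>
    (congrArg _ (hcπ a)).trans (hm a)
  let b := (ProEtS.bcP i).map π
  haveI := isClosedImmersion_clPart (i := i) P
  haveI : IsAffine ((ProEtS.bcP i).obj P).left := isAffine_of_isAffineHom (clPart i P)
  haveI : Surjective b.left := ⟨fun v => by
    obtain ⟨k, y, rfl⟩ := hcov v
    obtain ⟨a, z, rfl⟩ := hc₀ k y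
    refine ⟨((ProEtS.bcP i).map (c ⟨k, a⟩)).left z, ?_⟩
    have e := (((ProEtS.bcP i).map_comp (c ⟨k, a⟩) π).symm.trans (hbm ⟨k, a⟩))
    exact (Scheme.Hom.comp_apply _ _ _).symm.trans
      ((congrArg (fun q : (ProEtS.bcP i).obj (V ⟨k, a⟩) ⟶ (ProEtS.bcP i).obj W => q.left z) e).trans
        (Scheme.Hom.comp_apply _ _ _))⟩
  obtain ⟨s, hs⟩ := exists_section_of_wc hW.wc b.left
  let s' : (ProEtS.bcP i).obj W ⟶ (ProEtS.bcP i).obj P := MorphismProperty.Over.homMk s
    ((congrArg (fun k => s ≫ k) (MorphismProperty.Over.w b).symm).trans ((Category.assoc _ _ _).symm.trans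
      ((congrArg (fun k => k ≫ ((ProEtS.bcP i).obj W).hom) hs).trans (Category.id_comp _))))
  obtain ⟨S, hS⟩ := (map_bijective hW P).2 s'
  refine ⟨ι, inferInstance, V, P, c, π, S, hVg, fun a => inferInstanceAs (IsOpenImmersion (Sigma.ι (fun a => (V a).left) a)),
    fun a a' h => TopologicalSpace.Opens.coe_disjoint.mpr
      (AlgebraicGeometry.disjoint_opensRange_sigmaι (fun a => (V a).left) a a' h), fun x => ?_, ?_, fun a => ?_⟩
  · obtain ⟨a, y, hy⟩ := (sigmaOpenCover fun a => (V a).left).exists_eq x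
    exact ⟨a, y, hy⟩
  · refine (map_bijective hW W).1 ?_
    show (ProEtS.bcP i).map (S ≫ π) = (ProEtS.bcP i).map (𝟙 W)
    rw [Functor.map_comp, (ProEtS.bcP i).map_id]
    exact (congrArg (fun k => k ≫ b) hS).trans (MorphismProperty.Over.Hom.ext hs)
  · rw [hbm]
    exact R.downward_closed (hg a.1) _

end Groth.L28.ProEt.Closed
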