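import Groth.Agent.L27.IndEtale
import Groth.Agent.L23.EtaleLift
import Mathlib.RingTheory.Etale.Basic
import Mathlib.RingTheory.Ideal.Quotient.Operations

/-!
Ind-étale algebras over a quotient lift to ind-étale algebras.
-/

set_option autoImplicit false
set_option linter.style.haveILetI false
set_option linter.unusedSectionVars false
set_option backward.isDefEq.respectTransparency false

universe u

open CategoryTheory CategoryTheory.Limits TensorProduct

namespace Groth.L28.ProEt.IndLift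

open L27.IndEtale

variable (A : Type u) [CommRing A] (I : Ideal A) (Cb : Type u) [CommRing Cb] [Algebra A Cb]
  [Algebra (A ⧸ I) Cb] [IsScalarTower A (A ⧸ I) Cb]

/-- presented étale algebras mapping to `Cb` -/
abbrev P := Pres EtaleProp.{u} A Cb

/-- the algebra of a presentation -/
abbrev carrier (X : P A Cb) : Type u := MvPolynomial (Fin X.n) A ⧸ X.I

instance (X : P A Cb) : Algebra.Etale A (carrier A Cb X) := (etaleProp_iff A _).1 X.prop

theorem exists_pres' {E : Type u} [CommRing E] [Algebra A E] [Algebra.Etale A E] (ψ : E →ₐ[A] Cb) :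
    ∃ (X : P A Cb) (e : E ≃ₐ[A] carrier A Cb X), X.map.comp e.toAlgHom = ψ :=
  L27.IndEtale.exists_pres E ((etaleProp_iff A E).2 inferInstance) ψ

theorem cocone_objs (X Y : P A Cb) : ∃ (Z : P A Cb) (_ : X ⟶ Z) (_ : Y ⟶ Z), True := by
  haveI : Algebra.Etale A (carrier A Cb X ⊗[A] carrier A Cb Y) :=
    Algebra.Etale.comp A (carrier A Cb X) (carrier A Cb X ⊗[A] carrier A Cb Y)
  obtain ⟨Z, e, he⟩ := exists_pres' A Cb (E := carrier A Cb X ⊗[A] carrier A Cb Y) (Algebra.TensorProduct.lift X.map Y.map fun _ _ => Commute.all _ _)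
  refine ⟨Z, ⟨e.toAlgHom.comp Algebra.TensorProduct.includeLeft, ?_⟩,
    ⟨e.toAlgHom.comp Algebra.TensorProduct.includeRight, ?_⟩, trivial⟩ <;>
  · rw [← AlgHom.comp_assoc, he]
    ext x
    simp

theorem exists_coeq {E E' : Type u} [CommRing E] [CommRing E'] [Algebra A E] [Algebra A E'] [Algebra.Etale A E]
    [Algebra.Etale A E'] (f g : E →ₐ[A] E') (ψ : E' →ₐ[A] Cb) (h : ψ.comp f = ψ.comp g) :
    ∃ (T : Type u) (_ : CommRing T) (_ : Algebra A T) (_ : Algebra.Etale A T) (j : E' →ₐ[A] T) (χ : T →ₐ[A] Cb),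
      χ.comp j = ψ ∧ j.comp f = j.comp g := by
  let μ : E ⊗[A] E →ₐ[A] E := Algebra.TensorProduct.lmul' A
  let φ : E ⊗[A] E →ₐ[A] E' := Algebra.TensorProduct.lift f g fun _ _ => Commute.all _ _
  haveI : Algebra.Etale A (E ⊗[A] E) := Algebra.Etale.comp A E (E ⊗[A] E)
  letI aE : Algebra (E ⊗[A] E) E := @RingHom.toAlgebra (E ⊗[A] E) E _ _ μ.toRingHom
  letI aE' : Algebra (E ⊗[A] E) E' := @RingHom.toAlgebra (E ⊗[A] E) E' _ _ φ.toRingHom
  haveI : IsScalarTower A (E ⊗[A] E) E :=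
    IsScalarTower.of_algebraMap_eq (R := A) (S := E ⊗[A] E) (A := E) fun a => (μ.commutes a).symm
  haveI : IsScalarTower A (E ⊗[A] E) E' :=
    IsScalarTower.of_algebraMap_eq (R := A) (S := E ⊗[A] E) (A := E') fun a => (φ.commutes a).symm
  haveI : Algebra.Etale (E ⊗[A] E) E := Algebra.Etale.of_restrictScalars A (E ⊗[A] E) E
  haveI : Algebra.Etale A (E' ⊗[E ⊗[A] E] E) := Algebra.Etale.comp A E' (E' ⊗[E ⊗[A] E] E)
  have hμ : (ψ.comp f).comp μ = ψ.comp φ := Algebra.TensorProduct.ext' fun a b => by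
    show ψ (f (μ (a ⊗ₜ b))) = ψ (φ (a ⊗ₜ b))
    simp only [μ, φ, Algebra.TensorProduct.lmul'_apply_tmul, Algebra.TensorProduct.lift_tmul, map_mul]
    exact congrArg (fun z => ψ (f a) * z) (AlgHom.congr_fun h b)
  letI aC : Algebra (E ⊗[A] E) Cb := @RingHom.toAlgebra (E ⊗[A] E) Cb _ _ (ψ.comp φ).toRingHom
  let yR : E' →ₐ[E ⊗[A] E] Cb := ⟨ψ.toRingHom, fun r => rfl⟩
  let xR : E →ₐ[E ⊗[A] E] Cb := ⟨(ψ.comp f).toRingHom, fun r => AlgHom.congr_fun hμ r⟩
  haveI : IsScalarTower A (E ⊗[A] E) Cb :=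
    IsScalarTower.of_algebraMap_eq (R := A) (S := E ⊗[A] E) (A := Cb) fun a => ((ψ.comp φ).commutes a).symm
  let χ : E' ⊗[E ⊗[A] E] E →ₐ[A] Cb :=
    (Algebra.TensorProduct.lift yR xR fun _ _ => Commute.all _ _).restrictScalars A
  let j : E' →ₐ[A] E' ⊗[E ⊗[A] E] E :=
    (Algebra.TensorProduct.includeLeft : E' →ₐ[E ⊗[A] E] E' ⊗[E ⊗[A] E] E).restrictScalars A
  refine ⟨E' ⊗[E ⊗[A] E] E, inferInstance, inferInstance, inferInstance, j, χ, ?_, AlgHom.ext fun x => ?_⟩
  · ext x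
    show (Algebra.TensorProduct.lift yR xR fun _ _ => Commute.all _ _) (x ⊗ₜ 1) = ψ x
    rw [Algebra.TensorProduct.lift_tmul, map_one, mul_one]
    rfl
  · show (f x) ⊗ₜ[E ⊗[A] E] (1 : E) = (g x) ⊗ₜ[E ⊗[A] E] 1
    have h1 : f x = algebraMap (E ⊗[A] E) E' (x ⊗ₜ 1) := by
      show f x = φ (x ⊗ₜ 1)
      simp [φ]
    have h2 : g x = algebraMap (E ⊗[A] E) E' (1 ⊗ₜ x) := by
      show g x = φ (1 ⊗ₜ x)
      simp [φ]
    have h3 : algebraMap (E ⊗[A] E) E (x ⊗ₜ 1) = algebraMap (E ⊗[A] E) E (1 ⊗ₜ x) := by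
      show μ (x ⊗ₜ 1) = μ (1 ⊗ₜ x)
      simp [μ]
    rw [h1, h2, Algebra.algebraMap_eq_smul_one, Algebra.algebraMap_eq_smul_one (1 ⊗ₜ[A] x),
      TensorProduct.smul_tmul, TensorProduct.smul_tmul, ← Algebra.algebraMap_eq_smul_one,
      ← Algebra.algebraMap_eq_smul_one, h3]

theorem cocone_maps (X Y : P A Cb) (f g : X ⟶ Y) : ∃ (Z : P A Cb) (h : Y ⟶ Z), f ≫ h = g ≫ h := by
  obtain ⟨T, _, _, _, j, χ, hχ, hj⟩ := exists_coeq A Cb f.1 g.1 Y.map (f.2.trans g.2.symm)
  obtain ⟨Z, e, he⟩ := exists_pres' A Cb χ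
  refine ⟨Z, ⟨e.toAlgHom.comp j, by rw [← AlgHom.comp_assoc, he, hχ]⟩, Subtype.ext ?_⟩
  show (e.toAlgHom.comp j).comp f.1 = (e.toAlgHom.comp j).comp g.1
  rw [AlgHom.comp_assoc, hj, AlgHom.comp_assoc]

theorem exists_kill (h : EtPBC.IsIndEtale (A ⧸ I) Cb) {E : Type u} [CommRing E] [Algebra A E]
    [Algebra.Etale A E] (ψ : E →ₐ[A] Cb) (x : E) (hx : ψ x = 0) :
    ∃ (C' : Type u) (_ : CommRing C') (_ : Algebra A C') (_ : Algebra.Etale A C') (j : E →ₐ[A] C')
      (χ : C' →ₐ[A] Cb), χ.comp j = ψ ∧ j x ∈ I.map (algebraMap A C') := by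
  haveI : Algebra.Etale (A ⧸ I) (E ⧸ I.map (algebraMap A E)) :=
    Algebra.Etale.of_equiv (Algebra.TensorProduct.quotIdealMapEquivQuotTensor E I).symm
  let ξ : (E ⧸ I.map (algebraMap A E)) →ₐ[A] Cb := Ideal.Quotient.liftₐ _ ψ (by
    show I.map (algebraMap A E) ≤ RingHom.ker ψ
    refine Ideal.map_le_iff_le_comap.2 fun a ha => ?_
    show ψ (algebraMap A _ a) = 0
    rw [ψ.commutes, IsScalarTower.algebraMap_apply A (A ⧸ I) Cb, Ideal.Quotient.algebraMap_eq,
      Ideal.Quotient.eq_zero_iff_mem.2 ha, map_zero])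
  let ξ' : (E ⧸ I.map (algebraMap A E)) →ₐ[A ⧸ I] Cb := ⟨ξ.toRingHom, fun r => by
    obtain ⟨a, rfl⟩ := Ideal.Quotient.mk_surjective r
    exact (ξ.commutes a).trans (IsScalarTower.algebraMap_apply A (A ⧸ I) Cb a)⟩
  let K : Ideal (E ⧸ I.map (algebraMap A E)) := Ideal.span {Ideal.Quotient.mk _ x}
  haveI : Algebra.FinitePresentation (A ⧸ I) ((E ⧸ I.map (algebraMap A E)) ⧸ K) :=
    Algebra.FinitePresentation.quotient (Submodule.fg_span_singleton _)
  have hK : K ≤ RingHom.ker ξ' := by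
    rw [Ideal.span_le, Set.singleton_subset_iff]
    exact hx
  obtain ⟨F, _, _, α, β, hF, hβ⟩ := (isIndEtale_iff_exists_factor (A ⧸ I) Cb).1 h
    ((E ⧸ I.map (algebraMap A E)) ⧸ K) (Ideal.Quotient.liftₐ K ξ' hK)
  let α' : (E ⧸ I.map (algebraMap A E)) →ₐ[A ⧸ I] F := α.comp (Ideal.Quotient.mkₐ (A ⧸ I) K)
  have hα' : α' (Ideal.Quotient.mk _ x) = 0 := by
    show α (Ideal.Quotient.mk K _) = 0
    have hm : Ideal.Quotient.mk (I.map (algebraMap A E)) x ∈ K := Ideal.subset_span rfl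
    exact (congrArg α (Ideal.Quotient.eq_zero_iff_mem.2 hm)).trans (map_zero α)
  letI : Algebra (E ⧸ I.map (algebraMap A E)) F := α'.toRingHom.toAlgebra
  haveI : IsScalarTower (A ⧸ I) (E ⧸ I.map (algebraMap A E)) F :=
    .of_algebraMap_eq fun a => (α'.commutes a).symm
  haveI : Algebra.Etale (E ⧸ I.map (algebraMap A E)) F :=
    Algebra.Etale.of_restrictScalars (A ⧸ I) (E ⧸ I.map (algebraMap A E)) F
  letI : Algebra E F := (α'.toRingHom.comp (Ideal.Quotient.mk _)).toAlgebra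
  haveI : IsScalarTower E (E ⧸ I.map (algebraMap A E)) F := .of_algebraMap_eq fun a => rfl
  obtain ⟨C', _, _, φ, _, -, hφk⟩ :=
    Groth.L23.exists_etale_lift (P := E) (B := E ⧸ I.map (algebraMap A E)) (C := F) Ideal.Quotient.mk_surjective
  letI : Algebra A C' := ((algebraMap E C').comp (algebraMap A E)).toAlgebra
  haveI : IsScalarTower A E C' := .of_algebraMap_eq' rfl
  have hβX : ∀ v, β (α' (Ideal.Quotient.mk _ v)) = ψ v := fun v => by
    show β (α (Ideal.Quotient.mk K _)) = _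
    rw [← AlgHom.comp_apply β α, hβ]
    rfl
  refine ⟨C', inferInstance, inferInstance, Algebra.Etale.comp A E C', IsScalarTower.toAlgHom A E C',
    { toRingHom := β.toRingHom.comp φ.toRingHom
      commutes' := fun a => by
        show β (φ (algebraMap E C' (algebraMap A _ a))) = _
        rw [φ.commutes]
        exact (hβX _).trans (ψ.commutes a) }, AlgHom.ext fun v => ?_, ?_⟩
  · show β (φ (algebraMap E C' v)) = _
    rw [φ.commutes]
    exact hβX v
  · have h1 : algebraMap E C' x ∈ RingHom.ker φ := by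
      show φ (algebraMap _ C' x) = 0
      rw [φ.commutes]
      exact hα'
    rw [hφk] at h1
    have hk : RingHom.ker (algebraMap E (E ⧸ I.map (algebraMap A E))) = I.map (algebraMap A E) := Ideal.mk_ker
    rw [hk, Ideal.map_map, ← IsScalarTower.algebraMap_eq] at h1
    exact h1

theorem isFiltered : IsFiltered (P A Cb) where
  cocone_objs := cocone_objs A Cb
  cocone_maps := cocone_maps A Cb
  nonempty := by
    obtain ⟨X, -, -⟩ := exists_pres' A Cb (Algebra.ofId A Cb)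
    exact ⟨X⟩

/-- the diagram -/
noncomputable def diag : P A Cb ⥤ Under (CommRingCat.of A) where
  obj X := CommRingCat.mkUnder (CommRingCat.of A) (carrier A Cb X)
  map f := f.1.toUnder

/-- the cocone to `Cb` -/
noncomputable def toCb : Cocone (diag A Cb) where
  pt := CommRingCat.mkUnder (CommRingCat.of A) Cb
  ι :=
    { app := fun X => X.map.toUnder
      naturality := fun X Y f => by
        ext x
        exact AlgHom.congr_fun f.2 x }

theorem exists_indEtale_lift (h : EtPBC.IsIndEtale (A ⧸ I) Cb) :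
    ∃ (C : Type u) (_ : CommRing C) (_ : Algebra A C),
      EtPBC.IsIndEtale A C ∧ Nonempty ((C ⧸ I.map (algebraMap A C)) ≃ₐ[A ⧸ I] Cb) := by
  haveI := isFiltered A Cb
  haveI : HasColimitsOfShape (P A Cb) (Under (CommRingCat.of A)) := inferInstance
  let c := colimit.cocone (diag A Cb)
  have hc := colimit.isColimit (diag A Cb)
  let C : Type u := c.pt.right
  letI : Algebra A C := c.pt.hom.hom.toAlgebra
  let π : C →ₐ[A] Cb := ⟨(hc.desc (toCb A Cb)).right.hom, fun a => congr($(Under.w (hc.desc (toCb A Cb))).hom a)⟩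
  have hπ : ∀ (X : P A Cb) (x : carrier A Cb X), π ((c.ι.app X).right x) = X.map x := fun X x =>
    congr($(congrArg CommaMorphism.right (hc.fac (toCb A Cb) X)).hom x)
  have hinA : ∀ (X : P A Cb) (a : A), (c.ι.app X).right (algebraMap A (carrier A Cb X) a) = algebraMap A C a :=
    fun X a => congr($(Under.w (c.ι.app X)).hom a)
  have hfac := (isIndEtale_iff_exists_factor (A ⧸ I) Cb).1 h
  have hsurj : Function.Surjective π := fun b => by
    obtain ⟨E, _, _, α, β, hE, hβ⟩ := hfac (MvPolynomial (Fin 1) (A ⧸ I)) (MvPolynomial.aeval fun _ => b)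
    letI : Algebra A E := ((algebraMap (A ⧸ I) E).comp (algebraMap A (A ⧸ I))).toAlgebra
    haveI : IsScalarTower A (A ⧸ I) E := .of_algebraMap_eq' rfl
    obtain ⟨C', _, _, ψ, _, hψ, -⟩ := Groth.L23.exists_etale_lift (P := A) (B := A ⧸ I) (C := E)
      Ideal.Quotient.mk_surjective
    obtain ⟨X, e, he⟩ := exists_pres' A Cb ((β.restrictScalars A).comp ψ)
    obtain ⟨y, hy⟩ := hψ (α (MvPolynomial.X 0))
    refine ⟨(c.ι.app X).right (e y), (hπ X _).trans ((AlgHom.congr_fun he y).trans ?_)⟩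
    show β (ψ y) = b
    rw [hy]
    exact (AlgHom.congr_fun hβ _).trans (MvPolynomial.aeval_X _ _)
  have hker : RingHom.ker π = I.map (algebraMap A C) := by
    refine le_antisymm (fun z hz => ?_) (Ideal.map_le_iff_le_comap.2 fun a ha => ?_)
    · obtain ⟨X, x₀, hx⟩ := Concrete.isColimit_exists_rep _
        (isColimitOfPreserves (Under.forget (CommRingCat.of A)) hc) z
      obtain ⟨x, rfl⟩ : ∃ x : carrier A Cb X, x = x₀ := ⟨x₀, rfl⟩
      change (c.ι.app X).right x = z at hx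
      have hx0 : X.map x = 0 := by rw [← hπ, hx]; exact hz
      obtain ⟨C', _, _, _, j, χ, hj, hmem⟩ := exists_kill A I Cb h X.map x hx0
      obtain ⟨Y, e, he⟩ := exists_pres' A Cb χ
      let f : X ⟶ Y := ⟨e.toAlgHom.comp j, by rw [← AlgHom.comp_assoc, he, hj]⟩
      let ι : C' →+* C := ((c.ι.app Y).right.hom).comp e.toAlgHom.toRingHom
      have hι : ι.comp (algebraMap A C') = algebraMap A C := RingHom.ext fun a => by
        show (c.ι.app Y).right (e (algebraMap A C' a)) = _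
        rw [e.commutes]
        exact hinA Y a
      have := Ideal.mem_map_of_mem ι hmem
      rw [Ideal.map_map, hι] at this
      rw [← hx]
      exact (congr($(congrArg CommaMorphism.right (c.w f)).hom x) : _ = _).symm ▸ this
    · show π (algebraMap A C a) = 0
      rw [π.commutes, IsScalarTower.algebraMap_apply A (A ⧸ I) Cb, Ideal.Quotient.algebraMap_eq,
        Ideal.Quotient.eq_zero_iff_mem.2 ha, map_zero]
  refine ⟨C, inferInstance, inferInstance,
    ⟨P A Cb, inferInstance, inferInstance, diag A Cb, c, hc, fun X => ?_, ⟨Under.isoMk (Iso.refl _) ?_⟩⟩, ⟨?_⟩⟩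
  · letI := ((diag A Cb).obj X).hom.hom.toAlgebra
    exact (RingHom.etale_algebraMap (R := A) (S := ((diag A Cb).obj X).right)).1 X.prop
  · exact Category.comp_id _
  · let q : (C ⧸ I.map (algebraMap A C)) →ₐ[A ⧸ I] Cb :=
      { toRingHom := Ideal.Quotient.lift _ π.toRingHom fun z hz => by rw [← hker] at hz; exact hz
        commutes' := fun r => by
          obtain ⟨a, rfl⟩ := Ideal.Quotient.mk_surjective r
          exact (π.commutes a).trans (IsScalarTower.algebraMap_apply A (A ⧸ I) Cb a) }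
    refine AlgEquiv.ofBijective q ⟨?_, fun b => ?_⟩
    · refine (injective_iff_map_eq_zero q).2 fun z hz => ?_
      obtain ⟨z, rfl⟩ := Ideal.Quotient.mk_surjective z
      exact Ideal.Quotient.eq_zero_iff_mem.2 (hker ▸ (show z ∈ RingHom.ker π from hz))
    · obtain ⟨z, rfl⟩ := hsurj b
      exact ⟨Ideal.Quotient.mk _ z, rfl⟩

end Groth.L28.ProEt.IndLift
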