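import Groth.Agent.L05.Hensel.Pairs
import Groth.Agent.L28.ProEt.IndLift
import Groth.Agent.L27.WContractible
import Mathlib.RingTheory.Etale.Basic

/-!
w-contractible rings are henselian along ideals in the Jacobson radical, with w-contractible quotients.
-/

set_option autoImplicit false
set_option linter.style.haveILetI false

universe u

namespace Groth.L28.ProEt.WCHens

/-- a flat algebra whose image meets every point of a closed set containing the closed points -/
theorem faithfullyFlat_of_jacobson {A C : Type u} [CommRing A] [CommRing C] [Algebra A C] [Module.Flat A C]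
    {I : Ideal A} (hI : I ≤ Ideal.jacobson ⊥)
    (h : ∀ m : PrimeSpectrum A, I ≤ m.asIdeal → ∃ q : PrimeSpectrum C, PrimeSpectrum.comap (algebraMap A C) q = m) :
    Module.FaithfullyFlat A C := by
  refine Module.FaithfullyFlat.of_comap_surjective fun p => ?_
  obtain ⟨m, hm, hle⟩ := p.asIdeal.exists_le_maximal p.2.ne_top
  obtain ⟨q, hq⟩ := h ⟨m, hm.isPrime⟩ (hI.trans (sInf_le ⟨bot_le, hm⟩))
  haveI : q.asIdeal.LiesOver m := ⟨(congrArg PrimeSpectrum.asIdeal hq).symm⟩
  obtain ⟨P, -, hP, hPp⟩ := Ideal.exists_ideal_le_liesOver_of_le (p := p.asIdeal) q.asIdeal hle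
  exact ⟨⟨P, hP⟩, PrimeSpectrum.ext hPp.over.symm⟩

theorem henselianRing (A : Type u) [CommRing A] (hA : EtPBC.IsWContractible A) (I : Ideal A)
    (hI : I ≤ Ideal.jacobson ⊥) : HenselianRing A I := by
  refine L05.henselianRing_of_etale_lift I fun S _ _ _ σ => ?_
  obtain ⟨ε, -, hσε, hker⟩ := L05.exists_idem_of_section σ
  let S' := Localization.Away ε
  haveI : Algebra.Etale S S' := Algebra.Etale.of_isLocalizationAway ε
  haveI : Algebra.Etale A S' := Algebra.Etale.comp A S S'
  let σ' : S' →ₐ[A] A ⧸ I := IsLocalization.Away.liftAlgHom ε (f := σ) (hσε ▸ isUnit_one)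
  have hff : Module.FaithfullyFlat A S' := faithfullyFlat_of_jacobson hI fun m hm => by
    have hm' : (m.asIdeal.map (Ideal.Quotient.mk I)).IsPrime :=
      Ideal.map_isPrime_of_surjective Ideal.Quotient.mk_surjective (by rw [Ideal.mk_ker]; exact hm)
    refine ⟨PrimeSpectrum.comap σ'.toRingHom ⟨_, hm'⟩, PrimeSpectrum.ext ?_⟩
    show Ideal.comap (algebraMap A S') (Ideal.comap σ'.toRingHom _) = m.asIdeal
    rw [Ideal.comap_comap, show σ'.toRingHom.comp (algebraMap A S') = Ideal.Quotient.mk I from σ'.comp_algebraMap,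
      Ideal.comap_map_of_surjective _ Ideal.Quotient.mk_surjective, ← RingHom.ker_eq_comap_bot, Ideal.mk_ker,
      sup_eq_left.2 hm]
  obtain ⟨r⟩ := hA S' hff inferInstance
  refine ⟨r.comp (IsScalarTower.toAlgHom A S S'), AlgHom.ext fun s => ?_⟩
  obtain ⟨a, ha⟩ := Ideal.Quotient.mk_surjective (σ s)
  have h1 : (s - algebraMap A S a) * ε ∈ I.map (algebraMap A S) := hker _ (by
    rw [map_sub, AlgHom.commutes, ← ha]; exact sub_self _)
  let ρ : S →ₐ[A] A := r.comp (IsScalarTower.toAlgHom A S S')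
  have h2 : ρ ((s - algebraMap A S a) * ε) ∈ I := by
    have : I.map (algebraMap A S) ≤ I.comap ρ := Ideal.map_le_iff_le_comap.2 fun x hx => by
      show ρ (algebraMap A S x) ∈ I
      rw [AlgHom.commutes]; exact hx
    exact this h1
  have hu : IsUnit (ρ ε) := (IsLocalization.Away.algebraMap_isUnit (S := S') ε).map r
  rw [map_mul] at h2
  have h3 : ρ (s - algebraMap A S a) ∈ I := (Ideal.mul_unit_mem_iff_mem I hu).1 h2
  rw [map_sub, AlgHom.commutes, ← Ideal.Quotient.eq] at h3
  exact h3.trans ha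

theorem isWContractible_quotient (A : Type u) [CommRing A] (hA : EtPBC.IsWContractible A) (I : Ideal A)
    (hI : I ≤ Ideal.jacobson ⊥) : EtPBC.IsWContractible (A ⧸ I) := by
  refine (L27.WContractible.iff_hasIndEtaleRetractions (A ⧸ I)).2 fun D _ _ hff hD => ?_
  letI : Algebra A D := ((algebraMap (A ⧸ I) D).comp (algebraMap A (A ⧸ I))).toAlgebra
  haveI : IsScalarTower A (A ⧸ I) D := .of_algebraMap_eq' rfl
  obtain ⟨C, _, _, hC, ⟨e⟩⟩ := IndLift.exists_indEtale_lift A I D hD
  haveI : Algebra.WeaklyEtale A C := L27.IndEtale.weaklyEtale A C hC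
  let π : C →+* D := e.toAlgHom.toRingHom.comp (Ideal.Quotient.mk _)
  have hπ : ∀ a, π (algebraMap A C a) = algebraMap (A ⧸ I) D (Ideal.Quotient.mk I a) := fun a => e.commutes (Ideal.Quotient.mk I a)
  have hffC : Module.FaithfullyFlat A C := faithfullyFlat_of_jacobson hI fun m hm => by
    haveI := hff
    have hm' : (m.asIdeal.map (Ideal.Quotient.mk I)).IsPrime :=
      Ideal.map_isPrime_of_surjective Ideal.Quotient.mk_surjective (by rw [Ideal.mk_ker]; exact hm)
    obtain ⟨q, hq⟩ := PrimeSpectrum.comap_surjective_of_faithfullyFlat (A := A ⧸ I) (B := D) ⟨_, hm'⟩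
    refine ⟨PrimeSpectrum.comap π q, PrimeSpectrum.ext ?_⟩
    have hq' : Ideal.comap (algebraMap (A ⧸ I) D) q.asIdeal = m.asIdeal.map (Ideal.Quotient.mk I) := congrArg PrimeSpectrum.asIdeal hq
    show Ideal.comap (algebraMap A C) (Ideal.comap π q.asIdeal) = m.asIdeal
    rw [Ideal.comap_comap, show π.comp (algebraMap A C) = (algebraMap (A ⧸ I) D).comp (Ideal.Quotient.mk I) from RingHom.ext hπ,
      ← Ideal.comap_comap, hq', Ideal.comap_map_of_surjective _ Ideal.Quotient.mk_surjective,
      ← RingHom.ker_eq_comap_bot, Ideal.mk_ker, sup_eq_left.2 hm]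
  obtain ⟨r⟩ := hA C hffC inferInstance
  let r' : (C ⧸ I.map (algebraMap A C)) →+* A ⧸ I := Ideal.Quotient.lift _ ((Ideal.Quotient.mk I).comp r.toRingHom)
    (fun x hx => (Ideal.map_le_iff_le_comap.2 fun a ha => show Ideal.Quotient.mk I (r (algebraMap A C a)) = 0 by
      rw [AlgHom.commutes]; exact Ideal.Quotient.eq_zero_iff_mem.2 ha :
      I.map (algebraMap A C) ≤ RingHom.ker ((Ideal.Quotient.mk I).comp r.toRingHom)) hx)
  exact ⟨{ r'.comp e.symm.toAlgHom.toRingHom with
    commutes' := fun x => by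
      obtain ⟨a, rfl⟩ := Ideal.Quotient.mk_surjective x
      show r' (e.symm (algebraMap (A ⧸ I) D (Ideal.Quotient.mk I a))) = Ideal.Quotient.mk I a
      rw [e.symm.commutes]
      show Ideal.Quotient.mk I (r (algebraMap A C a)) = _
      rw [AlgHom.commutes]; rfl }⟩

end Groth.L28.ProEt.WCHens
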