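import Groth.Agent.L28.ProEt.ExtZeroSections
import Groth.Agent.L27.ProEt.Covers
import Groth.Agent.L27.WContractible
import Groth.Agent.L27.ProEt.Sections

/-!
Splitting weakly contractible affines along quasi-compact opens.
-/

set_option autoImplicit false
set_option linter.style.haveILetI false

universe u

open CategoryTheory CategoryTheory.Limits AlgebraicGeometry Opposite

set_option backward.isDefEq.respectTransparency.types false

namespace Groth.L28.ProEt.Split

/-- a clopen part of a compact open containing all its closed points -/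
theorem exists_clopen {S : Type u} [TopologicalSpace S] (h : ProEtW.IsWLocal S) {O : Set S} (hO : IsOpen O)
    (hc : IsCompact O) :
    ∃ E : Set S, IsClopen E ∧ E ⊆ O ∧ ∀ v, v ∉ E → ∃ z, v ⤳ z ∧ z ∉ O := by
  classical
  haveI := h.1
  have hcomp : ∀ c : S, IsClosed ({c} : Set S) → c ∈ O → ∃ W, IsClopen W ∧ c ∈ W ∧ W ⊆ O := fun c hcc hcO => by
    refine L27.Spectral.exists_clopen_subset_of_component_subset hO fun y hy => ?_
    obtain ⟨w, ⟨hw, hyw⟩, -⟩ := h.2.2 y
    have hwy : w ∈ connectedComponent y :=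
      isPreconnected_singleton.closure.subset_connectedComponent (subset_closure rfl)
        (specializes_iff_mem_closure.mp hyw)
    have he := (L27.Spectral.components_bijective_of_unique_specialization h.2.1 h.2.2).1
      (a₁ := ⟨w, hw⟩) (a₂ := ⟨c, hcc⟩)
      ((ConnectedComponents.coe_eq_coe'.mpr hwy).trans (ConnectedComponents.coe_eq_coe'.mpr hy))
    obtain rfl : w = c := congrArg Subtype.val he
    exact hyw.mem_open hO hcO
  choose W hW hcW hWO using hcomp
  let K : Set S := O ∩ {c | IsClosed ({c} : Set S)}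
  have hK : IsCompact K := hc.inter_right h.2.1
  obtain ⟨t, ht⟩ := hK.elim_finite_subcover (fun c : K => W c.1 c.2.2 c.2.1) (fun c => (hW _ _ _).2)
    fun c hc' => Set.mem_iUnion.2 ⟨⟨c, hc'⟩, hcW c _ _⟩
  refine ⟨⋃ c ∈ t, W c.1 c.2.2 c.2.1, Set.Finite.isClopen_biUnion t.finite_toSet fun c _ => hW _ _ _,
    Set.iUnion₂_subset fun c _ => hWO _ _ _, fun v hv => ?_⟩
  obtain ⟨z, ⟨hz, hvz⟩, -⟩ := h.2.2 v
  exact ⟨z, hvz, fun hzO => hv (hvz.mem_open (isOpen_biUnion fun c _ => (hW _ _ _).2) (ht ⟨hzO, hz⟩))⟩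

variable {U X : Scheme.{u}} (j : U ⟶ X) [IsOpenImmersion j] [QuasiCompact j]

theorem exists_split (V : X.ProEt) [IsAffine V.left] (hV : EtPBC.IsWContractible ↥(Γ(V.left, ⊤))) :
    ∃ E : V.left.Opens, IsClopen (E : Set V.left) ∧ (E : Set V.left) ⊆ V.hom ⁻¹' Set.range j ∧
      ∀ v, v ∉ E → ∃ z, z ∉ E ∧ v ⤳ z ∧ V.hom z ∈ (Set.range j)ᶜ := by
  let q : V.left ≅ Spec Γ(V.left, ⊤) := V.left.isoSpec
  let O : Set V.left := V.hom ⁻¹' Set.range j
  have hOo : IsOpen O := j.isOpenEmbedding.isOpen_range.preimage V.hom.continuous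
  have hOc : IsCompact O := by
    let p : pullback V.hom j ⟶ V.left := pullback.fst V.hom j
    haveI : QuasiCompact p := MorphismProperty.pullback_fst _ _ ‹QuasiCompact j›
    haveI : CompactSpace ↑(pullback V.hom j) := QuasiCompact.compactSpace_of_compactSpace p
    rw [show O = Set.range p from (Scheme.Pullback.range_fst (f := V.hom) (g := j)).symm]
    exact isCompact_range p.continuous
  obtain ⟨E, hE, hEO, hEz⟩ := exists_clopen (S := PrimeSpectrum Γ(V.left, ⊤))
    ((L27.WContractible.iff_conditions _).mp hV).1 (O := q.inv ⁻¹' O) (hOo.preimage q.inv.continuous) (by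
      have e : q.inv ⁻¹' O = q.hom '' O := (q.hom.homeomorph.image_eq_preimage_symm O).symm
      exact e ▸ hOc.image q.hom.continuous)
  have hinv : ∀ v, q.inv (q.hom v) = v := fun v => by
    rw [← Scheme.Hom.comp_apply, q.hom_inv_id]; rfl
  refine ⟨⟨q.hom ⁻¹' E, hE.2.preimage q.hom.continuous⟩, hE.preimage q.hom.continuous, fun v hv => ?_, fun v hv => ?_⟩
  · have := hEO hv
    rwa [Set.mem_preimage, hinv] at this
  · obtain ⟨z, hvz, hz⟩ := hEz (q.hom v) hv
    have hz' : v ⤳ q.inv z := hinv v ▸ hvz.map q.inv.continuous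
    exact ⟨q.inv z, fun h => hv (hz'.mem_open (hE.2.preimage q.hom.continuous) h), hz', hz⟩

end Groth.L28.ProEt.Split
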