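import Groth.Agent.L28.ProEt.ClosedSections
import Groth.Agent.L28.ProEt.WCHens
import Groth.Agent.L28.ProEt.WCSplit

/-!
Weakly contractible affines with closed points over the closed subscheme are good.
-/

set_option autoImplicit false
set_option linter.style.haveILetI false
set_option linter.unusedSectionVars false

universe u

open CategoryTheory CategoryTheory.Limits AlgebraicGeometry Opposite

set_option backward.isDefEq.respectTransparency.types false

namespace Groth.L28.ProEt.Closed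

theorem isAffine_clopen {V : Scheme.{u}} [IsAffine V] (P : V.Opens) (hP : IsClopen (P : Set V)) :
    IsAffine P.toScheme := by
  haveI : IsClosedImmersion P.ι := .of_isPreimmersion P.ι (by rw [Scheme.Opens.range_ι]; exact hP.isClosed)
  exact isAffine_of_isAffineHom P.ι

theorem isWContractible_clopen {X : Scheme.{u}} {V : X.ProEt} [IsAffine V.left]
    (hV : EtPBC.IsWContractible ↥Γ(V.left, ⊤)) (P : V.left.Opens) (hP : IsClopen (P : Set V.left)) :
    EtPBC.IsWContractible ↥Γ((L27.ProEt.mkOpen V P).left, ⊤) := by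
  haveI : IsAffine (L27.ProEt.mkOpen V P).left := isAffine_clopen P hP
  let Q : V.left.Opens := ⟨(P : Set V.left)ᶜ, hP.compl.isOpen⟩
  haveI : IsAffine Q.toScheme := isAffine_clopen Q hP.compl
  refine L27.ProEt.isWContractible_of_section fun T g hT hg => ?_
  haveI := hT
  haveI := hg
  haveI : WeaklyEtale T.hom := T.prop
  haveI : WeaklyEtale (L27.ProEt.mkOpen V P).hom := (L27.ProEt.mkOpen V P).prop
  let g' : T.left ⟶ P.toScheme := g.left
  haveI : WeaklyEtale g' := MorphismProperty.of_postcomp @WeaklyEtale g' (L27.ProEt.mkOpen V P).hom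
    (L27.ProEt.mkOpen V P).prop (by rw [show g' ≫ (L27.ProEt.mkOpen V P).hom = T.hom from MorphismProperty.Over.w g]; exact T.prop)
  let p : T.left ⨿ Q.toScheme ⟶ V.left := coprod.desc (g' ≫ P.ι) Q.ι
  haveI : WeaklyEtale p := by
    rw [IsZariskiLocalAtSource.iff_of_openCover (P := @WeaklyEtale) (coprodOpenCover.{u, u} T.left Q.toScheme)]
    rintro (⟨⟩ | ⟨⟩)
    · show WeaklyEtale (coprod.inl ≫ coprod.desc (g' ≫ P.ι) Q.ι)
      rw [coprod.inl_desc]; infer_instance
    · show WeaklyEtale (coprod.inr ≫ coprod.desc (g' ≫ P.ι) Q.ι)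
      rw [coprod.inr_desc]; infer_instance
  haveI : Surjective p := ⟨fun v => by
    by_cases hv : v ∈ P
    · obtain ⟨t, ht⟩ := hg.1 ⟨v, hv⟩
      refine ⟨(coprod.inl : T.left ⟶ T.left ⨿ Q.toScheme) t, ?_⟩
      rw [← Scheme.Hom.comp_apply, coprod.inl_desc, Scheme.Hom.comp_apply]
      exact congrArg P.ι ht
    · refine ⟨(coprod.inr : Q.toScheme ⟶ T.left ⨿ Q.toScheme) ⟨v, hv⟩, ?_⟩
      rw [← Scheme.Hom.comp_apply, coprod.inr_desc]
      rfl⟩
  obtain ⟨s, hs⟩ := exists_section_of_wc hV p
  have hr : Set.range (P.ι ≫ s) ⊆ Set.range (coprod.inl : T.left ⟶ T.left ⨿ Q.toScheme) := by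
    rintro _ ⟨x, rfl⟩
    obtain ⟨(⟨⟩ | ⟨⟩), y, hy⟩ := (coprodOpenCover.{u, u} T.left Q.toScheme).exists_eq ((P.ι ≫ s) x)
    · exact ⟨y, hy⟩
    · exfalso
      have h : (coprod.inr : Q.toScheme ⟶ T.left ⨿ Q.toScheme) y = (P.ι ≫ s) x := hy
      have h1 : (coprod.inr ≫ p : Q.toScheme ⟶ V.left) y = (P.ι ≫ s ≫ p) x := by
        rw [← Category.assoc, Scheme.Hom.comp_apply, h]; rfl
      rw [coprod.inr_desc, hs, Category.comp_id] at h1
      exact y.2 (show Q.ι y ∈ P from h1 ▸ x.2)
  let s' : P.toScheme ⟶ T.left := IsOpenImmersion.lift (coprod.inl : T.left ⟶ T.left ⨿ Q.toScheme) (P.ι ≫ s) hr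
  have hs' : s' ≫ g' = 𝟙 _ := by
    rw [← cancel_mono P.ι, Category.id_comp, Category.assoc, ← coprod.inl_desc (g' ≫ P.ι) Q.ι,
      IsOpenImmersion.lift_fac_assoc, Category.assoc]
    exact (congrArg (fun k => P.ι ≫ k) hs).trans (Category.comp_id _)
  exact ⟨MorphismProperty.Over.homMk s' ((congrArg (fun k => s' ≫ k) (MorphismProperty.Over.w g).symm).trans
    ((Category.assoc _ _ _).symm.trans ((congrArg (fun k => k ≫ (L27.ProEt.mkOpen V P).hom) hs').trans
      (Category.id_comp _)))) trivial, MorphismProperty.Over.Hom.ext hs'⟩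

variable {Z X : Scheme.{u}} {i : Z ⟶ X} [IsClosedImmersion i]

theorem good_of_wc {W : X.ProEt} [IsAffine W.left] (hW : EtPBC.IsWContractible ↥Γ(W.left, ⊤))
    (h : ∀ w : W.left, ∃ z : W.left, w ⤳ z ∧ W.hom z ∈ Set.range i) : Good i W := by
  haveI := isClosedImmersion_clPart (i := i) W
  haveI : IsAffine ((ProEtS.bcP i).obj W).left := isAffine_of_isAffineHom (clPart i W)
  have hs := (IsClosedImmersion.isAffine_surjective_of_isAffine (f := clPart i W)).2
  have hj : RingHom.ker (clPart i W).appTop.hom ≤ Ideal.jacobson ⊥ := le_sInf fun m hm => by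
    haveI := hm.2.isPrime
    let M : PrimeSpectrum Γ(W.left, ⊤) := ⟨m, hm.2.isPrime⟩
    let q := W.left.isoSpec
    obtain ⟨z, hz, hzi⟩ := h (q.inv M)
    obtain ⟨y, hy⟩ : z ∈ Set.range (clPart i W) :=
      (Scheme.Pullback.range_fst (f := W.hom) (g := i)).symm ▸ hzi
    have hM : M ⤳ Spec.map (clPart i W).appTop (((ProEtS.bcP i).obj W).left.isoSpec.hom y) := by
      rw [← Scheme.Hom.comp_apply, Scheme.isoSpec_hom_naturality (clPart i W), Scheme.Hom.comp_apply, hy]
      have h2 : q.hom (q.inv M) ⤳ q.hom z := hz.map q.hom.continuous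
      rwa [← Scheme.Hom.comp_apply, q.inv_hom_id] at h2
    have hle : m ≤ Ideal.comap (clPart i W).appTop.hom (((ProEtS.bcP i).obj W).left.isoSpec.hom y).asIdeal :=
      (PrimeSpectrum.le_iff_specializes _ _).mpr hM
    rw [hm.2.eq_of_le (Ideal.IsPrime.comap _).ne_top hle]
    exact Ideal.comap_mono bot_le
  exact ⟨inferInstance, WCHens.henselianRing _ hW _ hj, L27.ProEt.isWContractible_of_ringEquiv
    (RingHom.quotientKerEquivOfSurjective hs) (WCHens.isWContractible_quotient _ hW _ hj)⟩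

variable [ProEtS.PCont i]

/-- the unit at good objects -/
theorem bijective_unit (F : ProEtS.AbP X) {W : X.ProEt} (hW : Good i W) :
    Function.Bijective (((ProEtS.pullPushAdjP i).unit.app F).hom.app (op W)) := by
  let P := Functor.sheafPullbackConstruction.sheafPullback (ProEtS.bcP i) AddCommGrpCat.{u + 1}
    (Scheme.ProEt.topology X) (Scheme.ProEt.topology Z)
  let adj' := Functor.sheafPullbackConstruction.sheafAdjunctionContinuous (ProEtS.bcP i) AddCommGrpCat.{u + 1}
    (Scheme.ProEt.topology X) (Scheme.ProEt.topology Z)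
  let e := (Functor.sheafPullbackConstruction.sheafPullbackIso (ProEtS.bcP i) AddCommGrpCat.{u + 1}
    (Scheme.ProEt.topology X) (Scheme.ProEt.topology Z)).app F
  have h0 : (adj'.unit.app F).hom = (secComp i AddCommGrpCat.{u + 1}).app F := by
    show (sheafToPresheaf (Scheme.ProEt.topology X) AddCommGrpCat.{u + 1}).map (adj'.unit.app F) = _
    simp only [adj', Functor.sheafPullbackConstruction.sheafAdjunctionContinuous,
      Adjunction.map_restrictFullyFaithful_unit_app, Adjunction.comp_unit_app, Iso.refl_hom, NatTrans.id_app,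
      CategoryTheory.Functor.map_id, Category.comp_id]
    rfl
  have h1 : ((ProEtS.pullPushAdjP i).unit.app F).hom.app (op W) ≫ e.hom.hom.app (op ((ProEtS.bcP i).obj W)) =
      ((secComp i AddCommGrpCat.{u + 1}).app F).app (op W) := by
    have h2 : (ProEtS.pullPushAdjP i).unit.app F ≫ (ProEtS.pushP i).map e.hom = adj'.unit.app F :=
      Adjunction.unit_leftAdjointUniq_hom_app _ _ F
    rw [← h0, ← h2]
    rfl
  haveI := isIso_secComp (i := i) F hW
  haveI : IsIso (((ProEtS.pullPushAdjP i).unit.app F).hom.app (op W) ≫ e.hom.hom.app (op ((ProEtS.bcP i).obj W))) := by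
    rw [h1]; infer_instance
  have he : IsIso (e.hom.hom.app (op ((ProEtS.bcP i).obj W))) :=
    inferInstanceAs (IsIso ((sheafToPresheaf _ _ ⋙ (evaluation _ _).obj (op ((ProEtS.bcP i).obj W))).map e.hom))
  haveI : IsIso (((ProEtS.pullPushAdjP i).unit.app F).hom.app (op W)) :=
    @IsIso.of_isIso_comp_right _ _ _ _ _ _ (e.hom.hom.app (op ((ProEtS.bcP i).obj W))) he ‹_›
  exact ConcreteCategory.bijective_of_isIso (((ProEtS.pullPushAdjP i).unit.app F).hom.app (op W))

end Groth.L28.ProEt.Closed
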