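import Groth.Agent.L28.ProEt.ClosedSections
import Mathlib.CategoryTheory.Adjunction.PartialAdjoint
import Mathlib.CategoryTheory.Sites.RegularEpi

/-!
The inverse image along a closed immersion on pro-étale sheaves of sets has a left adjoint.
-/

set_option autoImplicit false
set_option linter.style.haveILetI false
set_option linter.unusedSectionVars false

universe u

open CategoryTheory CategoryTheory.Limits AlgebraicGeometry Opposite

set_option backward.isDefEq.respectTransparency.types false

namespace Groth.L28.ProEt.Closed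

/-- the sheaf represented by an object -/
noncomputable abbrev rep {X : Scheme.{u}} (V : X.ProEt) : Sheaf (Scheme.ProEt.topology X) (Type (u + 1)) :=
  (presheafToSheaf _ _).obj (uliftYoneda.{u + 1}.obj V)

/-- maps out of a represented sheaf -/
noncomputable def repEquiv {X : Scheme.{u}} {V : X.ProEt} {F : Sheaf (Scheme.ProEt.topology X) (Type (u + 1))} :
    (rep V ⟶ F) ≃ F.obj.obj (op V) :=
  ((sheafificationAdjunction _ _).homEquiv _ _).trans uliftYonedaEquiv.{u + 1}

theorem repEquiv_comp {X : Scheme.{u}} {V : X.ProEt} {F G : Sheaf (Scheme.ProEt.topology X) (Type (u + 1))}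
    (f : rep V ⟶ F) (g : F ⟶ G) : repEquiv (f ≫ g) = g.hom.app (op V) (repEquiv f) := by
  simp only [repEquiv, Equiv.trans_apply, Adjunction.homEquiv_naturality_right]
  rfl

variable {Z X : Scheme.{u}} {i : Z ⟶ X} [IsClosedImmersion i] [ProEtS.PCont i]

theorem hom_ext_of_good {F G : Sheaf (Scheme.ProEt.topology Z) (Type (u + 1))} {a b : F ⟶ G}
    (h : ∀ W : X.ProEt, Good i W → ∀ x, a.hom.app (op ((ProEtS.bcP i).obj W)) x = b.hom.app (op ((ProEtS.bcP i).obj W)) x) :
    a = b := by
  refine Sheaf.hom_ext (NatTrans.ext (funext fun V => ConcreteCategory.hom_ext _ _ fun x => ?_))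
  obtain ⟨R, hR, hRf⟩ := exists_good_sieve (i := i) V.unop
  refine (((isSheaf_iff_isSheaf_of_type _ _).mp G.property).isSeparated _ hR).ext ?_
  intro T q hq
  obtain ⟨W, p, r, hW, rfl⟩ := hRf q hq
  show G.obj.map (p ≫ r).op _ = G.obj.map (p ≫ r).op _
  rw [op_comp, Functor.map_comp_apply, Functor.map_comp_apply]
  refine congrArg (G.obj.map p.op) ?_
  rw [← NatTrans.naturality_apply, ← NatTrans.naturality_apply]
  exact h W hW _

variable (i) in
theorem isRightAdjoint_pullback :
    (Functor.sheafPullbackConstruction.sheafPullback (ProEtS.bcP i) (Type (u + 1)) (Scheme.ProEt.topology X)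
      (Scheme.ProEt.topology Z)).IsRightAdjoint := by
  let P := Functor.sheafPullbackConstruction.sheafPullback (ProEtS.bcP i) (Type (u + 1)) (Scheme.ProEt.topology X)
    (Scheme.ProEt.topology Z)
  have hrep : ∀ W : X.ProEt, Good i W → P.leftAdjointObjIsDefined (rep ((ProEtS.bcP i).obj W)) := fun W hW => by
    have hs : ∀ F, Function.Bijective (((secComp i (Type (u + 1))).app F).app (op W)) := fun F => by
      haveI := isIso_secComp F hW
      exact ConcreteCategory.bijective_of_isIso (((secComp i (Type (u + 1))).app F).app (op W))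
    let s := fun F => Equiv.ofBijective _ (hs F)
    refine (show (P ⋙ coyoneda.obj (op (rep ((ProEtS.bcP i).obj W)))).CorepresentableBy (rep W) from
      { homEquiv := fun {F} => (repEquiv.trans (s F)).trans repEquiv.symm
        homEquiv_comp := fun {F G} g f => ?_ }).isCorepresentable
    apply repEquiv.injective
    show repEquiv (repEquiv.symm (s G (repEquiv (f ≫ g)))) = repEquiv (repEquiv.symm (s F (repEquiv f)) ≫ P.map g)
    rw [repEquiv_comp, repEquiv_comp, Equiv.apply_symm_apply, Equiv.apply_symm_apply]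
    exact ConcreteCategory.congr_hom (congr($((secComp i (Type (u + 1))).naturality g).app (op W))) (repEquiv f)
  have hcov : ∀ Y : Sheaf (Scheme.ProEt.topology Z) (Type (u + 1)),
      ∃ (Q : Sheaf (Scheme.ProEt.topology Z) (Type (u + 1))) (π : Q ⟶ Y), Epi π ∧ P.leftAdjointObjIsDefined Q := fun Y => by
    let ι := Σ W : {W : X.ProEt // Good i W}, Y.obj.obj (op ((ProEtS.bcP i).obj W.1))
    let f : ι → Sheaf (Scheme.ProEt.topology Z) (Type (u + 1)) := fun k => rep ((ProEtS.bcP i).obj k.1.1)
    refine ⟨∐ f, Sigma.desc fun k => repEquiv.symm k.2, ⟨fun {T} a b hab => hom_ext_of_good (i := i) fun W hW y => ?_⟩,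
      Functor.leftAdjointObjIsDefined_colimit _ fun k => hrep _ k.as.1.2⟩
    have h1 := congrArg (fun m => repEquiv (Sigma.ι f ⟨⟨W, hW⟩, y⟩ ≫ m)) hab
    simp only [← Category.assoc, Sigma.ι_desc, repEquiv_comp, Equiv.apply_symm_apply] at h1
    exact h1
  refine Functor.isRightAdjoint_of_leftAdjointObjIsDefined_eq_top (funext fun Y => ?_)
  simp only [Pi.top_apply, Prop.top_eq_true, eq_iff_iff, iff_true]
  obtain ⟨Q, π, hπ, hQ⟩ := hcov Y
  obtain ⟨Q', ρ, hρ, hQ'⟩ := hcov (pullback π π)
  haveI := IsRegularEpiCategory.regularEpiOfEpi π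
  let hc := isCoequalizerEpiComp (isColimitCoforkOfEffectiveEpi π _ (pullbackIsPullback π π)) (hm := hρ) ρ
  refine Functor.leftAdjointObjIsDefined_of_isColimit hc fun j => ?_
  cases j
  · exact hQ'
  · exact hQ

end Groth.L28.ProEt.Closed
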