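import Groth.Prelude.Def_ProEtS
import Mathlib.CategoryTheory.Adjunction.Triple
import Mathlib.CategoryTheory.Adjunction.FullyFaithful

/-!
Direct image and extension by zero along monomorphisms weakly étale are fully faithful.
-/

set_option autoImplicit false
set_option linter.style.haveILetI false

universe u

open CategoryTheory CategoryTheory.Limits AlgebraicGeometry Opposite

set_option backward.isDefEq.respectTransparency.types false

namespace Groth.L28.ProEt.OpenImm

variable {U X : Scheme.{u}} (j : U ⟶ X) [WeaklyEtale j]

/-- composition with `j` is left adjoint to base change -/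
noncomputable def adj : ProEtS.compP j ⊣ ProEtS.bcP j :=
  MorphismProperty.Over.mapPullbackAdj (@WeaklyEtale) ⊤ j ‹_› trivial

theorem isIso_unit [Mono j] : IsIso (adj j).unit := by
  haveI : (ProEtS.compP j).Faithful := ⟨fun {_ _} f g h => MorphismProperty.Over.Hom.ext
    (congrArg (fun k : (ProEtS.compP j).obj _ ⟶ (ProEtS.compP j).obj _ => k.left) h)⟩
  haveI : (ProEtS.compP j).Full := ⟨fun {V W} g =>
    ⟨MorphismProperty.Over.homMk g.left ((cancel_mono j).1
      ((Category.assoc _ _ _).trans (MorphismProperty.Over.w g))), MorphismProperty.Over.Hom.ext rfl⟩⟩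
  infer_instance

variable [ProEtS.JPCont j] [ProEtS.PCont j]

/-- restriction is left adjoint to direct image -/
noncomputable def restrPushAdj : ProEtS.restrP j ⊣ ProEtS.pushP j :=
  (adj j).sheafPushforwardContinuous (Scheme.ProEt.topology U) (Scheme.ProEt.topology X)

variable [Mono j]

theorem isIso_counit : IsIso (restrPushAdj j).counit := by
  haveI := isIso_unit j
  exact (restrPushAdj j).isIso_counit_of_iso
    (Functor.sheafPushforwardContinuousComp' (F := ProEtS.compP j) (G := ProEtS.bcP j) (FG := 𝟭 U.ProEt)
      (asIso (adj j).unit).symm AddCommGrpCat.{u + 1} (Scheme.ProEt.topology U) (Scheme.ProEt.topology X)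
      (Scheme.ProEt.topology U) ≪≫ Functor.sheafPushforwardContinuousId AddCommGrpCat.{u + 1} (Scheme.ProEt.topology U))

theorem isIso_counit_pullPush : IsIso (ProEtS.pullPushAdjP j).counit := by
  haveI := isIso_counit j
  let h := (restrPushAdj j).fullyFaithfulROfIsIsoCounit
  haveI := h.full
  haveI := h.faithful
  infer_instance

theorem isIso_unit_extZero : IsIso (ProEtS.extZeroPAdj j).unit :=
  (Adjunction.Triple.isIso_unit_iff_isIso_counit (⟨ProEtS.extZeroPAdj j, restrPushAdj j⟩ :
    Adjunction.Triple (ProEtS.extZeroP j) (ProEtS.restrP j) (ProEtS.pushP j))).2 (isIso_counit j)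

end Groth.L28.ProEt.OpenImm
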