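import Groth.Agent.L28.ProEt.WCSplit
import Groth.Agent.L28.ProEt.OpenImm
import Groth.Agent.L28.ProEt.Ext

/-!
Extension by zero along quasi-compact open immersions commutes with limits.
-/

set_option autoImplicit false
set_option linter.style.haveILetI false

universe v w u

open CategoryTheory CategoryTheory.Limits AlgebraicGeometry Opposite

set_option backward.isDefEq.respectTransparency.types false

namespace Groth.L28.ProEt.ExtZero

variable {X : Scheme.{u}}

theorem exists_wc_family (U : X.ProEt) : ∃ (ι : Type u) (V : ι → X.ProEt) (g : ∀ i, V i ⟶ U),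
    Sieve.ofArrows V g ∈ Scheme.ProEt.topology X U ∧
      ∀ i, IsAffine (V i).left ∧ EtPBC.IsWContractible ↥(Γ((V i).left, ⊤)) := by
  obtain ⟨ι, W, hW, hc⟩ := L27.ProEt.exists_affineOpens_cover U.left
  obtain ⟨V, g, hmem, -, hV⟩ := L27.ProEt.exists_wContractible_family U W hW hc
  exact ⟨ι, V, g, hmem, hV⟩

/-- isomorphisms are detected on weakly contractible affines -/
theorem isIso_of_wc_affine {F G : Sheaf (Scheme.ProEt.topology X) (Type (u + 1))} (φ : F ⟶ G)
    (h : ∀ V : X.ProEt, IsAffine V.left → EtPBC.IsWContractible ↥(Γ(V.left, ⊤)) →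
      Function.Bijective (φ.hom.app (op V))) : IsIso φ := by
  haveI : Sheaf.IsLocallyInjective φ := ⟨fun {U} x y hxy => by
    obtain ⟨ι, V, g, hmem, hV⟩ := exists_wc_family U.unop
    refine GrothendieckTopology.superset_covering _ ?_ hmem
    rw [Sieve.generate_le_iff, Presieve.ofArrows_le_iff]
    intro i
    refine (h _ (hV i).1 (hV i).2).1 ((NatTrans.naturality_apply φ.hom (g i).op x).trans ?_)
    exact (congrArg (G.obj.map (g i).op) hxy).trans (NatTrans.naturality_apply φ.hom (g i).op y).symm⟩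
  haveI : Sheaf.IsLocallySurjective φ := ⟨fun {U} x => by
    obtain ⟨ι, V, g, hmem, hV⟩ := exists_wc_family U
    refine GrothendieckTopology.superset_covering _ ?_ hmem
    rw [Sieve.generate_le_iff, Presieve.ofArrows_le_iff]
    intro i
    exact (h _ (hV i).1 (hV i).2).2 (G.obj.map (g i).op x)⟩
  exact (Sheaf.isLocallyBijective_iff_isIso φ).mp ⟨inferInstance, inferInstance⟩

section Restrict

variable {T : X.ProEt} (H : Sheaf (Scheme.ProEt.topology X) (Type (u + 1))) (E : T.left.Opens)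
  (hE : IsClopen (E : Set T.left))

theorem bijective_restrict_clopen
    (hs : Subsingleton (H.obj.obj (op (L27.ProEt.mkOpen T ⟨(E : Set T.left)ᶜ, hE.compl.isOpen⟩))))
    (hne : Nonempty (H.obj.obj (op (L27.ProEt.mkOpen T ⟨(E : Set T.left)ᶜ, hE.compl.isOpen⟩)))) :
    Function.Bijective (H.obj.map (L27.ProEt.mkOpenHom T E).op) := by
  obtain ⟨y₀⟩ := hne
  let P : ULift.{u} (Fin 2) → T.left.Opens := fun k => ![E, ⟨(E : Set T.left)ᶜ, hE.compl.isOpen⟩] k.down
  haveI : ∀ k, IsOpenImmersion (L27.ProEt.mkOpenHom T (P k)).left := fun k =>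
    inferInstanceAs (IsOpenImmersion (P k).ι)
  have hb := L27.ProEt.bijective_sheaf_of_disjoint H (fun k => L27.ProEt.mkOpen T (P k))
    (fun k => L27.ProEt.mkOpenHom T (P k))
    (fun k l hkl => by
      show Disjoint (Set.range (P k).ι) (Set.range (P l).ι)
      rw [Scheme.Opens.range_ι, Scheme.Opens.range_ι]
      obtain ⟨k⟩ := k
      obtain ⟨l⟩ := l
      fin_cases k <;> fin_cases l <;> first | exact absurd rfl hkl | exact disjoint_compl_right | exact disjoint_compl_left)
    (fun z => by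
      by_cases hz : z ∈ E
      · exact ⟨⟨0⟩, ⟨z, hz⟩, rfl⟩
      · exact ⟨⟨1⟩, ⟨z, hz⟩, rfl⟩)
  refine ⟨fun a b hab => hb.1 (funext fun k => ?_), fun y => ?_⟩
  · obtain ⟨k⟩ := k
    fin_cases k
    · exact hab
    · exact hs.elim _ _
  · obtain ⟨t, ht⟩ := hb.2 fun k =>
      match k with
      | ⟨0⟩ => y
      | ⟨1⟩ => y₀
    exact ⟨t, congrFun ht ⟨0⟩⟩

end Restrict

variable {U : Scheme.{u}} (j : U ⟶ X) [IsOpenImmersion j] [QuasiCompact j]

/-- a weakly contractible affine has a part over `U` outside of which `j_!` vanishes -/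
theorem exists_part (V : X.ProEt) [IsAffine V.left] (hV : EtPBC.IsWContractible ↥(Γ(V.left, ⊤))) :
    ∃ (E : V.left.Opens) (hE : IsClopen (E : Set V.left)) (W : U.ProEt)
      (e : (ProEtS.compP j).obj W ⟶ L27.ProEt.mkOpen V E), IsIso e ∧
      ∀ [ProEtS.JPCont j] (F : ProEtS.AbP U), Subsingleton
        (((ProEtS.extZeroP j).obj F).obj.obj (op (L27.ProEt.mkOpen V ⟨(E : Set V.left)ᶜ, hE.compl.isOpen⟩))) := by
  obtain ⟨E, hE, hEj, hz⟩ := Split.exists_split j V hV
  let Vh : (L27.ProEt.mkOpen V E).left ⟶ X := (L27.ProEt.mkOpen V E).hom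
  have hr : Set.range Vh ⊆ Set.range j := by
    rintro _ ⟨w, rfl⟩
    exact hEj w.2
  haveI : WeaklyEtale (IsOpenImmersion.lift j Vh hr) :=
    MorphismProperty.of_postcomp @WeaklyEtale _ j (inferInstance : WeaklyEtale j)
      (by rw [IsOpenImmersion.lift_fac]; exact (L27.ProEt.mkOpen V E).prop)
  let W : U.ProEt := Scheme.ProEt.mk (IsOpenImmersion.lift j Vh hr)
  let e : (ProEtS.compP j).obj W ⟶ L27.ProEt.mkOpen V E :=
    MorphismProperty.Over.homMk (𝟙 _) ((Category.id_comp _).trans (IsOpenImmersion.lift_fac j Vh hr).symm) trivial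
  refine ⟨E, hE, W, e, ⟨MorphismProperty.Over.homMk (𝟙 _)
      ((Category.id_comp _).trans (IsOpenImmersion.lift_fac j Vh hr)) trivial,
    MorphismProperty.Over.Hom.ext (Category.id_comp _), MorphismProperty.Over.Hom.ext (Category.id_comp _)⟩, ?_⟩
  intro _ F
  let P : V.left.Opens := ⟨(E : Set V.left)ᶜ, hE.compl.isOpen⟩
  haveI : IsAffine (L27.ProEt.mkOpen V P).left := by
    let q : (L27.ProEt.mkOpen V P).left ⟶ V.left := P.ι
    haveI : IsClosedImmersion q := .of_isPreimmersion P.ι (by rw [Scheme.Opens.range_ι]; exact hE.compl.isClosed)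
    exact isAffine_of_isAffineHom q
  refine subsingleton j (disjoint_compl_right (a := Set.range j)) _ (fun v => ?_) F
  obtain ⟨z, hzE, hvz, hzU⟩ := hz v.1 v.2
  exact ⟨⟨z, hzE⟩, hzU, P.ι.isOpenEmbedding.isInducing.specializes_iff.mp hvz⟩

variable [ProEtS.JPCont j]

theorem nonempty_sections_iso (V : X.ProEt) [IsAffine V.left] (hV : EtPBC.IsWContractible ↥(Γ(V.left, ⊤))) :
    ∃ W : U.ProEt, Nonempty (ProEtS.extZeroP j ⋙ sheafToPresheaf _ _ ⋙ (evaluation _ _).obj (op V) ≅
      sheafToPresheaf _ _ ⋙ (evaluation _ _).obj (op W)) := by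
  obtain ⟨E, hE, W, e, _, hs⟩ := exists_part j V hV
  haveI := L27.ProEt.pCont j
  haveI := OpenImm.isIso_unit_extZero j
  have hb : ∀ F : ProEtS.AbP U, IsIso (((ProEtS.extZeroP j).obj F).obj.map (e ≫ L27.ProEt.mkOpenHom V E).op) := fun F => by
    rw [op_comp, Functor.map_comp]
    haveI : IsIso (((ProEtS.extZeroP j).obj F).obj.map (L27.ProEt.mkOpenHom V E).op) := by
      rw [ConcreteCategory.isIso_iff_bijective]
      exact bijective_restrict_clopen ((sheafCompose _ (forget AddCommGrpCat.{u + 1})).obj ((ProEtS.extZeroP j).obj F))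
        E hE (hs F) ⟨(0 : ((ProEtS.extZeroP j).obj F).obj.obj _)⟩
    infer_instance
  let α : ProEtS.extZeroP j ⋙ sheafToPresheaf _ _ ⋙ (evaluation _ _).obj (op V) ≅
      (ProEtS.extZeroP j ⋙ ProEtS.restrP j) ⋙ sheafToPresheaf _ _ ⋙ (evaluation _ _).obj (op W) :=
    NatIso.ofComponents (fun F => @asIso _ _ _ _ _ (hb F)) fun {F G} φ =>
      (((ProEtS.extZeroP j).map φ).hom.naturality (e ≫ L27.ProEt.mkOpenHom V E).op).symm
  exact ⟨W, ⟨α ≪≫ Functor.isoWhiskerRight (asIso (ProEtS.extZeroPAdj j).unit).symm _⟩⟩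

theorem preservesLimitsOfShape (J : Type u) [SmallCategory J] :
    PreservesLimitsOfShape J (ProEtS.extZeroP j) := by
  refine ⟨fun {K} => ⟨fun {c} hc => ?_⟩⟩
  let L := ProEtS.extZeroP j
  have hiso : IsIso (limit.lift (K ⋙ L) (L.mapCone c)) := by
    suffices h : IsIso ((sheafCompose (Scheme.ProEt.topology X) (forget AddCommGrpCat.{u + 1})).map
        (limit.lift (K ⋙ L) (L.mapCone c))) from isIso_of_reflects_iso _ (sheafCompose _ (forget AddCommGrpCat.{u + 1}))
    refine isIso_of_wc_affine _ fun V _ hV => ?_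
    obtain ⟨W, ⟨α⟩⟩ := nonempty_sections_iso j V hV
    let Ev : ProEtS.AbP X ⥤ AddCommGrpCat.{u + 1} := sheafToPresheaf _ _ ⋙ (evaluation _ _).obj (op V)
    haveI : PreservesLimitsOfShape J Ev := inferInstance
    haveI : PreservesLimitsOfShape J (L ⋙ Ev) := preservesLimitsOfShape_of_natIso α.symm
    let h1 : IsLimit (Ev.mapCone (L.mapCone c)) := isLimitOfPreserves (L ⋙ Ev) hc
    let h2 : IsLimit (Ev.mapCone (limit.cone (K ⋙ L))) := isLimitOfPreserves Ev (limit.isLimit _)
    have : IsIso (Ev.map (limit.lift (K ⋙ L) (L.mapCone c))) := by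
      have e : Ev.map (limit.lift (K ⋙ L) (L.mapCone c)) = (h1.conePointUniqueUpToIso h2).hom := h2.hom_ext fun i => by
        rw [IsLimit.conePointUniqueUpToIso_hom_comp]
        exact (Ev.map_comp _ _).symm.trans (congrArg Ev.map (limit.lift_π _ _))
      rw [e]; infer_instance
    exact ConcreteCategory.bijective_of_isIso (Ev.map (limit.lift (K ⋙ L) (L.mapCone c)))
  exact ⟨IsLimit.ofPointIso (limit.isLimit (K ⋙ L)) (i := hiso)⟩

end Groth.L28.ProEt.ExtZero
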