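import Groth.Agent.L28.ProEt.ClosedGoodWC
import Groth.Agent.L28.ProEt.ExtZeroLimits
import Mathlib.Algebra.Homology.ShortComplex.ShortExact

/-!
The short exact sequence of a closed subscheme and its quasi-compact open complement.
-/

set_option autoImplicit false
set_option linter.style.haveILetI false
set_option linter.unusedSectionVars false

universe u

open CategoryTheory CategoryTheory.Limits AlgebraicGeometry Opposite

set_option backward.isDefEq.respectTransparency.types false

namespace Groth.L28.ProEt.Closed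

variable {X : Scheme.{u}}

theorem ext_of_wc {F : ProEtS.AbP X} {V : X.ProEt} {x y : F.obj.obj (op V)}
    (h : ∀ (T : X.ProEt) (g : T ⟶ V), IsAffine T.left → EtPBC.IsWContractible ↥Γ(T.left, ⊤) →
      F.obj.map g.op x = F.obj.map g.op y) : x = y := by
  obtain ⟨ι, T, g, hmem, hT⟩ := ExtZero.exists_wc_family V
  refine (((isSheaf_iff_isSheaf_of_type _ _).mp
    ((sheafCompose (Scheme.ProEt.topology X) (forget AddCommGrpCat.{u + 1})).obj F).property).isSeparated _ hmem).ext ?_
  rintro T' q ⟨_, a, _, ⟨k⟩, rfl⟩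
  show F.obj.map (a ≫ g k).op x = F.obj.map (a ≫ g k).op y
  rw [op_comp, Functor.map_comp_apply, Functor.map_comp_apply, h _ _ (hT k).1 (hT k).2]

/-- exactness from exactness on sections over weakly contractible affines -/
theorem shortExact_of_wc {A B C : ProEtS.AbP X} (f : A ⟶ B) (g : B ⟶ C)
    (h : ∀ T : X.ProEt, IsAffine T.left → EtPBC.IsWContractible ↥Γ(T.left, ⊤) →
      Function.Injective (f.hom.app (op T)) ∧ Function.Surjective (g.hom.app (op T)) ∧
      (∀ a, g.hom.app (op T) (f.hom.app (op T) a) = 0) ∧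
      ∀ b, g.hom.app (op T) b = 0 → ∃ a, f.hom.app (op T) a = b) :
    ∃ w : f ≫ g = 0, (ShortComplex.mk f g w).ShortExact := by
  have w : f ≫ g = 0 := Sheaf.hom_ext (NatTrans.ext (funext fun V => ConcreteCategory.hom_ext _ _ fun a =>
    ext_of_wc (V := V.unop) fun T q hT hwc => by
      show C.obj.map q.op (g.hom.app V (f.hom.app V a)) = C.obj.map q.op 0
      rw [map_zero, ← NatTrans.naturality_apply, ← NatTrans.naturality_apply]
      exact (h T hT hwc).2.2.1 _))
  haveI : Sheaf.IsLocallyInjective f := ⟨fun {V} x y hxy => by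
    obtain ⟨ι, T, q, hmem, hT⟩ := ExtZero.exists_wc_family V.unop
    refine GrothendieckTopology.superset_covering _ ?_ hmem
    rw [Sieve.generate_le_iff, Presieve.ofArrows_le_iff]
    intro k
    refine (h _ (hT k).1 (hT k).2).1 ((NatTrans.naturality_apply f.hom (q k).op x).trans ?_)
    exact (congrArg (B.obj.map (q k).op) hxy).trans (NatTrans.naturality_apply f.hom (q k).op y).symm⟩
  haveI : Sheaf.IsLocallySurjective g := ⟨fun {V} x => by
    obtain ⟨ι, T, q, hmem, hT⟩ := ExtZero.exists_wc_family V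
    refine GrothendieckTopology.superset_covering _ ?_ hmem
    rw [Sieve.generate_le_iff, Presieve.ofArrows_le_iff]
    intro k
    exact (h _ (hT k).1 (hT k).2).2.1 (C.obj.map (q k).op x)⟩
  haveI : Mono f := ⟨fun {T} a b hab => Sheaf.hom_ext (NatTrans.ext (funext fun V => ConcreteCategory.hom_ext _ _ fun x =>
    ext_of_wc (V := V.unop) fun T' q hT hwc => (h T' hT hwc).1 (by
      rw [NatTrans.naturality_apply, NatTrans.naturality_apply]
      exact congrArg (B.obj.map q.op) (congr($(hab).hom.app V x)))))⟩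
  haveI : Epi g := (Sheaf.isLocallySurjective_iff_epi' AddCommGrpCat.{u + 1} g).mp inferInstance
  haveI : Sheaf.IsLocallySurjective (kernel.lift g f w) := ⟨fun {V} x => by
    obtain ⟨ι, T, q, hmem, hT⟩ := ExtZero.exists_wc_family V
    refine GrothendieckTopology.superset_covering _ ?_ hmem
    rw [Sieve.generate_le_iff, Presieve.ofArrows_le_iff]
    intro k
    have h0 : g.hom.app (op (T k)) ((kernel.ι g).hom.app (op (T k)) ((kernel g).obj.map (q k).op x)) = 0 :=
      congr($(kernel.condition g).hom.app (op (T k)) ((kernel g).obj.map (q k).op x))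
    obtain ⟨a, ha⟩ := (h _ (hT k).1 (hT k).2).2.2.2 _ h0
    refine ⟨a, ?_⟩
    haveI : Mono ((kernel.ι g).hom.app (op (T k))) :=
      inferInstanceAs (Mono ((sheafToPresheaf _ _ ⋙ (evaluation _ _).obj (op (T k))).map (kernel.ι g)))
    refine (AddCommGrpCat.mono_iff_injective ((kernel.ι g).hom.app (op (T k)))).mp inferInstance ?_
    exact (congr($(kernel.lift_ι g f w).hom.app (op (T k)) a)).trans ha⟩
  haveI : Epi (kernel.lift g f w) := (Sheaf.isLocallySurjective_iff_epi' AddCommGrpCat.{u + 1} _).mp inferInstance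
  exact ⟨w, { exact := (ShortComplex.exact_iff_epi_kernel_lift _).mpr ‹Epi (kernel.lift g f w)›, mono_f := ‹Mono f›, epi_g := ‹Epi g› }⟩

variable {Z U : Scheme.{u}} (i : Z ⟶ X) [IsClosedImmersion i] (j : U ⟶ X) [IsOpenImmersion j] [QuasiCompact j]
  [ProEtS.JPCont j] [ProEtS.PCont i] [ProEtS.PCont j]

theorem shortExact (hc : Set.range j.base = (Set.range i.base)ᶜ) (F : ProEtS.AbP X) :
    ∃ h : (ProEtS.extZeroPAdj j).counit.app F ≫ (ProEtS.pullPushAdjP i).unit.app F = 0,
      (ShortComplex.mk _ _ h).ShortExact := by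
  let c : (ProEtS.extZeroP j).obj ((ProEtS.restrP j).obj F) ⟶ F := (ProEtS.extZeroPAdj j).counit.app F
  let η : F ⟶ (ProEtS.pushP i).obj ((ProEtS.pullP i).obj F) := (ProEtS.pullPushAdjP i).unit.app F
  refine shortExact_of_wc c η fun V hVa hV => ?_
  haveI := hVa
  obtain ⟨E, hE, hEj, hz⟩ := Split.exists_split j V hV
  let R : V.left.Opens := ⟨(E : Set V.left)ᶜ, hE.compl.isOpen⟩
  haveI : IsAffine (L27.ProEt.mkOpen V R).left := isAffine_clopen R hE.compl
  have hgood : Good i (L27.ProEt.mkOpen V R) := good_of_wc (isWContractible_clopen hV R hE.compl) fun w => by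
    obtain ⟨z, hzE, hvz, hzU⟩ := hz w.1 w.2
    refine ⟨⟨z, hzE⟩, R.ι.isOpenEmbedding.isInducing.specializes_iff.mp hvz, ?_⟩
    by_contra hn
    exact hzU (hc ▸ hn)
  have hbR : Function.Bijective (η.hom.app (op (L27.ProEt.mkOpen V R))) := bijective_unit F hgood
  haveI hsR : Subsingleton (((ProEtS.extZeroP j).obj ((ProEtS.restrP j).obj F)).obj.obj (op (L27.ProEt.mkOpen V R))) := by
    refine ExtZero.subsingleton j (disjoint_compl_right (a := Set.range j)) _ (fun v => ?_) _
    obtain ⟨z, hzE, hvz, hzU⟩ := hz v.1 v.2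
    exact ⟨⟨z, hzE⟩, hzU, R.ι.isOpenEmbedding.isInducing.specializes_iff.mp hvz⟩
  haveI hsE : Subsingleton (((ProEtS.pushP i).obj ((ProEtS.pullP i).obj F)).obj.obj (op (L27.ProEt.mkOpen V E))) := by
    haveI : IsEmpty ((ProEtS.bcP i).obj (L27.ProEt.mkOpen V E)).left := ⟨fun z => by
      have h1 : clPart i (L27.ProEt.mkOpen V E) z ∈ (L27.ProEt.mkOpen V E).hom ⁻¹' Set.range i :=
        (Scheme.Pullback.range_fst (f := (L27.ProEt.mkOpen V E).hom) (g := i)) ▸ ⟨z, rfl⟩
      have h2 : V.hom (clPart i (L27.ProEt.mkOpen V E) z).1 ∈ Set.range j := hEj (clPart i (L27.ProEt.mkOpen V E) z).2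
      exact ((hc ▸ h2 : V.hom (clPart i (L27.ProEt.mkOpen V E) z).1 ∈ (Set.range i)ᶜ) h1)⟩
    exact L27.ProEt.subsingleton_of_isEmpty
      ((sheafCompose (Scheme.ProEt.topology Z) (forget AddCommGrpCat.{u + 1})).obj ((ProEtS.pullP i).obj F)) _
  have hbE : Function.Bijective (c.hom.app (op (L27.ProEt.mkOpen V E))) := by
    obtain ⟨W, e, he⟩ : ∃ (W : U.ProEt) (e : (ProEtS.compP j).obj W ⟶ L27.ProEt.mkOpen V E), IsIso e := by
      let Vh : (L27.ProEt.mkOpen V E).left ⟶ X := (L27.ProEt.mkOpen V E).hom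
      have hr : Set.range Vh ⊆ Set.range j := by
        rintro _ ⟨w, rfl⟩
        exact hEj w.2
      haveI : WeaklyEtale (IsOpenImmersion.lift j Vh hr) :=
        MorphismProperty.of_postcomp @WeaklyEtale _ j (inferInstance : WeaklyEtale j)
          (by rw [IsOpenImmersion.lift_fac]; exact (L27.ProEt.mkOpen V E).prop)
      exact ⟨Scheme.ProEt.mk (IsOpenImmersion.lift j Vh hr),
        MorphismProperty.Over.homMk (𝟙 _) ((Category.id_comp _).trans (IsOpenImmersion.lift_fac j Vh hr).symm) trivial,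
        ⟨MorphismProperty.Over.homMk (𝟙 _) ((Category.id_comp _).trans (IsOpenImmersion.lift_fac j Vh hr)) trivial,
          MorphismProperty.Over.Hom.ext (Category.id_comp _), MorphismProperty.Over.Hom.ext (Category.id_comp _)⟩⟩
    haveI := OpenImm.isIso_unit_extZero j
    haveI : IsIso ((ProEtS.extZeroPAdj j).unit.app ((ProEtS.restrP j).obj F) ≫ (ProEtS.restrP j).map c) := by
      exact ((ProEtS.extZeroPAdj j).right_triangle_components F).symm ▸ IsIso.id _
    haveI : IsIso ((ProEtS.restrP j).map c) := IsIso.of_isIso_comp_left ((ProEtS.extZeroPAdj j).unit.app _) _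
    haveI : IsIso (c.hom.app (op ((ProEtS.compP j).obj W))) :=
      inferInstanceAs (IsIso ((sheafToPresheaf _ _ ⋙ (evaluation _ _).obj (op W)).map ((ProEtS.restrP j).map c)))
    haveI := he
    haveI : IsIso e.op := inferInstance
    have h1 := c.hom.naturality e.op
    haveI : IsIso (c.hom.app (op (L27.ProEt.mkOpen V E)) ≫ F.obj.map e.op) :=
      h1 ▸ (inferInstance : IsIso (_ ≫ c.hom.app (op ((ProEtS.compP j).obj W))))
    haveI : IsIso (c.hom.app (op (L27.ProEt.mkOpen V E))) := IsIso.of_isIso_comp_right _ (F.obj.map e.op)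
    exact ConcreteCategory.bijective_of_isIso (c.hom.app (op (L27.ProEt.mkOpen V E)))
  let P : ULift.{u} (Fin 2) → V.left.Opens := fun k => ![E, R] k.down
  haveI : ∀ k, IsOpenImmersion (L27.ProEt.mkOpenHom V (P k)).left := fun k =>
    inferInstanceAs (IsOpenImmersion (P k).ι)
  have hb := fun H : ProEtS.AbP X => L27.ProEt.bijective_sheaf_of_disjoint
    ((sheafCompose (Scheme.ProEt.topology X) (forget AddCommGrpCat.{u + 1})).obj H)
    (fun k => L27.ProEt.mkOpen V (P k)) (fun k => L27.ProEt.mkOpenHom V (P k))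
    (fun k l hkl => by
      show Disjoint (Set.range (P k).ι) (Set.range (P l).ι)
      rw [Scheme.Opens.range_ι, Scheme.Opens.range_ι]
      obtain ⟨k⟩ := k
      obtain ⟨l⟩ := l
      fin_cases k <;> fin_cases l <;> first | exact absurd rfl hkl | exact disjoint_compl_right | exact disjoint_compl_left)
    (fun z => by
      by_cases hz : z ∈ E
      · exact ⟨⟨0⟩, ⟨z, hz⟩, rfl⟩
      · exact ⟨⟨1⟩, ⟨z, hz⟩, rfl⟩)
  have hext : ∀ (H : ProEtS.AbP X) (x y : H.obj.obj (op V)),
      H.obj.map (L27.ProEt.mkOpenHom V E).op x = H.obj.map (L27.ProEt.mkOpenHom V E).op y →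
      H.obj.map (L27.ProEt.mkOpenHom V R).op x = H.obj.map (L27.ProEt.mkOpenHom V R).op y → x = y := fun H x y hxE hxR =>
    (hb H).1 (funext fun k => by obtain ⟨k⟩ := k; fin_cases k <;> assumption)
  have hglue : ∀ (H : ProEtS.AbP X) (xE : H.obj.obj (op (L27.ProEt.mkOpen V E))) (xR : H.obj.obj (op (L27.ProEt.mkOpen V R))),
      ∃ x : H.obj.obj (op V), H.obj.map (L27.ProEt.mkOpenHom V E).op x = xE ∧ H.obj.map (L27.ProEt.mkOpenHom V R).op x = xR :=
    fun H xE xR => by
      obtain ⟨x, hx⟩ := (hb H).2 fun k =>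
        match k with
        | ⟨0⟩ => xE
        | ⟨1⟩ => xR
      exact ⟨x, congrFun hx ⟨0⟩, congrFun hx ⟨1⟩⟩
  refine ⟨fun x y hxy => hext _ x y (hbE.1 ?_) (hsR.elim _ _), fun s => ?_, fun a => hext _ _ _ (hsE.elim _ _) ?_,
    fun b hb0 => ?_⟩
  · rw [NatTrans.naturality_apply, NatTrans.naturality_apply, hxy]
  · obtain ⟨tR, htR⟩ := hbR.2 (((ProEtS.pushP i).obj _).obj.map (L27.ProEt.mkOpenHom V R).op s)
    obtain ⟨t, -, ht⟩ := hglue F 0 tR
    exact ⟨t, hext _ _ _ (hsE.elim _ _) (by rw [← NatTrans.naturality_apply, ht]; exact htR)⟩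
  · rw [← NatTrans.naturality_apply, ← NatTrans.naturality_apply,
      show ((ProEtS.extZeroP j).obj ((ProEtS.restrP j).obj F)).obj.map (L27.ProEt.mkOpenHom V R).op a = 0 from hsR.elim _ _]
    exact (congrArg (η.hom.app _) (map_zero (c.hom.app _).hom)).trans ((map_zero (η.hom.app _).hom).trans (map_zero _).symm)
  · obtain ⟨aE, haE⟩ := hbE.2 (F.obj.map (L27.ProEt.mkOpenHom V E).op b)
    obtain ⟨a, ha, -⟩ := hglue _ aE (0 : ((ProEtS.extZeroP j).obj ((ProEtS.restrP j).obj F)).obj.obj (op (L27.ProEt.mkOpen V R)))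
    refine ⟨a, hext _ _ _ (by rw [← NatTrans.naturality_apply, ha]; exact haE) (hbR.1 ?_)⟩
    have hz0 : η.hom.app (op (L27.ProEt.mkOpen V R)) (F.obj.map (L27.ProEt.mkOpenHom V R).op b) = 0 := by
      rw [NatTrans.naturality_apply, hb0]
      exact map_zero _
    refine Eq.trans ?_ hz0.symm
    rw [← NatTrans.naturality_apply c.hom,
      show ((ProEtS.extZeroP j).obj ((ProEtS.restrP j).obj F)).obj.map (L27.ProEt.mkOpenHom V R).op a = 0 from hsR.elim _ _]
    exact (congrArg (η.hom.app _) (map_zero (c.hom.app _).hom)).trans (map_zero _)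

end Groth.L28.ProEt.Closed
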