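import Groth.Agent.L28.ProEt.ClosedGood
import Mathlib.CategoryTheory.Sites.Pullback
import Mathlib.CategoryTheory.Sites.LocallyBijective
import Mathlib.CategoryTheory.Functor.KanExtension.Adjunction
import Mathlib.CategoryTheory.Limits.Shapes.Terminal

/-!
Sections of the inverse image along a closed immersion at closed parts of good objects.
-/

set_option autoImplicit false
set_option linter.style.haveILetI false
set_option linter.unusedSectionVars false

universe u v w

open CategoryTheory CategoryTheory.Limits AlgebraicGeometry Opposite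

set_option backward.isDefEq.respectTransparency.types false

namespace Groth.L28.ProEt.Closed

variable {Z X : Scheme.{u}} {i : Z ⟶ X} [IsClosedImmersion i] [ProEtS.PCont i]

theorem exists_good_sieve (V : Z.ProEt) : ∃ R ∈ Scheme.ProEt.topology Z V, ∀ ⦃T⦄ (q : T ⟶ V), R q →
    ∃ (W : X.ProEt) (a : T ⟶ (ProEtS.bcP i).obj W) (b : (ProEtS.bcP i).obj W ⟶ V), Good i W ∧ a ≫ b = q := by
  obtain ⟨κ, O, hO, hc⟩ := L27.ProEt.exists_affineOpens_cover V.left
  refine ⟨_, (Scheme.ProEt.topology Z).bind_covering (L27.ProEt.ofArrows_mkOpenHom_mem O hc)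
    (R := fun T q _ => Sieve.generate (fun T' q' => ∃ (W : X.ProEt) (a : T' ⟶ (ProEtS.bcP i).obj W)
      (b : (ProEtS.bcP i).obj W ⟶ V), Good i W ∧ a ≫ b = q' ≫ q)) ?_, ?_⟩
  · rintro T q ⟨_, a, _, ⟨k⟩, rfl⟩
    haveI : IsAffine (L27.ProEt.mkOpen V (O k)).left := hO k
    obtain ⟨ι, hι, W, h, hW, hcov⟩ := exists_good_cover i (L27.ProEt.mkOpen V (O k))
    haveI := hι
    haveI : ∀ m, QuasiCompact (h m).left := fun m => by
      haveI := (hW m).aff
      haveI := isClosedImmersion_clPart (i := i) (W m)
      haveI : IsAffine ((ProEtS.bcP i).obj (W m)).left := isAffine_of_isAffineHom (clPart i (W m))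
      infer_instance
    refine GrothendieckTopology.superset_covering _ ?_ ((Scheme.ProEt.topology Z).pullback_stable a
      (L27.ProEt.generate_ofArrows_mem_of_quasiCompact (U := L27.ProEt.mkOpen V (O k))
        (fun m => (ProEtS.bcP i).obj (W m)) h hcov))
    rintro T' q' ⟨_, b, _, ⟨m⟩, hb⟩
    exact Sieve.le_generate _ _ _ ⟨W m, b, h m ≫ L27.ProEt.mkOpenHom V (O k), hW m, by
      rw [← Category.assoc, hb, Category.assoc]⟩
  · rintro T q ⟨T', f, g, hg, ⟨T'', f', g', ⟨W, a, b, hW, hab⟩, rfl⟩, rfl⟩
    exact ⟨W, f' ≫ a, b, hW, by rw [Category.assoc, hab, Category.assoc]⟩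

variable {A : Type (u + 2)} [Category.{u + 1} A] {FA : A → A → Type (u + 1)} {CA : A → Type (u + 1)}
  [∀ P Q, FunLike (FA P Q) (CA P) (CA Q)] [ConcreteCategory.{u + 1} A FA]

section

variable [(forget A).ReflectsIsomorphisms] [HasWeakSheafify (Scheme.ProEt.topology Z) A]
  [(Scheme.ProEt.topology Z).WEqualsLocallyBijective A] [(Scheme.ProEt.topology X).HasSheafCompose (forget A)]
  [(Scheme.ProEt.topology Z).HasSheafCompose (forget A)]

/-- sheafification does not change presheaves which agree with a sheaf on good objects -/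
theorem bijective_toSheafify (F : Sheaf (Scheme.ProEt.topology X) A) (L : Z.ProEtᵒᵖ ⥤ A)
    (l : F.obj ⟶ (ProEtS.bcP i).op ⋙ L) (hl : ∀ W : X.ProEt, Good i W → IsIso (l.app (op W)))
    {W : X.ProEt} (hW : Good i W) :
    Function.Bijective ((toSheafify (Scheme.ProEt.topology Z) L).app (op ((ProEtS.bcP i).obj W))) := by
  let η := toSheafify (Scheme.ProEt.topology Z) L
  let Fs := (sheafCompose (Scheme.ProEt.topology X) (forget A)).obj F
  have hinj : ∀ (W : X.ProEt), Good i W → Function.Injective (l.app (op W)) := fun W h => by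
    haveI := hl W h
    exact (ConcreteCategory.bijective_of_isIso (l.app (op W))).1
  have hsur : ∀ (W : X.ProEt), Good i W → Function.Surjective (l.app (op W)) := fun W h => by
    haveI := hl W h
    exact (ConcreteCategory.bijective_of_isIso (l.app (op W))).2
  have nat : ∀ {T T' : X.ProEt} (m : T' ⟶ T) (x), l.app (op T') (F.obj.map m.op x) =
      L.map ((ProEtS.bcP i).map m).op (l.app (op T) x) := fun m x => NatTrans.naturality_apply l m.op x
  refine ⟨fun a b hab => ?_, fun s => ?_⟩
  · obtain ⟨a, rfl⟩ := hsur W hW a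
    obtain ⟨b, rfl⟩ := hsur W hW b
    obtain ⟨ι, _, V, P, c, π, S, hV, _, hd, hc, hS, hR⟩ :=
      exists_splitting hW (Presheaf.equalizerSieve_mem (Scheme.ProEt.topology Z) η _ _ hab)
    refine congrArg (l.app (op W)) ?_
    have h1 : F.obj.map π.op a = F.obj.map π.op b := by
      refine (L27.ProEt.bijective_sheaf_of_disjoint Fs V c hd hc).1 (funext fun k => ?_)
      show F.obj.map (c k).op (F.obj.map π.op a) = F.obj.map (c k).op (F.obj.map π.op b)
      refine hinj _ (hV k) ?_
      rw [← Functor.map_comp_apply, ← Functor.map_comp_apply, ← op_comp, nat, nat]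
      exact hR k
    have h2 := congrArg (F.obj.map S.op) h1
    rw [← Functor.map_comp_apply, ← Functor.map_comp_apply, ← op_comp, hS] at h2
    simpa using h2
  · obtain ⟨ι, _, V, P, c, π, S, hV, _, hd, hc, hS, hR⟩ :=
      exists_splitting hW (Presheaf.imageSieve_mem (Scheme.ProEt.topology Z) η s)
    choose t ht using hR
    choose r hr using fun k => hsur _ (hV k) (t k)
    obtain ⟨u, hu⟩ := (L27.ProEt.bijective_sheaf_of_disjoint Fs V c hd hc).2 r
    refine ⟨l.app (op W) (F.obj.map S.op u), ?_⟩
    let G := (sheafCompose (Scheme.ProEt.topology Z) (forget A)).obj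
      ((presheafToSheaf (Scheme.ProEt.topology Z) A).obj L)
    let Ls := sheafify (Scheme.ProEt.topology Z) L
    have key : η.app (op ((ProEtS.bcP i).obj P)) (l.app (op P) u) = Ls.map ((ProEtS.bcP i).map π).op s := by
      have hmem : Sieve.ofArrows (fun k => (ProEtS.bcP i).obj (V k)) (fun k => (ProEtS.bcP i).map (c k)) ∈
          Scheme.ProEt.topology Z ((ProEtS.bcP i).obj P) := by
        have h := (L27.ProEt.coverPreserving_bcP i).cover_preserve
          (L27.ProEt.generate_ofArrows_mem_of_isOpenImmersion V c hc)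
        refine GrothendieckTopology.superset_covering _ ?_ h
        rintro T q ⟨T', q', q'', ⟨_, a, _, ⟨k⟩, rfl⟩, rfl⟩
        exact ⟨_, q'' ≫ (ProEtS.bcP i).map a, _, ⟨k⟩, by rw [Category.assoc, ← Functor.map_comp]⟩
      refine (((isSheaf_iff_isSheaf_of_type _ _).mp G.property).isSeparated _ hmem).ext ?_
      rintro T q ⟨_, a, _, ⟨k⟩, rfl⟩
      show Ls.map (a ≫ (ProEtS.bcP i).map (c k)).op _ = Ls.map (a ≫ (ProEtS.bcP i).map (c k)).op _
      rw [op_comp, Functor.map_comp_apply, Functor.map_comp_apply]
      refine congrArg (Ls.map a.op) ?_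
      refine (NatTrans.naturality_apply η _ _).symm.trans ?_
      rw [← nat, ← Functor.map_comp_apply Ls, ← op_comp, ← Functor.map_comp]
      refine (congrArg (fun z => η.app _ (l.app _ z)) (congrFun hu k)).trans ?_
      rw [hr]
      exact ht k
    rw [nat]
    refine (NatTrans.naturality_apply η _ _).trans ((congrArg (Ls.map ((ProEtS.bcP i).map S).op) key).trans ?_)
    rw [← Functor.map_comp_apply Ls, ← op_comp, ← Functor.map_comp, hS, (ProEtS.bcP i).map_id, op_id,
      Ls.map_id, ConcreteCategory.id_apply]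

variable [∀ F : X.ProEtᵒᵖ ⥤ A, (ProEtS.bcP i).op.HasPointwiseLeftKanExtension F]

/-- the left Kan extension at the closed part of a good object -/
theorem isIso_lanUnit_app (F : X.ProEtᵒᵖ ⥤ A) {W : X.ProEt} (hW : Good i W) :
    IsIso (((ProEtS.bcP i).op.lanUnit.app F).app (op W)) := by
  let G := (ProEtS.bcP i).op
  let a₀ : CostructuredArrow G (G.obj (op W)) := CostructuredArrow.mk (𝟙 _)
  let e := fun a : CostructuredArrow G (G.obj (op W)) => Equiv.ofBijective _ (map_bijective hW a.left.unop)
  let ht : IsTerminal a₀ := IsTerminal.ofUniqueHom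
    (fun a => CostructuredArrow.homMk ((e a).symm a.hom.unop).op (by
      refine (Category.comp_id _).trans (Quiver.Hom.unop_inj ?_)
      exact (e a).apply_symm_apply a.hom.unop))
    (fun a m => CostructuredArrow.hom_ext _ _ (Quiver.Hom.unop_inj ((e a).injective (by
      refine Eq.trans ?_ ((e a).apply_symm_apply a.hom.unop).symm
      exact congrArg Quiver.Hom.unop ((Category.comp_id _).symm.trans (CostructuredArrow.w m))))))
  have hpt := Functor.isPointwiseLeftKanExtensionOfIsLeftKanExtension (G.lan.obj F) (G.lanUnit.app F) (G.obj (op W))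
  have hi := IsColimit.isIso_ι_app_of_isTerminal hpt a₀ ht
  have e1 : (G.lanUnit.app F).app (op W) =
      ((Functor.LeftExtension.mk (G.lan.obj F) (G.lanUnit.app F)).coconeAt (G.obj (op W))).ι.app a₀ := by
    show _ = _ ≫ (G.lan.obj F).map (𝟙 _)
    rw [CategoryTheory.Functor.map_id, Category.comp_id]
    rfl
  rw [e1]
  exact hi

variable (i A) in
/-- comparison of sections with the inverse image -/
noncomputable def secComp : sheafToPresheaf (Scheme.ProEt.topology X) A ⟶
    Functor.sheafPullbackConstruction.sheafPullback (ProEtS.bcP i) A (Scheme.ProEt.topology X) (Scheme.ProEt.topology Z) ⋙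
      sheafToPresheaf _ A ⋙ (Functor.whiskeringLeft _ _ A).obj (ProEtS.bcP i).op where
  app F := (ProEtS.bcP i).op.lanUnit.app F.obj ≫
    Functor.whiskerLeft (ProEtS.bcP i).op (toSheafify (Scheme.ProEt.topology Z) ((ProEtS.bcP i).op.lan.obj F.obj))
  naturality F G φ := by
    ext T
    have h1 := congr($((ProEtS.bcP i).op.lanUnit.naturality φ.hom).app T)
    have h2 := congr($(toSheafify_naturality (Scheme.ProEt.topology Z) ((ProEtS.bcP i).op.lan.map φ.hom)).app
      ((ProEtS.bcP i).op.obj T))
    simp only [NatTrans.comp_app, Functor.whiskeringLeft_obj_map, Functor.whiskerLeft_app, Functor.id_map,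
      Functor.comp_map] at h1 h2 ⊢
    refine congrArg ConcreteCategory.hom ?_
    show φ.hom.app T ≫ _ ≫ _ = (_ ≫ _) ≫ _
    refine (Category.assoc _ _ _).symm.trans ((congrArg (fun k => k ≫ _) h1).trans ?_)
    refine (Category.assoc _ _ _).trans ((congrArg (fun k => _ ≫ k) h2).trans ?_)
    exact (Category.assoc _ _ _).symm

include FA in
theorem isIso_secComp (F : Sheaf (Scheme.ProEt.topology X) A) {W : X.ProEt} (hW : Good i W) :
    IsIso (((secComp i A).app F).app (op W)) := by
  haveI := isIso_lanUnit_app (i := i) F.obj hW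
  haveI : IsIso ((toSheafify (Scheme.ProEt.topology Z) ((ProEtS.bcP i).op.lan.obj F.obj)).app
      (op ((ProEtS.bcP i).obj W))) := by
    rw [ConcreteCategory.isIso_iff_bijective]
    exact bijective_toSheafify F _ ((ProEtS.bcP i).op.lanUnit.app F.obj)
      (fun W h => isIso_lanUnit_app (i := i) F.obj h) hW
  exact IsIso.comp_isIso' ‹IsIso (((ProEtS.bcP i).op.lanUnit.app F.obj).app (op W))› ‹IsIso ((toSheafify _ _).app _)›

/-- morphisms of sheaves on the closed subscheme bijective at closed parts of good objects -/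
theorem isIso_of_good {F G : Sheaf (Scheme.ProEt.topology Z) A} (φ : F ⟶ G)
    (h : ∀ W : X.ProEt, Good i W → Function.Bijective (φ.hom.app (op ((ProEtS.bcP i).obj W)))) : IsIso φ := by
  have hcov := exists_good_sieve (i := i)
  let φ' := (sheafCompose (Scheme.ProEt.topology Z) (forget A)).map φ
  have : IsIso φ' := by
    refine Sheaf.isLocallyBijective_iff_isIso φ' |>.mp ⟨⟨fun {V} x y hxy => ?_⟩, ⟨fun {V} s => ?_⟩⟩
    · obtain ⟨R, hR, hRf⟩ := hcov V.unop
      refine GrothendieckTopology.superset_covering _ ?_ hR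
      intro T q hq
      obtain ⟨W, a, b, hW, rfl⟩ := hRf q hq
      show F.obj.map (a ≫ b).op x = F.obj.map (a ≫ b).op y
      rw [op_comp, Functor.map_comp_apply, Functor.map_comp_apply]
      refine congrArg (F.obj.map a.op) ((h W hW).1 ?_)
      rw [NatTrans.naturality_apply, NatTrans.naturality_apply]
      exact congrArg (G.obj.map b.op) hxy
    · obtain ⟨R, hR, hRf⟩ := hcov V
      refine GrothendieckTopology.superset_covering _ ?_ hR
      intro T q hq
      obtain ⟨W, a, b, hW, rfl⟩ := hRf q hq
      obtain ⟨t, ht⟩ := (h W hW).2 (G.obj.map b.op s)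
      refine ⟨F.obj.map a.op t, ?_⟩
      show φ.hom.app _ (F.obj.map a.op t) = G.obj.map (a ≫ b).op s
      rw [NatTrans.naturality_apply, ht, op_comp, Functor.map_comp_apply]
  exact isIso_of_reflects_iso φ (sheafCompose (Scheme.ProEt.topology Z) (forget A))

end

end Groth.L28.ProEt.Closed
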