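import Groth.Agent.L27.Colim.Cohomology
import Groth.Agent.L27.ProEt.Sections
import Groth.Prelude.Def_ProEtS
import Mathlib.AlgebraicGeometry.Morphisms.QuasiSeparated
import Mathlib.CategoryTheory.Abelian.GrothendieckCategory.EnoughInjectives
import Mathlib.CategoryTheory.Limits.Preserves.Filtered

/-!
Cohomology of quasi-compact quasi-separated schemes on the pro-étale site commutes with filtered colimits.
-/

universe u

open CategoryTheory CategoryTheory.Limits AlgebraicGeometry Opposite

set_option backward.isDefEq.respectTransparency.types false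
set_option linter.style.haveILetI false

namespace Groth.L28.ProEt.Coh

open Groth.L27.Colim (Tup Tup.res IsCov Good)

variable {X : Scheme.{u}}

/-- Quasi-compact quasi-separated objects. -/
def Qcqs (U : X.ProEt) : Prop := CompactSpace U.left ∧ QuasiSeparatedSpace U.left

theorem exists_pb_qcqs {A B K : X.ProEt} (f : A ⟶ K) (g : B ⟶ K) (hA : Qcqs A) (hB : Qcqs B) (hK : Qcqs K) :
    ∃ (P : X.ProEt) (a : P ⟶ A) (b : P ⟶ B), Qcqs P ∧ a ≫ f = b ≫ g ∧
      ∀ (V : X.ProEt) (u : V ⟶ A) (v : V ⟶ B), u ≫ f = v ≫ g → ∃! l : V ⟶ P, l ≫ a = u ∧ l ≫ b = v := by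
  obtain ⟨_, _⟩ := hA
  obtain ⟨_, _⟩ := hB
  obtain ⟨_, _⟩ := hK
  haveI : WeaklyEtale A.hom := A.prop
  haveI : WeaklyEtale B.hom := B.prop
  haveI : WeaklyEtale K.hom := K.prop
  haveI : WeaklyEtale g.left := MorphismProperty.of_postcomp @WeaklyEtale g.left K.hom K.prop
    (by rw [show g.left ≫ K.hom = B.hom from MorphismProperty.Over.w g]; exact B.prop)
  haveI : WeaklyEtale (pullback.fst f.left g.left) := MorphismProperty.pullback_fst _ _ ‹WeaklyEtale g.left›
  haveI : QuasiCompact g.left := quasiCompact_of_compactSpace g.left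
  haveI : QuasiSeparated g.left := QuasiSeparated.of_comp g.left K.left.toSpecΓ
  have hqc : QuasiCompact (pullback.fst f.left g.left) :=
    MorphismProperty.pullback_fst (P := @QuasiCompact) f.left g.left (quasiCompact_of_compactSpace g.left)
  have hqs : QuasiSeparated (pullback.fst f.left g.left) :=
    MorphismProperty.pullback_fst (P := @QuasiSeparated) f.left g.left (QuasiSeparated.of_comp g.left K.left.toSpecΓ)
  refine ⟨Scheme.ProEt.mk (pullback.fst f.left g.left ≫ A.hom),
    MorphismProperty.Over.homMk (pullback.fst f.left g.left) rfl,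
    MorphismProperty.Over.homMk (pullback.snd f.left g.left) ?_, ⟨?_, ?_⟩,
    MorphismProperty.Over.Hom.ext pullback.condition, fun V u v e => ?_⟩
  · show pullback.snd f.left g.left ≫ B.hom = pullback.fst f.left g.left ≫ A.hom
    rw [← MorphismProperty.Over.w f, ← MorphismProperty.Over.w g, pullback.condition_assoc]
  · exact @QuasiCompact.compactSpace_of_compactSpace _ _ (pullback.fst f.left g.left) hqc _
  · exact @quasiSeparatedSpace_of_quasiSeparated _ _ (pullback.fst f.left g.left) _ hqs
  · have e' : u.left ≫ f.left = v.left ≫ g.left := congrArg (fun m => m.left) e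
    refine ⟨MorphismProperty.Over.homMk (pullback.lift u.left v.left e')
      ((Category.assoc _ _ _).symm.trans ((congrArg (· ≫ A.hom) (pullback.lift_fst _ _ _)).trans
        (MorphismProperty.Over.w u))),
      ⟨MorphismProperty.Over.Hom.ext (pullback.lift_fst _ _ _), MorphismProperty.Over.Hom.ext (pullback.lift_snd _ _ _)⟩,
      fun l hl => MorphismProperty.Over.Hom.ext (pullback.hom_ext ?_ ?_)⟩
    · exact (congrArg (fun m : V ⟶ A => m.left) hl.1).trans (pullback.lift_fst u.left v.left e').symm
    · exact (congrArg (fun m : V ⟶ B => m.left) hl.2).trans (pullback.lift_snd u.left v.left e').symm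

theorem exists_tup {K L : X.ProEt} (p : L ⟶ K) (hK : Qcqs K) (hL : Qcqs L) (n : ℕ) :
    ∃ (W : X.ProEt) (t : Tup p n W), Qcqs W ∧ ∀ (V : X.ProEt) (t' : Tup p n V), ∃! g : V ⟶ W, t.res g = t' := by
  induction n with
  | zero =>
    refine ⟨L, ⟨fun _ => 𝟙 L, fun _ _ => rfl⟩, hL, fun V t' => ⟨t'.1 0, ?_, fun g hg => ?_⟩⟩
    · refine Subtype.ext (funext fun k => ?_)
      rw [show k = 0 from Subsingleton.elim (α := Fin 1) k 0]
      exact Category.comp_id _
    · exact (Category.comp_id g).symm.trans (congrFun (congrArg Subtype.val hg) 0)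
  | succ n ih =>
    obtain ⟨W, t, hW, ht⟩ := ih
    obtain ⟨P, a, b, hP, hab, hlift⟩ := exists_pb_qcqs p (t.1 0 ≫ p) hL hW hK
    refine ⟨P, ⟨Fin.cons a (fun k => b ≫ t.1 k), fun k l => ?_⟩, hP, fun V t' => ?_⟩
    · have key : ∀ k : Fin (n + 1 + 1), (Fin.cons (α := fun _ => P ⟶ L) a (fun k => b ≫ t.1 k) k) ≫ p = a ≫ p :=
        fun k => by
          refine Fin.cases ?_ (fun i => ?_) k
          · rw [Fin.cons_zero]
          · rw [Fin.cons_succ, Category.assoc, t.2 i 0, hab]
      exact (key k).trans (key l).symm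
    · obtain ⟨g, hg, hgu⟩ := ht V ⟨fun k => t'.1 k.succ, fun k l => t'.2 _ _⟩
      have hgk : ∀ k, g ≫ t.1 k = t'.1 k.succ := fun k => congrFun (congrArg Subtype.val hg) k
      obtain ⟨l, ⟨hla, hlb⟩, hlu⟩ := hlift V (t'.1 0) g (by rw [← Category.assoc, hgk, t'.2 0 (Fin.succ 0)])
      refine ⟨l, Subtype.ext (funext fun k => ?_), fun l' hl' => ?_⟩
      · show l ≫ _ = _
        refine Fin.cases ?_ (fun i => ?_) k
        · exact hla
        · exact (Category.assoc l b (t.1 i)).symm.trans ((congrArg (· ≫ t.1 i) hlb).trans (hgk i))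
      · have h : ∀ k, l' ≫ Fin.cons (α := fun _ => P ⟶ L) a (fun k => b ≫ t.1 k) k = t'.1 k :=
          fun k => congrFun (congrArg Subtype.val hl') k
        refine hlu l' ⟨by simpa using h 0, hgu _ (Subtype.ext (funext fun k => ?_))⟩
        have := h k.succ
        rw [Fin.cons_succ, ← Category.assoc] at this
        exact this

theorem exists_affine_cover {K : X.ProEt} (hK : Qcqs K) (R : Sieve K)
    (hR : R ∈ Scheme.ProEt.topology X K) :
    ∃ (L : X.ProEt) (p : L ⟶ K), Qcqs L ∧ IsCov (Scheme.ProEt.topology X) p ∧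
      ∃ (ι : Type u) (_ : Finite ι) (Y : ι → X.ProEt) (q : ∀ i, Y i ⟶ L), (∀ i, Qcqs (Y i)) ∧
        (∀ i, R.arrows (q i ≫ p)) ∧ ∀ F : Sheaf (Scheme.ProEt.topology X) AddCommGrpCat.{u + 1},
          Function.Bijective fun (x : F.obj.obj (op L)) (i : ι) => F.obj.map (q i).op x := by
  obtain ⟨_, _⟩ := hK
  obtain ⟨σ, hσ, V, g, hV, hg, hc⟩ := L27.ProEt.exists_affine_refinement hR
  haveI := hσ
  haveI : ∀ i, IsAffine (V i).left := hV
  haveI : ∀ i, WeaklyEtale (V i).hom := fun i => (V i).prop
  let f : (∐ fun i => (V i).left) ⟶ X := Sigma.desc fun i => (V i).hom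
  haveI : WeaklyEtale f := IsZariskiLocalAtSource.sigmaDesc (P := @WeaklyEtale) fun i => inferInstance
  let L : X.ProEt := Scheme.ProEt.mk f
  let q : ∀ i, V i ⟶ L := fun i =>
    MorphismProperty.Over.homMk (Sigma.ι (fun i => (V i).left) i) (Sigma.ι_desc _ i) trivial
  let p : L ⟶ K := MorphismProperty.Over.homMk (Sigma.desc fun i => (g i).left) (Sigma.hom_ext _ _ fun i =>
    (Sigma.ι_desc_assoc _ i _).trans ((MorphismProperty.Over.w (g i)).trans (Sigma.ι_desc (fun i => (V i).hom) i).symm))
    trivial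
  haveI : IsAffine L.left := inferInstanceAs (IsAffine (∐ fun i => (V i).left))
  haveI : CompactSpace L.left := inferInstance
  haveI : QuasiCompact p.left := quasiCompact_of_compactSpace p.left
  have hqp : ∀ i, q i ≫ p = g i := fun i => MorphismProperty.Over.Hom.ext (Sigma.ι_desc _ i)
  haveI : ∀ i, IsOpenImmersion (q i).left := fun i =>
    inferInstanceAs (IsOpenImmersion (Sigma.ι (fun i => (V i).left) i))
  refine ⟨L, p, ⟨inferInstance, inferInstance⟩, ?_, σ, inferInstance, V, q, fun i => ⟨inferInstance, inferInstance⟩,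
    fun i => ?_, fun F => ?_⟩
  · refine GrothendieckTopology.superset_covering _ ?_
      (L27.ProEt.generate_ofArrows_mem_of_quasiCompact (U := K) (fun _ : PUnit.{u + 1} => L) (fun _ => p) fun x => ?_)
    · rw [Sieve.generate_le_iff, Presieve.ofArrows_le_iff]
      exact fun _ => Sieve.le_generate _ _ _ (Presieve.singleton_self p)
    · obtain ⟨i, y, rfl⟩ := hc x
      refine ⟨PUnit.unit, (q i).left y, ?_⟩
      exact (Scheme.Hom.comp_apply _ _ _).symm.trans (congrArg (fun m : V i ⟶ K => m.left y) (hqp i))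
  · rw [hqp]; exact hg i
  · refine L27.ProEt.bijective_sheaf_of_disjoint
      ((sheafCompose (Scheme.ProEt.topology X) (forget AddCommGrpCat.{u + 1})).obj F) V q
      (fun i j hij => TopologicalSpace.Opens.coe_disjoint.mpr
        (AlgebraicGeometry.disjoint_opensRange_sigmaι (fun i => (V i).left) i j hij)) fun x => ?_
    obtain ⟨i, y, hy⟩ := (sigmaOpenCover fun i => (V i).left).exists_eq x
    exact ⟨i, y, hy⟩

theorem good : Good (Scheme.ProEt.topology X) (Qcqs (X := X)) where
  tup p hK hL _ n := exists_tup p hK hL n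
  refine_cover _ hK R hR := exists_affine_cover hK R hR

/-- the final object -/
noncomputable def topIsTerminal (X : Scheme.{u}) : IsTerminal (ProEtS.topP X) :=
  IsTerminal.ofUniqueHom
    (fun V => MorphismProperty.Over.homMk V.hom (Category.comp_id _) trivial)
    fun V m => MorphismProperty.Over.Hom.ext ((Category.comp_id _).symm.trans (MorphismProperty.Over.w m))

/-- Cohomology of a qcqs scheme commutes with filtered colimits. -/
theorem preservesColimitsOfShape_HPF (X : Scheme.{u}) [CompactSpace X] [QuasiSeparatedSpace X] (n : ℕ)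
    (Λ : Type u) [SmallCategory Λ] [IsFiltered Λ] : PreservesColimitsOfShape Λ (ProEtS.HPF X n) := by
  haveI : AB5OfSize.{u, u} (ProEtS.AbP X) := AB5OfSize_shrink.{u, u, u + 1, u + 1} _
  haveI : HasExactColimitsOfShape Λ (ProEtS.AbP X) := inferInstance
  exact L27.Colim.preservesColimitsOfShape_functorH good (topIsTerminal X) (hT₀ := ⟨‹_›, ‹_›⟩) n

theorem preservesColimitsOfShape_discrete {C : Type*} [Category C] {D : Type*} [Category D] (G : C ⥤ D)
    {α : Type u} [HasFiniteCoproducts C] [HasColimitsOfShape (Finset (Discrete α)) C]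
    [PreservesColimitsOfShape (Finset (Discrete α)) G] [PreservesFiniteCoproducts G] :
    PreservesColimitsOfShape (Discrete α) G := by
  refine ⟨fun {F} => preservesColimit_of_preserves_colimit_cocone
    (CoproductsFromFiniteFiltered.liftToFinsetColimitCocone F).isColimit ?_⟩
  let L := CoproductsFromFiniteFiltered.liftToFinsetObj F
  let hL := isColimitOfPreserves G (colimit.isColimit L)
  have hS := fun S : Finset (Discrete α) =>
    isColimitOfHasCoproductOfPreservesColimit G fun x : S => F.obj x
  refine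
    { desc := fun s => hL.desc
        { pt := s.pt
          ι :=
            { app := fun S => (hS S).desc (Cofan.mk s.pt fun x : S => s.ι.app x.1)
              naturality := fun S T h => (hS S).hom_ext fun x => ?_ } }
      fac := fun s j => ?_
      uniq := fun s m h => hL.hom_ext fun S => (hS S).hom_ext fun x => ?_ }
  · obtain ⟨x⟩ := x
    have key : Sigma.ι (fun x : S => F.obj x.1) x ≫ L.map h =
        Sigma.ι (fun x : T => F.obj x.1) ⟨x.1, h.down.down x.2⟩ := Sigma.ι_desc _ x
    have e1 := (hS T).fac (Cofan.mk s.pt fun x : T => s.ι.app x.1) ⟨⟨x.1, h.down.down x.2⟩⟩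
    have e2 := (hS S).fac (Cofan.mk s.pt fun x : S => s.ι.app x.1) ⟨x⟩
    refine (Category.assoc _ _ _).symm.trans ((congrArg (fun k => k ≫ _) ((G.map_comp _ _).symm.trans (congrArg G.map key))).trans ?_)
    exact e1.trans ((Category.comp_id _).symm.trans ((congrArg (fun k => k ≫ 𝟙 s.pt) e2.symm).trans (Category.assoc _ _ _)))
  · simp only [Functor.mapCocone_ι_app, CoproductsFromFiniteFiltered.liftToFinsetColimitCocone, Discrete.natTrans_app,
      G.map_comp, Category.assoc]
    refine (congrArg (fun k => G.map _ ≫ k) (hL.fac _ {j})).trans ?_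
    exact (hS {j}).fac (Cofan.mk s.pt fun x : ({j} : Finset (Discrete α)) => s.ι.app x.1) ⟨⟨j, by simp⟩⟩
  · obtain ⟨x⟩ := x
    rw [hL.fac]
    refine Eq.trans ?_ ((hS S).fac (Cofan.mk s.pt fun x : S => s.ι.app x.1) ⟨x⟩).symm
    simp only [Functor.mapCocone_ι_app, Cofan.mk_ι_app]
    rw [← h x.1]
    simp only [Functor.mapCocone_ι_app, CoproductsFromFiniteFiltered.liftToFinsetColimitCocone, Discrete.natTrans_app,
      G.map_comp, Category.assoc]
    have key : Sigma.ι (fun x : ({x.1} : Finset (Discrete α)) => F.obj x.1) ⟨x.1, by simp⟩ ≫ colimit.ι L {x.1} =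
        Sigma.ι (fun x : S => F.obj x.1) x ≫ colimit.ι L S := by
      rw [← colimit.w L (homOfLE (x := ({x.1} : Finset (Discrete α))) (y := S) (by simp))]
      exact (Category.assoc _ _ _).symm.trans (congrArg (fun k => k ≫ colimit.ι L S) (Sigma.ι_desc _ _))
    exact (Category.assoc _ _ _).symm.trans (congrArg (fun k => k ≫ m) ((G.map_comp _ _).symm.trans ((congrArg G.map key.symm).trans (G.map_comp _ _)))) |>.trans (Category.assoc _ _ _)

theorem preservesColimitsOfShape_discrete_HPF (X : Scheme.{u}) [CompactSpace X] [QuasiSeparatedSpace X] (n : ℕ)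
    (ι : Type u) : PreservesColimitsOfShape (Discrete ι) (ProEtS.HPF X n) := by
  classical
  haveI := preservesColimitsOfShape_HPF X n (Finset (Discrete ι))
  haveI : (ProEtS.HPF X n).Additive := inferInstanceAs (Sheaf.functorH _ n).Additive
  haveI : PreservesFiniteCoproducts (ProEtS.HPF X n) := inferInstance
  exact preservesColimitsOfShape_discrete _

end Groth.L28.ProEt.Coh
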