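import Groth.Agent.L28.ProEt.GoodLift
import Groth.Agent.L27.TopInv.Alg.Main
import Groth.Agent.L20.UnivHomeo
import Groth.Agent.L27.ProEt.Continuity
import Mathlib.CategoryTheory.Sites.DenseSubsite.SheafEquiv
import Mathlib.CategoryTheory.Limits.Preserves.Shapes.Equalizers

/-!
Universal homeomorphisms give dense subsites of small pro-étale sites.
-/

set_option autoImplicit false
set_option linter.style.haveILetI false
set_option linter.unusedSectionVars false

universe u

open CategoryTheory CategoryTheory.Limits AlgebraicGeometry Opposite TensorProduct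

set_option backward.isDefEq.respectTransparency.types false

namespace Groth.L28.ProEt.Closed

variable {Z X : Scheme.{u}} (i : Z ⟶ X)

theorem lifts_of_isUnivHomeo (hi : FlatMor.IsUnivHomeo i) : Lifts i := fun O hO B β hβ => by
  haveI hst : (FlatMor.IsUnivHomeo.{u}).IsStableUnderBaseChange :=
    inferInstanceAs (MorphismProperty.universally _).IsStableUnderBaseChange
  haveI hri : (FlatMor.IsUnivHomeo.{u}).RespectsIso := inferInstanceAs (MorphismProperty.universally _).RespectsIso
  haveI := L20.isAffineHom_of_isUnivHomeo hi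
  haveI : IsAffine O.toScheme := hO
  haveI : IsAffine (i ⁻¹ᵁ O).toScheme := hO.preimage i
  have h1 : FlatMor.IsUnivHomeo (i ∣_ O) :=
    MorphismProperty.of_isPullback (isPullback_morphismRestrict i O).flip hi
  let f := (i ∣_ O).appTop
  have h2 : FlatMor.IsUnivHomeo (Spec.map f) :=
    (MorphismProperty.arrow_mk_iso_iff FlatMor.IsUnivHomeo.{u} (arrowIsoSpecΓOfIsAffine (i ∣_ O))).1 h1
  letI := f.hom.toAlgebra
  refine exists_lift_pushout_of_good f β hβ (L27.TopInv.Good.of_isUnivHomeo h2) fun M _ _ _ =>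
    L27.TopInv.Good.of_isUnivHomeo ?_
  have sq := isPullback_SpecMap_of_isPushout _ _ _ _ (CommRingCat.isPushout_tensorProduct Γ(O.toScheme, ⊤) M Γ((i ⁻¹ᵁ O).toScheme, ⊤))
  exact MorphismProperty.of_isPullback sq.flip h2

theorem isLocallyFaithful (h : ProEtS.PCont i) :
    (ProEtS.bcP i).IsLocallyFaithful (Scheme.ProEt.topology Z) := by
  refine ⟨fun {W' W} a b e => ?_⟩
  haveI := L27.ProEt.preservesFiniteLimits_bcP i
  haveI : HasLimit (parallelPair a b) := inferInstance
  let hl := isLimitOfHasEqualizerOfPreservesLimit (ProEtS.bcP i) a b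
  obtain ⟨s, hs₁, -⟩ := Fork.IsLimit.existsUnique hl (𝟙 _) (congrArg (fun k => 𝟙 _ ≫ k) e)
  refine (Scheme.ProEt.topology Z).superset_covering ?_ ((Scheme.ProEt.topology Z).top_mem _)
  intro T f _
  exact ⟨_, equalizer.ι a b, f ≫ s, equalizer.condition a b,
    ((Category.assoc _ _ _).trans ((congrArg (fun k => f ≫ k) hs₁).trans (Category.comp_id _))).symm⟩

theorem mem_of_pushforward_mem [IsAffineHom i] [Surjective i] {W : X.ProEt} (S : Sieve W)
    (hS : S.functorPushforward (ProEtS.bcP i) ∈ Scheme.ProEt.topology Z ((ProEtS.bcP i).obj W)) :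
    S ∈ Scheme.ProEt.topology X W := by
  have hO : ∀ x : W.left, ∃ O : W.left.Opens, IsAffineOpen O ∧ x ∈ O := fun x => by
    obtain ⟨O, hO, hx, -⟩ := exists_isAffineOpen_mem_and_subset (U := (⊤ : W.left.Opens))
      (TopologicalSpace.Opens.mem_top x)
    exact ⟨O, hO, hx⟩
  choose O hO hxO using hO
  refine (Scheme.ProEt.topology X).transitive
    (L27.ProEt.ofArrows_mkOpenHom_mem O (Set.eq_univ_of_forall fun x => Set.mem_iUnion.2 ⟨x, hxO x⟩)) _ ?_
  rintro T f ⟨_, a, _, ⟨x⟩, rfl⟩
  rw [Sieve.pullback_comp]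
  refine (Scheme.ProEt.topology X).pullback_stable a ?_
  let A : X.ProEt := L27.ProEt.mkOpen W (O x)
  haveI : IsAffine A.left := hO x
  let pA : ((ProEtS.bcP i).obj A).left ⟶ A.left := pullback.fst A.hom i
  haveI : IsAffineHom pA := MorphismProperty.pullback_fst _ _ ‹IsAffineHom i›
  haveI : Surjective pA := MorphismProperty.pullback_fst _ _ ‹Surjective i›
  haveI : IsAffine ((ProEtS.bcP i).obj A).left := isAffine_of_isAffineHom pA
  obtain ⟨ι, hι, V, g, hV, hg, hc⟩ := L27.ProEt.exists_affine_refinement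
    ((Scheme.ProEt.topology Z).pullback_stable ((ProEtS.bcP i).map (L27.ProEt.mkOpenHom W (O x))) hS)
  choose W' w q hw hq using fun k => (hg k : ∃ (W' : X.ProEt) (w : W' ⟶ W) (q : _ ⟶ (ProEtS.bcP i).obj W'),
    S w ∧ _ = q ≫ (ProEtS.bcP i).map w)
  let qq : ∀ k, (V k).left ⟶ (W' k).left := fun k => (q k).left ≫ pullback.fst (W' k).hom i
  have hqq : ∀ k, qq k ≫ (w k).left = (g k).left ≫ pA ≫ (O x).ι := fun k => by
    have h1 : (g k).left ≫ ((ProEtS.bcP i).map (L27.ProEt.mkOpenHom W (O x))).left ≫ pullback.fst W.hom i =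
        (q k).left ≫ ((ProEtS.bcP i).map (w k)).left ≫ pullback.fst W.hom i :=
      ((Category.assoc _ _ _).symm.trans (congrArg (fun m => m.left ≫ pullback.fst W.hom i) (hq k))).trans
        (Category.assoc _ _ _)
    refine (Category.assoc _ _ _).trans (Eq.trans ?_ (h1.symm.trans (congrArg (fun m => (g k).left ≫ m) (pullback.lift_fst _ _ _))))
    exact congrArg (fun m => (q k).left ≫ m) (pullback.lift_fst _ _ _).symm
  have hmem : ∀ (k : ι) (v : (V k).left), (qq k) v ∈ (w k).left ⁻¹ᵁ O x := fun k v => by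
    show (w k).left (qq k v) ∈ O x
    have := congrArg (fun m : (V k).left ⟶ W.left => m v) (hqq k)
    refine Set.mem_of_eq_of_mem (((Scheme.Hom.comp_apply _ _ _).symm.trans this).trans (Scheme.Hom.comp_apply _ _ _)) ?_
    exact ((pA : ((ProEtS.bcP i).obj A).left ⟶ A.left) ((g k).left v)).2
  have hB : ∀ (k : ι) (v : (V k).left), ∃ B : (W' k).left.Opens, IsAffineOpen B ∧ qq k v ∈ B ∧ B ≤ (w k).left ⁻¹ᵁ O x :=
    fun k v => by
      obtain ⟨B, hB, hv, hle⟩ := exists_isAffineOpen_mem_and_subset (U := (w k).left ⁻¹ᵁ O x) (hmem k v)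
      exact ⟨B, hB, hv, hle⟩
  choose B hBaff hBmem hBle using hB
  have hcover : ∀ k, ∃ t : Finset (V k).left, ∀ v : (V k).left, ∃ y ∈ t, qq k v ∈ B k y := fun k => by
    haveI := hV k
    obtain ⟨t, ht⟩ := (isCompact_range (qq k).continuous).elim_finite_subcover (fun y : (V k).left => (B k y : Set (W' k).left))
      (fun y => (B k y).2) (by rintro _ ⟨v, rfl⟩; exact Set.mem_iUnion.2 ⟨v, hBmem k v⟩)
    exact ⟨t, fun v => by simpa using ht ⟨v, rfl⟩⟩
  choose t ht using hcover
  haveI := hι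
  let Q : (Σ k, {y // y ∈ t k}) → X.ProEt := fun a => L27.ProEt.mkOpen (W' a.1) (B a.1 a.2.1)
  let l : ∀ a : Σ k, {y // y ∈ t k}, (B a.1 a.2.1).toScheme ⟶ A.left := fun a =>
    (w a.1).left.resLE (O x) (B a.1 a.2.1) (hBle a.1 a.2.1)
  have hl : ∀ a, l a ≫ (O x).ι = (B a.1 a.2.1).ι ≫ (w a.1).left := fun a => Scheme.Hom.resLE_comp_ι _ _
  let h : ∀ a, Q a ⟶ A := fun a => MorphismProperty.Over.homMk (l a) (by
    refine (Category.assoc _ _ _).symm.trans ((congrArg (fun m => m ≫ W.hom) (hl a)).trans ?_)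
    exact (Category.assoc _ _ _).trans (congrArg (fun m => (B a.1 a.2.1).ι ≫ m) (MorphismProperty.Over.w (w a.1))))
  haveI : ∀ a, IsAffine (Q a).left := fun a => hBaff a.1 a.2.1
  haveI : ∀ a, QuasiCompact (h a).left := fun a => inferInstance
  refine GrothendieckTopology.superset_covering _ ?_
    (L27.ProEt.generate_ofArrows_mem_of_quasiCompact (U := A) Q h fun z => ?_)
  · rw [Sieve.generate_le_iff, Presieve.ofArrows_le_iff]
    intro a
    show S (h a ≫ L27.ProEt.mkOpenHom W (O x))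
    have : h a ≫ L27.ProEt.mkOpenHom W (O x) = L27.ProEt.mkOpenHom (W' a.1) (B a.1 a.2.1) ≫ w a.1 :=
      MorphismProperty.Over.Hom.ext (hl a)
    rw [this]
    exact S.downward_closed (hw a.1) _
  · obtain ⟨z', hz'⟩ := (inferInstance : Surjective pA).1 z
    obtain ⟨k, v, hv⟩ := hc z'
    obtain ⟨y, hy, hyB⟩ := ht k v
    refine ⟨⟨k, ⟨y, hy⟩⟩, ⟨qq k v, hyB⟩, ?_⟩
    refine (O x).ι.isOpenEmbedding.injective ?_
    refine ((Scheme.Hom.comp_apply _ _ _).symm.trans
      (congrArg (fun m : (B k y).toScheme ⟶ W.left => m ⟨qq k v, hyB⟩) (hl ⟨k, ⟨y, hy⟩⟩))).trans ?_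
    refine (Scheme.Hom.comp_apply _ _ _).trans ?_
    refine ((Scheme.Hom.comp_apply _ _ _).symm.trans (congrArg (fun m : (V k).left ⟶ W.left => m v) (hqq k))).trans ?_
    refine (Scheme.Hom.comp_apply _ _ _).trans ((Scheme.Hom.comp_apply _ _ _).trans ?_)
    exact congrArg (O x).ι ((congrArg pA hv).trans hz')

theorem isDenseSubsite (hi : FlatMor.IsUnivHomeo i) [h : ProEtS.PCont i] :
    (ProEtS.bcP i).IsDenseSubsite (Scheme.ProEt.topology X) (Scheme.ProEt.topology Z) := by
  haveI hst : (FlatMor.IsUnivHomeo.{u}).IsStableUnderBaseChange :=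
    inferInstanceAs (MorphismProperty.universally _).IsStableUnderBaseChange
  haveI := L20.isAffineHom_of_isUnivHomeo hi
  haveI := ((L20.isUnivHomeo_iff i).1 hi).2.2
  exact
    { isCoverDense' := isCoverDense_of_lifts i (lifts_of_isUnivHomeo i hi)
      isLocallyFull' := isLocallyFull_of_lifts i fun c =>
        lifts_of_isUnivHomeo _ (MorphismProperty.pullback_fst _ _ hi)
      isLocallyFaithful' := isLocallyFaithful i h
      functorPushforward_mem_iff := fun {W S} =>
        ⟨mem_of_pushforward_mem i S, fun hS => (L27.ProEt.coverPreserving_bcP i).cover_preserve hS⟩ }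

end Groth.L28.ProEt.Closed
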