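import Groth.Agent.L28.ProEt.Pull
import Groth.Prelude.Def_EtShriek2

/-!
Extension by zero commutes with `ε⁻¹`.
-/

set_option autoImplicit false
set_option linter.style.haveILetI false

universe u

open CategoryTheory CategoryTheory.Limits AlgebraicGeometry Opposite

set_option backward.isDefEq.respectTransparency.types false

namespace Groth.L28.ProEt

variable {U X : Scheme.{u}} (j : U ⟶ X)

/-- the inclusions commute with composition -/
noncomputable def epsComp [Etale j] : ProEtS.eps U ⋙ ProEtS.compP j ≅ EtShriek.compEtale j ⋙ ProEtS.eps X :=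
  NatIso.ofComponents (fun V => Iso.refl _) fun {_ _} f => by
    refine (Category.comp_id _).trans (Eq.trans ?_ (Category.id_comp _).symm)
    exact MorphismProperty.Over.Hom.ext rfl

variable [Etale j] [ProEtS.EpsCont U] [ProEtS.EpsCont X] [ProEtS.JPCont j]

/-- extension by zero commutes with `ε⁻¹` -/
noncomputable def extZeroEps [EtShriek.JCont j] :
    EtShriek.extZero j ⋙ ProEtS.epsPull X ≅ ProEtS.epsPull U ⋙ ProEtS.extZeroP j :=
  haveI : (EtShriek.compEtale j ⋙ ProEtS.eps X).IsContinuous U.smallEtaleTopology (Scheme.ProEt.topology X) :=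
    Functor.isContinuous_comp (EtShriek.compEtale j) (ProEtS.eps X) U.smallEtaleTopology X.smallEtaleTopology (Scheme.ProEt.topology X)
  Adjunction.leftAdjointUniq ((EtShriek.extZeroAdj j).comp (ProEtS.epsAdj X))
    (((ProEtS.epsAdj U).comp (ProEtS.extZeroPAdj j)).ofNatIsoRight
      (Functor.sheafPushforwardContinuousComp' (F := ProEtS.eps U) (G := ProEtS.compP j)
          (FG := EtShriek.compEtale j ⋙ ProEtS.eps X) (epsComp j) AddCommGrpCat.{u + 1} U.smallEtaleTopology
          (Scheme.ProEt.topology U) (Scheme.ProEt.topology X) ≪≫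
        (Functor.sheafPushforwardContinuousComp' (F := EtShriek.compEtale j) (G := ProEtS.eps X)
          (FG := EtShriek.compEtale j ⋙ ProEtS.eps X) (Iso.refl _) AddCommGrpCat.{u + 1} U.smallEtaleTopology
          X.smallEtaleTopology (Scheme.ProEt.topology X)).symm))

end Groth.L28.ProEt
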