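import Groth.Agent.L28.ProEt.ExtZeroLimits
import Groth.Agent.L28.ProEt.ExtZero
import Groth.Agent.L28.AR.MapFunctor

/-!
Extension by zero of adic sheaves.
-/

set_option autoImplicit false
set_option linter.style.haveILetI false

universe u

open CategoryTheory CategoryTheory.Limits AlgebraicGeometry Opposite

set_option backward.isDefEq.respectTransparency.types false

namespace Groth.L28.ProEt

variable (Λ : Type (u + 1)) [CommRing Λ] {U X : Scheme.{u}} (j : U ⟶ X) [WeaklyEtale j] [ProEtS.JPCont j]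

/-- extension by zero of modules on the pro-étale site -/
noncomputable abbrev extZeroPMod : EtModW.ModP Λ U ⥤ EtModW.ModP Λ X :=
  (ProEtS.compP j).sheafPullback (ModuleCat.{u + 1} Λ) (Scheme.ProEt.topology U) (Scheme.ProEt.topology X)

/-- its adjunction -/
noncomputable abbrev extZeroPModAdj : extZeroPMod Λ j ⊣
    (ProEtS.compP j).sheafPushforwardContinuous (ModuleCat.{u + 1} Λ) (Scheme.ProEt.topology U) (Scheme.ProEt.topology X) :=
  (ProEtS.compP j).sheafAdjunctionContinuous (ModuleCat.{u + 1} Λ) (Scheme.ProEt.topology U) (Scheme.ProEt.topology X)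

/-- extension by zero commutes with forgetting the scalars -/
noncomputable def thetaExt :
    forgetSh Λ (Scheme.ProEt.topology U) ⋙ ProEtS.extZeroP j ≅ extZeroPMod Λ j ⋙ forgetSh Λ (Scheme.ProEt.topology X) :=
  Adjunction.leftAdjointUniq ((forgetShAdj Λ (Scheme.ProEt.topology U)).comp (ProEtS.extZeroPAdj j))
    (((extZeroPModAdj Λ j).comp (forgetShAdj Λ (Scheme.ProEt.topology X))).ofNatIsoRight (Iso.refl _))

theorem preservesLimitsOfShape_forgetSh {C : Type (u + 1)} [Category.{u} C] (J : GrothendieckTopology C)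
    [HasSheafify J AddCommGrpCat.{u + 1}] (K : Type u) [SmallCategory K] :
    PreservesLimitsOfShape K (forgetSh Λ J) := by
  haveI : PreservesLimitsOfShape K (forgetSh Λ J ⋙ sheafToPresheaf J AddCommGrpCat.{u + 1}) :=
    inferInstanceAs (PreservesLimitsOfShape K (sheafToPresheaf J (ModuleCat.{u + 1} Λ) ⋙
      (Functor.whiskeringRight Cᵒᵖ _ _).obj (forget₂ (ModuleCat.{u + 1} Λ) AddCommGrpCat.{u + 1})))
  exact preservesLimitsOfShape_of_reflects_of_preserves _ (sheafToPresheaf J AddCommGrpCat.{u + 1})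

theorem preservesLimitsOfShape_extZeroPMod [IsOpenImmersion j] [QuasiCompact j] (K : Type u) [SmallCategory K] :
    PreservesLimitsOfShape K (extZeroPMod Λ j) := by
  haveI := preservesLimitsOfShape_forgetSh Λ (Scheme.ProEt.topology U) K
  haveI := preservesLimitsOfShape_forgetSh Λ (Scheme.ProEt.topology X) K
  haveI := ExtZero.preservesLimitsOfShape j K
  haveI : PreservesLimitsOfShape K (extZeroPMod Λ j ⋙ forgetSh Λ (Scheme.ProEt.topology X)) :=
    preservesLimitsOfShape_of_natIso (thetaExt Λ j)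
  haveI : ReflectsLimitsOfShape K (forgetSh Λ (Scheme.ProEt.topology X)) :=
    reflectsLimitsOfShape_of_reflectsIsomorphisms
  exact preservesLimitsOfShape_of_reflects_of_preserves _ (forgetSh Λ (Scheme.ProEt.topology X))

instance additive_extZeroPMod : (extZeroPMod Λ j).Additive := by
  haveI : ((ProEtS.compP j).sheafPushforwardContinuous (ModuleCat.{u + 1} Λ) (Scheme.ProEt.topology U)
      (Scheme.ProEt.topology X)).Additive := ⟨fun {_ _ _ _} => rfl⟩
  exact (extZeroPModAdj Λ j).left_adjoint_additive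

instance linear_extZeroPMod : (extZeroPMod Λ j).Linear Λ := by
  haveI : ((ProEtS.compP j).sheafPushforwardContinuous (ModuleCat.{u + 1} Λ) (Scheme.ProEt.topology U)
      (Scheme.ProEt.topology X)).Additive := ⟨fun {_ _ _ _} => rfl⟩
  haveI : ((ProEtS.compP j).sheafPushforwardContinuous (ModuleCat.{u + 1} Λ) (Scheme.ProEt.topology U)
      (Scheme.ProEt.topology X)).Linear Λ := ⟨fun _ _ => rfl⟩
  exact AR.linear_of_adjunction (extZeroPModAdj Λ j)

section Etale

variable [hje : Etale j] [ProEtS.EpsCont U] [ProEtS.EpsCont X]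

/-- composition on the small étale sites -/
noncomputable abbrev compE : U.Etale ⥤ X.Etale := MorphismProperty.Over.map (P := EtCoh.etaleMP.{u}) ⊤ (f := j) hje

variable [(MorphismProperty.Over.map (P := EtCoh.etaleMP.{u}) ⊤ (f := j) hje).IsContinuous U.smallEtaleTopology X.smallEtaleTopology]
  [((MorphismProperty.Over.map (P := EtCoh.etaleMP.{u}) ⊤ (f := j) hje).sheafPushforwardContinuous (ModuleCat.{u + 1} Λ) U.smallEtaleTopology X.smallEtaleTopology).IsRightAdjoint]

/-- extension by zero of modules commutes with `ε⁻¹` -/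
noncomputable def extZeroEpsMod :
    (MorphismProperty.Over.map (P := EtCoh.etaleMP.{u}) ⊤ (f := j) hje).sheafPullback (ModuleCat.{u + 1} Λ) U.smallEtaleTopology X.smallEtaleTopology ⋙ EtModW.epsPullMod Λ X ≅
      EtModW.epsPullMod Λ U ⋙ extZeroPMod Λ j :=
  haveI hc : (compE j).IsContinuous U.smallEtaleTopology X.smallEtaleTopology :=
    ‹(MorphismProperty.Over.map (P := EtCoh.etaleMP.{u}) ⊤ (f := j) hje).IsContinuous U.smallEtaleTopology X.smallEtaleTopology›
  haveI hr : ((compE j).sheafPushforwardContinuous (ModuleCat.{u + 1} Λ) U.smallEtaleTopology X.smallEtaleTopology).IsRightAdjoint :=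
    ‹((MorphismProperty.Over.map (P := EtCoh.etaleMP.{u}) ⊤ (f := j) hje).sheafPushforwardContinuous (ModuleCat.{u + 1} Λ) U.smallEtaleTopology X.smallEtaleTopology).IsRightAdjoint›
  haveI : ((compE j) ⋙ ProEtS.eps X).IsContinuous U.smallEtaleTopology (Scheme.ProEt.topology X) :=
    Functor.isContinuous_comp (compE j) (ProEtS.eps X) U.smallEtaleTopology X.smallEtaleTopology (Scheme.ProEt.topology X)
  Adjunction.leftAdjointUniq
    (((compE j).sheafAdjunctionContinuous (ModuleCat.{u + 1} Λ) U.smallEtaleTopology X.smallEtaleTopology).comp (epsAdjMod Λ X))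
    (((epsAdjMod Λ U).comp (extZeroPModAdj Λ j)).ofNatIsoRight
      (Functor.sheafPushforwardContinuousComp' (F := ProEtS.eps U) (G := ProEtS.compP j)
          (FG := (compE j) ⋙ ProEtS.eps X) (epsComp j) (ModuleCat.{u + 1} Λ) U.smallEtaleTopology
          (Scheme.ProEt.topology U) (Scheme.ProEt.topology X) ≪≫
        (Functor.sheafPushforwardContinuousComp' (F := (compE j)) (G := ProEtS.eps X)
          (FG := (compE j) ⋙ ProEtS.eps X) (Iso.refl _) (ModuleCat.{u + 1} Λ) U.smallEtaleTopology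
          X.smallEtaleTopology (Scheme.ProEt.topology X)).symm))

theorem isAdicP_extZero [IsOpenImmersion j] [QuasiCompact j] (I : Ideal Λ)
    (P : EtModW.Mod Λ U → Prop) (P' : EtModW.Mod Λ X → Prop)
    (hext : ∀ E : EtModW.Mod Λ U, P E →
      P' (((MorphismProperty.Over.map (P := EtCoh.etaleMP.{u}) ⊤ (f := j) hje).sheafPullback (ModuleCat.{u + 1} Λ) U.smallEtaleTopology X.smallEtaleTopology).obj E))
    {F : EtModW.ModP Λ U} {Q : ℕᵒᵖ ⥤ EtModW.ModP Λ U} (p : (Functor.const ℕᵒᵖ).obj F ⟶ Q)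
    (hq : ∀ n : ℕ, ARSys.IsQuot (I ^ (n + 1)) (p.app (op n)))
    (hE : ∀ n : ℕ, ∃ E : EtModW.Mod Λ U, P E ∧ Nonempty ((EtModW.epsPullMod Λ U).obj E ≅ Q.obj (op n)))
    (hi : IsIso (limit.lift Q (Cone.mk F p))) :
    ∃ (Q' : ℕᵒᵖ ⥤ EtModW.ModP Λ X) (p' : (Functor.const ℕᵒᵖ).obj ((extZeroPMod Λ j).obj F) ⟶ Q'),
      (∀ n : ℕ, ARSys.IsQuot (I ^ (n + 1)) (p'.app (op n))) ∧
      (∀ n : ℕ, ∃ E : EtModW.Mod Λ X, P' E ∧ Nonempty ((EtModW.epsPullMod Λ X).obj E ≅ Q'.obj (op n))) ∧
      IsIso (limit.lift Q' (Cone.mk ((extZeroPMod Λ j).obj F) p')) := by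
  let R := extZeroPMod Λ j
  let p' : (Functor.const ℕᵒᵖ).obj (R.obj F) ⟶ Q ⋙ R := (R.mapCone (Cone.mk F p)).π
  refine ⟨Q ⋙ R, p', fun n => AR.isQuot_map R (extZeroPModAdj Λ j) (hq n), fun n => ?_, ?_⟩
  · obtain ⟨E, hPE, ⟨e⟩⟩ := hE n
    exact ⟨_, hext E hPE, ⟨(extZeroEpsMod Λ j).app E ≪≫ R.mapIso e⟩⟩
  · let l := IsLimit.ofPointIso (limit.isLimit Q) (t := Cone.mk F p) (i := hi)
    haveI : PreservesLimitsOfShape ℕᵒᵖ R := by
      haveI := preservesLimitsOfShape_extZeroPMod Λ j (ULiftHom.{u} (ULift.{u} ℕᵒᵖ))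
      exact preservesLimitsOfShape_of_equiv (ULiftHomULiftCategory.equiv.{u, u} ℕᵒᵖ).symm _
    let l' := isLimitOfPreserves R l
    exact ⟨(IsLimit.conePointUniqueUpToIso l' (limit.isLimit (Q ⋙ R))).inv,
      by
        refine l'.hom_ext fun n => ?_
        rw [Category.assoc, IsLimit.conePointUniqueUpToIso_inv_comp, Category.id_comp]
        exact limit.lift_π (Cone.mk (R.obj F) p') n,
      by
        refine limit.hom_ext fun n => ?_
        rw [Category.assoc, limit.lift_π, Category.id_comp]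
        exact IsLimit.conePointUniqueUpToIso_inv_comp l' (limit.isLimit (Q ⋙ R)) n⟩

end Etale

end Groth.L28.ProEt
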