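import Groth.Agent.L27.ProEt.Basic
import Groth.Prelude.Def_ProEtS
import Mathlib.CategoryTheory.Functor.KanExtension.Adjunction
import Mathlib.CategoryTheory.Sites.LocallyBijective
import Mathlib.AlgebraicGeometry.Morphisms.UniversallyOpen

/-!
Sections of extensions by zero near the complement.
-/

set_option autoImplicit false
set_option linter.style.haveILetI false

universe u

open CategoryTheory CategoryTheory.Limits AlgebraicGeometry Opposite

set_option backward.isDefEq.respectTransparency.types false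

namespace Groth.L28.ProEt.ExtZero

variable {U X : Scheme.{u}} (j : U ⟶ X) [WeaklyEtale j] [ProEtS.JPCont j]

/-- a section of `j_!` is locally zero or lives on objects over `U` -/
theorem locally (F : ProEtS.AbP U) {T : X.ProEt} (x : ((ProEtS.extZeroP j).obj F).obj.obj (op T)) :
    ∃ R ∈ Scheme.ProEt.topology X T, ∀ (T' : X.ProEt) (g : T' ⟶ T), R g →
      ((ProEtS.extZeroP j).obj F).obj.map g.op x = 0 ∨ ∃ W : U.ProEt, Nonempty (T' ⟶ (ProEtS.compP j).obj W) := by
  let G := ProEtS.compP j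
  let L : X.ProEtᵒᵖ ⥤ AddCommGrpCat.{u + 1} := G.op.lan.obj F.obj
  let e : (ProEtS.extZeroP j).obj F ≅ (presheafToSheaf (Scheme.ProEt.topology X) AddCommGrpCat.{u + 1}).obj L :=
    (Functor.sheafPullbackConstruction.sheafPullbackIso G AddCommGrpCat.{u + 1} (Scheme.ProEt.topology U)
      (Scheme.ProEt.topology X)).app F
  let η := toSheafify (Scheme.ProEt.topology X) L
  refine ⟨Presheaf.imageSieve η (e.hom.hom.app (op T) x), Presheaf.imageSieve_mem _ _ _, fun T' g hg => ?_⟩
  by_cases hW : ∃ W : U.ProEt, Nonempty (T' ⟶ G.obj W)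
  · exact Or.inr hW
  left
  obtain ⟨t, ht⟩ := hg
  have hpt := Functor.isPointwiseLeftKanExtensionOfIsLeftKanExtension L (G.op.lanUnit.app F.obj) (op T')
  haveI : IsEmpty (CostructuredArrow G.op (op T')) := ⟨fun a => hW ⟨a.left.unop, ⟨a.hom.unop⟩⟩⟩
  have hz : (𝟙 (L.obj (op T'))) = 0 := hpt.hom_ext fun a => isEmptyElim a
  have ht0 : t = 0 := ConcreteCategory.congr_hom hz t
  have h1 : e.hom.hom.app (op T') (((ProEtS.extZeroP j).obj F).obj.map g.op x) = 0 := by
    refine (NatTrans.naturality_apply e.hom.hom g.op x).trans (ht.symm.trans ?_)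
    exact (congrArg (η.app (op T')) ht0).trans (map_zero (η.app (op T')).hom)
  have h2 := congrArg (e.inv.hom.app (op T')) h1
  have h3 : e.inv.hom.app (op T') (e.hom.hom.app (op T') (((ProEtS.extZeroP j).obj F).obj.map g.op x)) =
      ((ProEtS.extZeroP j).obj F).obj.map g.op x :=
    ConcreteCategory.congr_hom (congrArg (fun m => m.hom.app (op T')) e.hom_inv_id) _
  exact h3.symm.trans (h2.trans (map_zero _))

/-- vanishing on objects all of whose points specialize over the complement -/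
theorem subsingleton {Z : Set X} (hUZ : Disjoint (Set.range j) Z) (V : X.ProEt) [IsAffine V.left]
    (hV : ∀ v : V.left, ∃ z : V.left, V.hom z ∈ Z ∧ v ⤳ z) (F : ProEtS.AbP U) :
    Subsingleton (((ProEtS.extZeroP j).obj F).obj.obj (op V)) := by
  suffices h : ∀ x : ((ProEtS.extZeroP j).obj F).obj.obj (op V), x = 0 from ⟨fun a b => (h a).trans (h b).symm⟩
  intro x
  obtain ⟨R, hR, hloc⟩ := locally j F x
  obtain ⟨ι, _, W, g, hW, hg, hcov⟩ := L27.ProEt.exists_affine_refinement hR
  let S := {i : ι // ∃ y, (W i).hom y ∈ Z}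
  haveI : ∀ i : S, QuasiCompact (g i.1).left := fun i => by
    haveI := hW i.1
    infer_instance
  have hmem : Sieve.ofArrows (fun i : S => W i.1) (fun i => g i.1) ∈ Scheme.ProEt.topology X V := by
    refine L27.ProEt.generate_ofArrows_mem_of_quasiCompact _ _ fun v => ?_
    obtain ⟨z, hz, hvz⟩ := hV v
    obtain ⟨i, y, rfl⟩ := hcov z
    obtain ⟨y', -, hy'⟩ := (Flat.generalizingMap (g i).left) hvz
    refine ⟨⟨i, y, ?_⟩, y', hy'⟩
    rwa [← MorphismProperty.Over.w (g i), Scheme.Hom.comp_apply]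
  have hH := (isSheaf_iff_isSheaf_of_type _ _).mp
    ((sheafCompose (Scheme.ProEt.topology X) (forget AddCommGrpCat.{u + 1})).obj ((ProEtS.extZeroP j).obj F)).property
  refine (hH _ hmem).isSeparatedFor.ext ?_
  rintro T k ⟨_, m, _, ⟨⟨i, y, hy⟩⟩, rfl⟩
  show ((ProEtS.extZeroP j).obj F).obj.map (m ≫ g i).op x = ((ProEtS.extZeroP j).obj F).obj.map (m ≫ g i).op 0
  rw [map_zero, op_comp, Functor.map_comp]
  refine (congrArg (((ProEtS.extZeroP j).obj F).obj.map m.op) ?_).trans
    (map_zero (((ProEtS.extZeroP j).obj F).obj.map m.op).hom)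
  refine (hloc _ _ (hg i)).resolve_right ?_
  rintro ⟨W', ⟨a⟩⟩
  refine Set.disjoint_left.mp hUZ ⟨W'.hom (a.left y), ?_⟩ hy
  rw [← MorphismProperty.Over.w a]
  rfl

end Groth.L28.ProEt.ExtZero
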