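import Groth.Agent.L28.ProEt.Kernels
import Groth.Agent.L28.ProEt.WeakSerre
import Mathlib.Algebra.Homology.ShortComplex.SnakeLemma
import Mathlib.Algebra.Homology.ShortComplex.Linear
import Mathlib.CategoryTheory.Functor.OfSequence
import Mathlib.RingTheory.Ideal.Operations

/-!
Extensions of adic sheaves on the pro-étale site for a principal ideal.
-/

set_option autoImplicit false
set_option linter.style.haveILetI false

universe u

open CategoryTheory CategoryTheory.Limits AlgebraicGeometry Opposite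

set_option backward.isDefEq.respectTransparency.types false

namespace Groth.L28.ProEt

section Algebra

variable {Λ : Type*} [CommRing Λ] (a : Λ) (M : Type*) [AddCommGroup M] [Module Λ M]

/-- separated for the powers of `a` -/
def Haus : Prop := ∀ x : M, (∀ k : ℕ, ∃ y, a ^ (k + 1) • y = x) → x = 0

/-- complete for the powers of `a` -/
def Pre : Prop :=
  ∀ x : ℕ → M, (∀ k, ∃ y, a ^ (k + 1) • y = x (k + 1) - x k) → ∃ z, ∀ k, ∃ y, a ^ (k + 1) • y = z - x k

variable {a M}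

variable {A B C : Type*} [AddCommGroup A] [Module Λ A] [AddCommGroup B] [Module Λ B] [AddCommGroup C] [Module Λ C]
  (f : A →ₗ[Λ] B) (g : B →ₗ[Λ] C) (hf : Function.Injective f) (hfg : ∀ x, g (f x) = 0)
  (hex : ∀ y, g y = 0 → ∃ x, f x = y) {c : ℕ} (htor : ∀ (k : ℕ) (x : C), a ^ k • x = 0 → a ^ c • x = 0)

include hf hfg hex htor

omit hf in
theorem exists_div {n : ℕ} {x : A} {y : B} (h : a ^ (n + c) • y = f x) : ∃ x', f (a ^ n • x') = f x := by
  obtain ⟨x', hx'⟩ := hex (a ^ c • y) (by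
    rw [map_smul]
    exact htor (n + c) (g y) (by rw [← map_smul, h, hfg]))
  exact ⟨x', by rw [map_smul, hx', smul_smul, ← pow_add, h]⟩

theorem haus_extension (hA : Haus a A) (hC : Haus a C) : Haus a B := by
  intro b hb
  obtain ⟨x, rfl⟩ := hex b (hC _ fun k => by
    obtain ⟨y, hy⟩ := hb k
    exact ⟨g y, by rw [← map_smul, hy]⟩)
  rw [hA x fun k => ?_, map_zero]
  obtain ⟨y, hy⟩ := hb (k + c)
  obtain ⟨x', hx'⟩ := exists_div f g hfg hex htor (n := k + 1) (x := x) (y := y) (by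
    rw [show k + 1 + c = k + c + 1 by omega]; exact hy)
  exact ⟨x', hf hx'⟩

theorem pre_extension (hA : Pre a A) (hC : Pre a C) (hg : Function.Surjective g) : Pre a B := by
  intro b hb
  choose y hy using hb
  obtain ⟨z, hz⟩ := hC (fun k => g (b k)) fun k => ⟨g (y k), by rw [← map_smul, hy, map_sub]⟩
  obtain ⟨z', rfl⟩ := hg z
  choose w hw using hz
  choose l hl using fun k => hg (w k)
  have hd : ∀ k, g (z' - b k - a ^ (k + 1) • l k) = 0 := fun k => by
    rw [map_sub, map_sub, map_smul, hl, hw, sub_self]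
  choose x hx using fun k => hex _ (hd k)
  -- `f (x k) = z' - b k` modulo `a ^ (k + 1)`
  have hstep : ∀ k, ∃ v, a ^ (k + 1) • v = x (k + 1 + c) - x (k + c) := fun k => by
    obtain ⟨v, hv⟩ := exists_div f g hfg hex htor (n := k + 1) (x := x (k + 1 + c) - x (k + c))
      (y := l (k + c) - a • l (k + 1 + c) - y (k + c)) (by
        rw [smul_sub, smul_sub, map_sub, hx, hx, show k + 1 + c = k + c + 1 by omega, hy, smul_smul, ← pow_succ]
        abel)
    exact ⟨v, hf hv⟩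
  obtain ⟨s, hs⟩ := hA (fun k => x (k + c)) hstep
  refine ⟨z' - f s, fun k => ?_⟩
  obtain ⟨t, ht⟩ := hs k
  have hb' : ∀ j, ∃ v, a ^ (k + 1) • v = b (k + j) - b k := fun j => by
    induction j with
    | zero => exact ⟨0, by rw [smul_zero]; exact (sub_self _).symm⟩
    | succ j ih =>
      obtain ⟨v, hv⟩ := ih
      refine ⟨v + a ^ j • y (k + j), ?_⟩
      rw [smul_add, smul_smul, ← pow_add, hv, show k + 1 + j = k + j + 1 by omega, hy, ← add_assoc k j 1]
      abel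
  obtain ⟨v, hv⟩ := hb' c
  refine ⟨a ^ c • l (k + c) - f t + v, ?_⟩
  rw [smul_add, smul_sub, ← map_smul, ht, hv, map_sub, hx, smul_smul, ← pow_add,
    show k + 1 + c = k + c + 1 by omega]
  abel

end Algebra

variable {Λ : Type (u + 1)} [CommRing Λ] {X : Scheme.{u}} {a : Λ}

theorem killedBy_pow_iff {F : EtModW.ModP Λ X} (n : ℕ) :
    ARSys.KilledBy ((Ideal.span {a}) ^ n) F ↔ a ^ n • 𝟙 F = 0 := by
  rw [Ideal.span_singleton_pow]
  exact ⟨fun h => h _ (Ideal.mem_span_singleton_self _), fun h => killedBy_span fun b hb => by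
    rw [Set.mem_singleton_iff.1 hb]; exact h⟩

theorem isQuot_cokernel (F : EtModW.ModP Λ X) (n : ℕ) :
    ARSys.IsQuot ((Ideal.span {a}) ^ n) (cokernel.π (a ^ n • 𝟙 F)) := by
  refine ⟨(killedBy_pow_iff n).2 ?_, fun Y φ hφ => ?_⟩
  · rw [← cancel_epi (cokernel.π (a ^ n • 𝟙 F)), comp_zero, Linear.comp_smul, Category.comp_id]
    have h := cokernel.condition (a ^ n • 𝟙 F)
    rwa [Linear.smul_comp, Category.id_comp] at h
  · have h : (a ^ n • 𝟙 F) ≫ φ = 0 := by
      rw [Linear.smul_comp, Category.id_comp]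
      exact hφ _ (Ideal.pow_mem_pow (Ideal.mem_span_singleton_self a) n)
    exact ⟨cokernel.desc _ φ h, cokernel.π_desc _ _ _, fun ψ hψ => by
      rw [← cancel_epi (cokernel.π (a ^ n • 𝟙 F)), cokernel.π_desc, hψ]⟩

theorem nonempty_iso_of_isQuot {I : Ideal Λ} {F Q Q' : EtModW.ModP Λ X} {p : F ⟶ Q} {p' : F ⟶ Q'}
    (hp : ARSys.IsQuot I p) (hp' : ARSys.IsQuot I p') : Nonempty (Q ≅ Q') := by
  have hk : ∀ {R : EtModW.ModP Λ X} (q : F ⟶ R), ARSys.KilledBy I R → ARSys.HomKilledBy I q := fun q h b hb => by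
    rw [← Category.comp_id q, ← Linear.comp_smul, h b hb, comp_zero]
  obtain ⟨ψ, hψ, -⟩ := hp.2 _ p' (hk p' hp'.1)
  obtain ⟨χ, hχ, -⟩ := hp'.2 _ p (hk p hp.1)
  exact ⟨⟨ψ, χ, (hp.2 _ p (hk p hp.1)).unique (by rw [← Category.assoc, hψ, hχ]) (Category.comp_id p),
    (hp'.2 _ p' (hk p' hp'.1)).unique (by rw [← Category.assoc, hχ, hψ]) (Category.comp_id p')⟩⟩

theorem mem_pow_smul_top {M : Type*} [AddCommGroup M] [Module Λ M] (n : ℕ) (x : M) :
    x ∈ (Ideal.span {a}) ^ n • (⊤ : Submodule Λ M) ↔ ∃ y, a ^ n • y = x := by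
  rw [Ideal.span_singleton_pow, Submodule.ideal_span_singleton_smul, Submodule.mem_smul_pointwise_iff_exists]
  simp

theorem sections_proj {F : EtModW.ModP Λ X} {Q : EtModW.ModP Λ X} {p : F ⟶ Q} {n : ℕ}
    (hp : ARSys.IsQuot ((Ideal.span {a}) ^ n) p) {U : X.ProEt} (hU : ProEtS.IsWC U) :
    Function.Surjective (p.hom.app (op U)) ∧
      ∀ x, p.hom.app (op U) x = 0 ↔ ∃ y, a ^ n • y = x := by
  have h := sections_isQuot (Submodule.FG.pow ⟨{a}, by simp⟩ n) hp hU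
  refine ⟨h.1, fun x => ?_⟩
  rw [← mem_pow_smul_top (M := F.obj.obj (op U)), ← h.2]
  exact LinearMap.mem_ker.symm

variable {Q : ℕᵒᵖ ⥤ EtModW.ModP Λ X} {F : EtModW.ModP Λ X} (p : (Functor.const ℕᵒᵖ).obj F ⟶ Q)
  (hq : ∀ n : ℕ, ARSys.IsQuot ((Ideal.span {a}) ^ (n + 1)) (p.app (op n)))

theorem p_natural (U : X.ProEt) (k : ℕ) (x : F.obj.obj (op U)) :
    tow (Q ⋙ secMod U) (Nat.le_succ k) ((p.app (op (k + 1))).hom.app (op U) x) = (p.app (op k)).hom.app (op U) x :=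
  (ConcreteCategory.congr_hom (congrArg (fun m => m.hom.app (op U))
    (p.naturality (homOfLE (Nat.le_succ k)).op)) x).symm

theorem lift_proj (U : X.ProEt) (k : ℕ) (x : F.obj.obj (op U)) :
    ((secMod U).mapCone (limit.cone Q)).π.app (op k) ((limit.lift Q (Cone.mk F p)).hom.app (op U) x) =
      (p.app (op k)).hom.app (op U) x :=
  ConcreteCategory.congr_hom (congrArg (fun m => m.hom.app (op U)) (limit.lift_π (Cone.mk F p) (op k))) x

include hq

theorem complete_of_isIso [IsIso (limit.lift Q (Cone.mk F p))] {U : X.ProEt} (hU : ProEtS.IsWC U) :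
    Haus a (F.obj.obj (op U)) ∧ Pre a (F.obj.obj (op U)) := by
  haveI : IsIso ((secMod U).map (limit.lift Q (Cone.mk F p))) := inferInstance
  have hbij : Function.Bijective ((limit.lift Q (Cone.mk F p)).hom.app (op U)) :=
    ConcreteCategory.bijective_of_isIso ((secMod U).map (limit.lift Q (Cone.mk F p)))
  have hc := isLimitOfPreserves (secMod U) (limit.isLimit Q)
  refine ⟨fun x hx => hbij.1 ?_, fun x hx => ?_⟩
  · refine (ext_of_isLimit _ hc fun k => ?_).trans (map_zero _).symm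
    refine (lift_proj p U k x).trans (Eq.trans ?_ (map_zero _).symm)
    exact ((sections_proj (hq k) hU).2 x).2 (hx k)
  · have hz : Compat (Q ⋙ secMod U) fun k => (p.app (op k)).hom.app (op U) (x k) := fun k => by
      refine (p_natural p U k (x (k + 1))).trans (sub_eq_zero.1 ?_)
      rw [← map_sub]
      exact ((sections_proj (hq k) hU).2 _).2 (hx k)
    obtain ⟨l, hl⟩ := exists_of_compat _ hc _ hz
    obtain ⟨z, rfl⟩ := hbij.2 l
    refine ⟨z, fun k => ((sections_proj (hq k) hU).2 _).1 ?_⟩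
    rw [map_sub, sub_eq_zero]
    exact (lift_proj p U k z).symm.trans (hl k)

theorem isIso_of_complete (h : ∀ U : X.ProEt, ProEtS.IsWC U → Haus a (F.obj.obj (op U)) ∧ Pre a (F.obj.obj (op U))) :
    IsIso (limit.lift Q (Cone.mk F p)) := by
  let φ := limit.lift Q (Cone.mk F p)
  haveI : Epi φ := epi_of_wc φ fun U hU l => by
    let c := (secMod U).mapCone (limit.cone Q)
    choose x hx using fun k => (sections_proj (hq k) hU).1 (c.π.app (op k) l)
    obtain ⟨z, hz⟩ := (h U hU).2 x fun k => ((sections_proj (hq k) hU).2 _).1 (by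
      rw [map_sub, sub_eq_zero]
      refine (p_natural p U k (x (k + 1))).symm.trans (Eq.trans ?_ (hx k).symm)
      exact (congrArg (tow (Q ⋙ secMod U) (Nat.le_succ k)) (hx (k + 1))).trans (compat_proj _ (c := c) l k))
    refine ⟨z, ext_of_isLimit _ (isLimitOfPreserves (secMod U) (limit.isLimit Q)) fun k => ?_⟩
    refine (lift_proj p U k z).trans (Eq.trans ?_ (hx k))
    rw [← sub_eq_zero, ← map_sub]
    exact ((sections_proj (hq k) hU).2 _).2 (hz k)
  haveI : Mono φ := ⟨fun {Z} s t hst => eq_of_wc fun U hU => ConcreteCategory.hom_ext _ _ fun x => by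
    refine sub_eq_zero.1 ((h U hU).1 _ fun k => ((sections_proj (hq k) hU).2 _).1 ?_)
    rw [map_sub, sub_eq_zero]
    refine (lift_proj p U k _).symm.trans (Eq.trans ?_ (lift_proj p U k _))
    exact congrArg _ (ConcreteCategory.congr_hom (congrArg (fun m => m.hom.app (op U)) hst) x)⟩
  exact isIso_of_mono_of_epi φ

omit hq

theorem torsion_sections {H : EtModW.ModP Λ X} {c k : ℕ}
    (h : kernel.ι (a ^ k • 𝟙 H) ≫ (a ^ c • 𝟙 H) = 0) {U : X.ProEt} (hU : ProEtS.IsWC U)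
    (x : H.obj.obj (op U)) (hx : a ^ k • x = 0) : a ^ c • x = 0 := by
  obtain ⟨y, rfl⟩ := exists_preimage (kernel.ι (a ^ k • 𝟙 H)) (a ^ k • 𝟙 H) (kernel.condition _)
    (ShortComplex.exact_kernel _) hU x hx
  exact ConcreteCategory.congr_hom (congrArg (fun m => m.hom.app (op U)) h) y

theorem prop_middle {C : Type*} [Category C] [Abelian C] [Linear Λ C] (P : ObjectProperty C) [WSerre.IsWeakSerre P]
    (S : ShortComplex C) (hS : S.ShortExact) (b : Λ) (h₁ : P (cokernel (b • 𝟙 S.X₁)))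
    (h₀ : P (kernel (b • 𝟙 S.X₃))) (h₃ : P (cokernel (b • 𝟙 S.X₃))) : P (cokernel (b • 𝟙 S.X₂)) := by
  let φ : S ⟶ S := b • 𝟙 S
  let T : ShortComplex.SnakeInput C :=
    { L₀ := kernel φ
      L₁ := S
      L₂ := S
      L₃ := cokernel φ
      v₀₁ := kernel.ι φ
      v₁₂ := φ
      v₂₃ := cokernel.π φ
      w₀₂ := kernel.condition φ
      w₁₃ := cokernel.condition φ
      h₀ := kernelIsKernel φ
      h₃ := cokernelIsCokernel φ
      L₁_exact := hS.exact
      epi_L₁_g := hS.epi_g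
      L₂_exact := hS.exact
      mono_L₂_f := hS.mono_f }
  haveI : Epi T.L₂.g := hS.epi_g
  have hK : P T.L₀.X₃ := P.prop_of_iso
    ((kernelIsKernel (b • 𝟙 S.X₃)).conePointUniqueUpToIso T.h₀τ₃) h₀
  have hC₁ : P T.L₃.X₁ := P.prop_of_iso
    ((cokernelIsCokernel (b • 𝟙 S.X₁)).coconePointUniqueUpToIso T.h₃τ₁) h₁
  have hC₃ : P T.L₃.X₃ := P.prop_of_iso
    ((cokernelIsCokernel (b • 𝟙 S.X₃)).coconePointUniqueUpToIso T.h₃τ₃) h₃
  refine P.prop_of_iso ((cokernelIsCokernel (b • 𝟙 S.X₂)).coconePointUniqueUpToIso T.h₃τ₂).symm ?_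
  have hD : P (cokernel T.δ) := P.prop_cokernel T.δ hK hC₁
  have hw : T.δ ≫ T.L₃.f = 0 := T.L₂'.zero
  haveI : Mono (cokernel.desc T.δ T.L₃.f hw) := (ShortComplex.exact_iff_mono_cokernel_desc T.L₂').1 T.L₂'_exact
  let U := ShortComplex.mk (cokernel.desc T.δ T.L₃.f hw) T.L₃.g (by
    rw [← cancel_epi (cokernel.π T.δ), cokernel.π_desc_assoc, T.L₃.zero, comp_zero])
  let ψ : T.L₃ ⟶ U :=
    { τ₁ := cokernel.π T.δ
      τ₂ := 𝟙 _
      τ₃ := 𝟙 _
      comm₁₂ := (cokernel.π_desc _ _ _).trans (Category.comp_id _).symm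
      comm₂₃ := (Category.id_comp _).trans (Category.comp_id _).symm }
  haveI : Epi ψ.τ₁ := inferInstanceAs (Epi (cokernel.π T.δ))
  haveI : IsIso ψ.τ₂ := IsIso.id _
  haveI : Mono ψ.τ₃ := inferInstanceAs (Mono (𝟙 _))
  haveI : Mono U.f := inferInstanceAs (Mono (cokernel.desc T.δ T.L₃.f hw))
  haveI : Epi U.g := ShortComplex.SnakeInput.epi_L₃_g T
  have hU : U.ShortExact := { exact := (ShortComplex.exact_iff_of_epi_of_isIso_of_mono ψ).1 T.L₃_exact }
  exact (P.prop_X₂_of_shortExact hU hD hC₃ : P U.X₂)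

variable [ProEtS.EpsCont X] [IsNoetherianRing Λ] [AlgebraicGeometry.IsNoetherian X]

theorem isAdicP_extension (S : ShortComplex (EtModW.ModP Λ X)) (hS : S.ShortExact)
    (h₁ : ∃ (Q : ℕᵒᵖ ⥤ EtModW.ModP Λ X) (p : (Functor.const ℕᵒᵖ).obj S.X₁ ⟶ Q),
        (∀ n : ℕ, ARSys.IsQuot ((Ideal.span {a}) ^ (n + 1)) (p.app (op n))) ∧
        (∀ n : ℕ, ∃ E : EtModW.Mod Λ X, EtModW.IsConstructible Λ E ∧
          Nonempty ((EtModW.epsPullMod Λ X).obj E ≅ Q.obj (op n))) ∧
        IsIso (limit.lift Q (Cone.mk S.X₁ p)))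
    (h₃ : ∃ (Q : ℕᵒᵖ ⥤ EtModW.ModP Λ X) (p : (Functor.const ℕᵒᵖ).obj S.X₃ ⟶ Q),
        (∀ n : ℕ, ARSys.IsQuot ((Ideal.span {a}) ^ (n + 1)) (p.app (op n))) ∧
        (∀ n : ℕ, ∃ E : EtModW.Mod Λ X, EtModW.IsConstructible Λ E ∧
          Nonempty ((EtModW.epsPullMod Λ X).obj E ≅ Q.obj (op n))) ∧
        IsIso (limit.lift Q (Cone.mk S.X₃ p))) :
    ∃ (Q : ℕᵒᵖ ⥤ EtModW.ModP Λ X) (p : (Functor.const ℕᵒᵖ).obj S.X₂ ⟶ Q),
      (∀ n : ℕ, ARSys.IsQuot ((Ideal.span {a}) ^ (n + 1)) (p.app (op n))) ∧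
      (∀ n : ℕ, ∃ E : EtModW.Mod Λ X, EtModW.IsConstructible Λ E ∧
        Nonempty ((EtModW.epsPullMod Λ X).obj E ≅ Q.obj (op n))) ∧
      IsIso (limit.lift Q (Cone.mk S.X₂ p)) := by
  have hiso : ∀ {A B : EtModW.Mod Λ X}, (A ≅ B) → EtModW.IsConstructible Λ A → EtModW.IsConstructible Λ B :=
    fun e h => Noeth.isConstructible_quot h e.hom
  have hI : (Ideal.span {a} : Ideal Λ).FG := IsNoetherian.noetherian _
  haveI := isWeakSerre_isConstructible (Λ := Λ) (X := X)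
  let P : ObjectProperty (EtModW.ModP Λ X) := fun F =>
    ∃ E : EtModW.Mod Λ X, EtModW.IsConstructible Λ E ∧ Nonempty ((EtModW.epsPullMod Λ X).obj E ≅ F)
  haveI : WSerre.IsWeakSerre P := isWeakSerre_mod Λ X _
  obtain ⟨A, hA, hAc, ⟨eH⟩⟩ := (isAdicP_iff hI (EtModW.IsConstructible Λ) hiso S.X₃).1 h₃
  -- kernels of the powers of `a`
  have hkerP : ∀ k : ℕ, ∃ C : ARSys.PS (EtModW.Mod Λ X), ARSys.IsAdic (Ideal.span {a}) C ∧
      (∀ n : ℕ, EtModW.IsConstructible Λ (C.obj (op n))) ∧ Nonempty ((limEps Λ X).obj C ≅ kernel (a ^ k • 𝟙 S.X₃)) :=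
    fun k => (isAdicP_kernel_cokernel hA hA hAc hAc eH eH (a ^ k • 𝟙 S.X₃)).1
  -- bounded torsion
  let T : ℕ →o Subobject S.X₃ :=
    { toFun := fun k => kernelSubobject (a ^ k • 𝟙 S.X₃)
      monotone' := monotone_nat_of_le_succ fun k => le_kernelSubobject _ _ (by
        have h := kernelSubobject_arrow_comp (a ^ k • 𝟙 S.X₃)
        rw [Linear.comp_smul, Category.comp_id] at h
        rw [Linear.comp_smul, Category.comp_id, pow_succ', mul_smul, h, smul_zero]) }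
  obtain ⟨c, hc⟩ := chain_stable_limit hA hAc eH T fun k => by
    obtain ⟨C, hC, hCc, ⟨e⟩⟩ := hkerP k
    exact ⟨C, hC, hCc, ⟨e ≪≫ (kernelSubobjectIso (a ^ k • 𝟙 S.X₃)).symm⟩⟩
  have htor : ∀ k, kernel.ι (a ^ k • 𝟙 S.X₃) ≫ (a ^ c • 𝟙 S.X₃) = 0 := fun k => by
    obtain ⟨g, hg⟩ : ∃ g, g ≫ (T c).arrow = (T k).arrow := by
      have hle : T k ≤ T c := by
        rcases le_total c k with h | h
        · exact (hc k h).le
        · exact T.monotone h
      exact ⟨Subobject.ofLE _ _ hle, Subobject.ofLE_arrow hle⟩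
    rw [← kernelSubobject_arrow' (a ^ k • 𝟙 S.X₃), Category.assoc, show (kernelSubobject (a ^ k • 𝟙 S.X₃)).arrow =
      g ≫ (T c).arrow from hg.symm, Category.assoc]
    exact (congrArg (fun m => (kernelSubobjectIso _).inv ≫ g ≫ m) (kernelSubobject_arrow_comp _)).trans
      (by rw [comp_zero, comp_zero])
  -- the tower
  obtain ⟨Q₁, p₁, hq₁, hE₁, hi₁⟩ := h₁
  obtain ⟨Q₃, p₃, hq₃, hE₃, hi₃⟩ := h₃
  have hmid : ∀ n : ℕ, P (cokernel (a ^ (n + 1) • 𝟙 S.X₂)) := fun n => by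
    refine prop_middle P S hS _ ?_ ?_ ?_
    · obtain ⟨e⟩ := nonempty_iso_of_isQuot (hq₁ n) (isQuot_cokernel S.X₁ (n + 1))
      exact P.prop_of_iso e (hE₁ n)
    · obtain ⟨Q', p', hq', hE', -⟩ := (isAdicP_iff hI (EtModW.IsConstructible Λ) hiso _).2 (hkerP (n + 1))
      have hid : ARSys.IsQuot ((Ideal.span {a}) ^ (n + 1)) (𝟙 (kernel (a ^ (n + 1) • 𝟙 S.X₃))) := by
        refine ⟨(killedBy_pow_iff (n + 1)).2 ?_, fun Y φ _ =>
          ⟨φ, Category.id_comp _, fun ψ h => (Category.id_comp ψ).symm.trans h⟩⟩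
        rw [← cancel_mono (kernel.ι (a ^ (n + 1) • 𝟙 S.X₃)), zero_comp, Linear.smul_comp, Category.id_comp]
        have h := kernel.condition (a ^ (n + 1) • 𝟙 S.X₃)
        rwa [Linear.comp_smul, Category.comp_id] at h
      obtain ⟨e⟩ := nonempty_iso_of_isQuot (hq' n) hid
      exact P.prop_of_iso e (hE' n)
    · obtain ⟨e⟩ := nonempty_iso_of_isQuot (hq₃ n) (isQuot_cokernel S.X₃ (n + 1))
      exact P.prop_of_iso e (hE₃ n)
  let tr : ∀ n : ℕ, cokernel (a ^ (n + 1 + 1) • 𝟙 S.X₂) ⟶ cokernel (a ^ (n + 1) • 𝟙 S.X₂) := fun n =>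
    cokernel.desc _ (cokernel.π _) (by
      have h := cokernel.condition (a ^ (n + 1) • 𝟙 S.X₂)
      rw [Linear.smul_comp, Category.id_comp] at h
      rw [Linear.smul_comp, Category.id_comp, show a ^ (n + 1 + 1) = a * a ^ (n + 1) from pow_succ' a (n + 1),
        mul_smul, h, smul_zero])
  let Q : ℕᵒᵖ ⥤ EtModW.ModP Λ X := Functor.ofOpSequence (X := fun n => cokernel (a ^ (n + 1) • 𝟙 S.X₂)) tr
  let p : (Functor.const ℕᵒᵖ).obj S.X₂ ⟶ Q :=
    NatTrans.ofOpSequence (fun n => cokernel.π (a ^ (n + 1) • 𝟙 S.X₂)) fun n => by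
      rw [Functor.ofOpSequence_map_homOfLE_succ]
      exact (Category.id_comp _).trans (cokernel.π_desc _ _ _).symm
  refine ⟨Q, p, fun n => isQuot_cokernel S.X₂ (n + 1), hmid, isIso_of_complete p (fun n => isQuot_cokernel S.X₂ (n + 1)) ?_⟩
  intro U hU
  haveI := hi₁
  haveI := hi₃
  obtain ⟨hA₁, hP₁⟩ := complete_of_isIso p₁ hq₁ hU
  obtain ⟨hA₃, hP₃⟩ := complete_of_isIso p₃ hq₃ hU
  haveI := hS.mono_f
  haveI := hS.epi_g
  haveI : PreservesLimitsOfShape WalkingCospan (secMod (Λ := Λ) U) := inferInstance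
  haveI : Mono ((secMod U).map S.f) := (secMod U).map_mono S.f
  have hf : Function.Injective (S.f.hom.app (op U)).hom := (ModuleCat.mono_iff_injective ((secMod U).map S.f)).1 inferInstance
  have hfg : ∀ x, (S.g.hom.app (op U)).hom ((S.f.hom.app (op U)).hom x) = 0 := fun x =>
    ConcreteCategory.congr_hom (congrArg (fun m => m.hom.app (op U)) S.zero) x
  have hex := exists_preimage S.f S.g S.zero hS.exact hU
  have ht : ∀ (k : ℕ) (x : S.X₃.obj.obj (op U)), a ^ k • x = 0 → a ^ c • x = 0 := fun k x =>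
    torsion_sections (htor k) hU x
  exact ⟨haus_extension (S.f.hom.app (op U)).hom (S.g.hom.app (op U)).hom hf hfg hex ht hA₁ hA₃,
    pre_extension (S.f.hom.app (op U)).hom (S.g.hom.app (op U)).hom hf hfg hex ht hP₁ hP₃ (surjective_mod S.g hU)⟩

end Groth.L28.ProEt
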