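import Groth.Agent.L28.ProEt.Pull

/-!
Forgetting the scalars is compatible with the adjunctions of continuous functors.
-/

set_option autoImplicit false
set_option linter.style.haveILetI false

universe u

open CategoryTheory CategoryTheory.Limits Opposite

set_option backward.isDefEq.respectTransparency.types false

namespace Groth.L28.ProEt.ForgetCompat

variable (Λ : Type (u + 1)) [CommRing Λ] {C D : Type (u + 1)} [Category.{u} C] [Category.{u} D]
  {J : GrothendieckTopology C} {K : GrothendieckTopology D} (G : C ⥤ D) [G.IsContinuous J K]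
  [(G.sheafPushforwardContinuous AddCommGrpCat.{u + 1} J K).IsRightAdjoint]
  [(G.sheafPushforwardContinuous (ModuleCat.{u + 1} Λ) J K).IsRightAdjoint]

/-- inverse image commutes with forgetting the scalars -/
noncomputable def iso :
    forgetSh Λ J ⋙ G.sheafPullback AddCommGrpCat.{u + 1} J K ≅
      G.sheafPullback (ModuleCat.{u + 1} Λ) J K ⋙ forgetSh Λ K :=
  Adjunction.leftAdjointUniq ((forgetShAdj Λ J).comp (G.sheafAdjunctionContinuous AddCommGrpCat.{u + 1} J K))
    (((G.sheafAdjunctionContinuous (ModuleCat.{u + 1} Λ) J K).comp (forgetShAdj Λ K)).ofNatIsoRight (Iso.refl _))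

theorem map_unit (F : Sheaf J (ModuleCat.{u + 1} Λ)) :
    (forgetSh Λ J).map ((G.sheafAdjunctionContinuous (ModuleCat.{u + 1} Λ) J K).unit.app F) =
      (G.sheafAdjunctionContinuous AddCommGrpCat.{u + 1} J K).unit.app ((forgetSh Λ J).obj F) ≫
        (G.sheafPushforwardContinuous AddCommGrpCat.{u + 1} J K).map ((iso Λ G).hom.app F) := by
  let a := forgetShAdj Λ J
  let adj := G.sheafAdjunctionContinuous (ModuleCat.{u + 1} Λ) J K
  let adj' := G.sheafAdjunctionContinuous AddCommGrpCat.{u + 1} J K
  refine (a.homEquiv _ _).injective ?_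
  have h := Adjunction.unit_leftAdjointUniq_hom_app (a.comp adj')
    ((adj.comp (forgetShAdj Λ K)).ofNatIsoRight (Iso.refl _)) F
  refine Eq.trans ?_ (Eq.trans h.symm ?_)
  · refine (Adjunction.homEquiv_unit _ _ _ _).trans ((a.unit_naturality _).trans ?_)
    refine Eq.trans (congrArg (fun k => adj.unit.app F ≫ k) ?_)
      (Category.comp_id ((adj.comp (forgetShAdj Λ K)).unit.app F)).symm
    refine Sheaf.hom_ext (NatTrans.ext (funext fun U => ?_))
    exact (forgetShAdj_unit_app Λ J _ U).trans (forgetShAdj_unit_app Λ K _ (G.op.obj U)).symm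
  · refine Eq.trans ?_ (Adjunction.homEquiv_unit _ _ _ _).symm
    show ((a.comp adj').unit.app F) ≫ _ = _
    rw [Adjunction.comp_unit_app]
    exact (Category.assoc _ _ _).trans (congrArg (fun k => a.unit.app _ ≫ k) (Functor.map_comp _ _ _).symm)

theorem map_counit (F : Sheaf K (ModuleCat.{u + 1} Λ)) :
    (iso Λ G).hom.app ((G.sheafPushforwardContinuous (ModuleCat.{u + 1} Λ) J K).obj F) ≫
      (forgetSh Λ K).map ((G.sheafAdjunctionContinuous (ModuleCat.{u + 1} Λ) J K).counit.app F) =
      (G.sheafAdjunctionContinuous AddCommGrpCat.{u + 1} J K).counit.app ((forgetSh Λ K).obj F) := by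
  let adj := G.sheafAdjunctionContinuous (ModuleCat.{u + 1} Λ) J K
  let adj' := G.sheafAdjunctionContinuous AddCommGrpCat.{u + 1} J K
  let R := G.sheafPushforwardContinuous (ModuleCat.{u + 1} Λ) J K
  let R' := G.sheafPushforwardContinuous AddCommGrpCat.{u + 1} J K
  have hnat : R'.map ((forgetSh Λ K).map (adj.counit.app F)) = (forgetSh Λ J).map (R.map (adj.counit.app F)) :=
    Sheaf.hom_ext (NatTrans.ext (funext fun U => rfl))
  have key : adj'.unit.app ((forgetSh Λ J).obj (R.obj F)) ≫
      R'.map ((iso Λ G).hom.app (R.obj F) ≫ (forgetSh Λ K).map (adj.counit.app F)) =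
      (forgetSh Λ J).map (adj.unit.app (R.obj F) ≫ R.map (adj.counit.app F)) := by
    rw [Functor.map_comp, Functor.map_comp, map_unit, ← hnat]
    exact (Category.assoc _ _ _).symm
  refine (adj'.homEquiv ((forgetSh Λ J).obj (R.obj F)) ((forgetSh Λ K).obj F)).injective ?_
  refine (Adjunction.homEquiv_unit _ _ _ _).trans (Eq.trans ?_ (Adjunction.homEquiv_unit _ _ _ _).symm)
  refine key.trans ?_
  refine Eq.trans ?_ (adj'.right_triangle_components ((forgetSh Λ K).obj F)).symm
  exact (congrArg (forgetSh Λ J).map (adj.right_triangle_components F)).trans ((forgetSh Λ J).map_id _)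

end Groth.L28.ProEt.ForgetCompat
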