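import Groth.Agent.L28.ProEt.Pull
import Groth.Agent.L28.ProEt.OpenImm
import Groth.Agent.L28.ProEt.ExtZero
import Groth.Agent.L28.ProEt.Lisse

/-!
Inverse images on pro-étale sites: composition, `ε⁻¹`, forgetting the scalars.
-/

set_option autoImplicit false
set_option linter.style.haveILetI false

universe u

open CategoryTheory CategoryTheory.Limits AlgebraicGeometry Opposite

set_option backward.isDefEq.respectTransparency.types false

namespace Groth.L28.ProEt

variable {X Y Z : Scheme.{u}}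

/-- composition of inverse images -/
noncomputable def pullCompP (g : Z ⟶ Y) (f : Y ⟶ X) [ProEtS.PCont g] [ProEtS.PCont f] [ProEtS.PCont (g ≫ f)] :
    ProEtS.pullP (g ≫ f) ≅ ProEtS.pullP f ⋙ ProEtS.pullP g :=
  Adjunction.leftAdjointUniq (ProEtS.pullPushAdjP (g ≫ f))
    (((ProEtS.pullPushAdjP f).comp (ProEtS.pullPushAdjP g)).ofNatIsoRight
      (Functor.sheafPushforwardContinuousComp' (F := ProEtS.bcP f) (G := ProEtS.bcP g) (FG := ProEtS.bcP (g ≫ f))
        ((MorphismProperty.Over.pullbackComp (P := @WeaklyEtale) (Q := ⊤) g f).symm)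
        AddCommGrpCat.{u + 1} (Scheme.ProEt.topology X) (Scheme.ProEt.topology Y) (Scheme.ProEt.topology Z)))

/-- inverse images commute with `ε⁻¹` -/
noncomputable def pullEpsAb (g : Y ⟶ X) [ProEtS.EpsCont X] [ProEtS.EpsCont Y] [ProEtS.PCont g] :
    ProEtS.epsPull X ⋙ ProEtS.pullP g ≅ EtCoh.pull g ⋙ ProEtS.epsPull Y :=
  haveI : (EtCoh.bc g ⋙ ProEtS.eps Y).IsContinuous X.smallEtaleTopology (Scheme.ProEt.topology Y) :=
    Functor.isContinuous_comp (EtCoh.bc g) (ProEtS.eps Y) X.smallEtaleTopology Y.smallEtaleTopology (Scheme.ProEt.topology Y)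
  Adjunction.leftAdjointUniq
    ((ProEtS.epsAdj X).comp (ProEtS.pullPushAdjP g))
    (((EtCoh.pullPushAdj g).comp (ProEtS.epsAdj Y)).ofNatIsoRight
      (Functor.sheafPushforwardContinuousComp' (F := EtCoh.bc g) (G := ProEtS.eps Y) (FG := EtCoh.bc g ⋙ ProEtS.eps Y)
          (Iso.refl _) AddCommGrpCat.{u + 1} X.smallEtaleTopology Y.smallEtaleTopology (Scheme.ProEt.topology Y) ≪≫
        (Functor.sheafPushforwardContinuousComp' (F := ProEtS.eps X) (G := ProEtS.bcP g) (FG := EtCoh.bc g ⋙ ProEtS.eps Y)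
          (epsBc g) AddCommGrpCat.{u + 1} X.smallEtaleTopology (Scheme.ProEt.topology X) (Scheme.ProEt.topology Y)).symm))

theorem essImage_pullP (g : Y ⟶ X) [ProEtS.EpsCont X] [ProEtS.EpsCont Y] [ProEtS.PCont g] {G : ProEtS.AbP X}
    (h : (ProEtS.epsPull X).essImage G) : (ProEtS.epsPull Y).essImage ((ProEtS.pullP g).obj G) := by
  obtain ⟨E, ⟨e⟩⟩ := h
  exact ⟨(EtCoh.pull g).obj E, ⟨((pullEpsAb g).app E).symm ≪≫ (ProEtS.pullP g).mapIso e⟩⟩

variable (Λ : Type (u + 1)) [CommRing Λ]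

/-- inverse image of sheaves of modules -/
noncomputable abbrev pullPMod (g : Y ⟶ X) [ProEtS.PCont g] : EtModW.ModP Λ X ⥤ EtModW.ModP Λ Y :=
  (ProEtS.bcP g).sheafPullback (ModuleCat.{u + 1} Λ) (Scheme.ProEt.topology X) (Scheme.ProEt.topology Y)

/-- inverse image commutes with forgetting the scalars -/
noncomputable def forgetPull (g : Y ⟶ X) [ProEtS.PCont g] :
    forgetSh Λ (Scheme.ProEt.topology X) ⋙ ProEtS.pullP g ≅ pullPMod Λ g ⋙ forgetSh Λ (Scheme.ProEt.topology Y) :=
  Adjunction.leftAdjointUniq ((forgetShAdj Λ (Scheme.ProEt.topology X)).comp (ProEtS.pullPushAdjP g))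
    ((((ProEtS.bcP g).sheafAdjunctionContinuous (ModuleCat.{u + 1} Λ) (Scheme.ProEt.topology X) (Scheme.ProEt.topology Y)).comp
      (forgetShAdj Λ (Scheme.ProEt.topology Y))).ofNatIsoRight (Iso.refl _))

/-- restriction to an open subscheme is inverse image -/
noncomputable def restrIsoPull (j : Y ⟶ X) [WeaklyEtale j] [ProEtS.JPCont j] [ProEtS.PCont j] :
    ProEtS.restrP j ≅ ProEtS.pullP j :=
  Adjunction.leftAdjointUniq (OpenImm.restrPushAdj j) (ProEtS.pullPushAdjP j)

/-- restriction commutes with `ε_*` -/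
noncomputable def restrEpsPush (j : Y ⟶ X) [Etale j] [ProEtS.JPCont j] [EtShriek.JCont j]
    [ProEtS.EpsCont X] [ProEtS.EpsCont Y] :
    ProEtS.restrP j ⋙ ProEtS.epsPush Y ≅ ProEtS.epsPush X ⋙ EtShriek.restrAlong j :=
  haveI : (EtShriek.compEtale j ⋙ ProEtS.eps X).IsContinuous Y.smallEtaleTopology (Scheme.ProEt.topology X) :=
    Functor.isContinuous_comp (EtShriek.compEtale j) (ProEtS.eps X) Y.smallEtaleTopology X.smallEtaleTopology (Scheme.ProEt.topology X)
  Functor.sheafPushforwardContinuousComp' (F := ProEtS.eps Y) (G := ProEtS.compP j)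
      (FG := EtShriek.compEtale j ⋙ ProEtS.eps X) (epsComp j) AddCommGrpCat.{u + 1} Y.smallEtaleTopology
      (Scheme.ProEt.topology Y) (Scheme.ProEt.topology X) ≪≫
    (Functor.sheafPushforwardContinuousComp' (F := EtShriek.compEtale j) (G := ProEtS.eps X)
      (FG := EtShriek.compEtale j ⋙ ProEtS.eps X) (Iso.refl _) AddCommGrpCat.{u + 1} Y.smallEtaleTopology
      X.smallEtaleTopology (Scheme.ProEt.topology X)).symm

end Groth.L28.ProEt
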