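import Groth.Agent.L28.ProEt.ForgetCompat
import Groth.Agent.L28.ProEt.ClosedSES
import Groth.Agent.L28.ProEt.AdicPush
import Groth.Agent.L28.ProEt.ExtZeroAdic
import Groth.Agent.L28.ProEt.PullCompat
import Groth.Agent.L28.ProEt.Extension
import Mathlib.CategoryTheory.Abelian.ShortExact

/-!
The short exact sequence of a closed subscheme for sheaves of modules; gluing of adic sheaves.
-/

set_option autoImplicit false
set_option linter.style.haveILetI false

universe u v w

open CategoryTheory CategoryTheory.Limits AlgebraicGeometry Opposite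

set_option backward.isDefEq.respectTransparency.types false

namespace Groth.L28.ProEt

variable (Λ : Type (u + 1)) [CommRing Λ] {U Z X : Scheme.{u}}

/-- restriction of modules -/
noncomputable abbrev restrPMod (j : U ⟶ X) [WeaklyEtale j] [ProEtS.JPCont j] : EtModW.ModP Λ X ⥤ EtModW.ModP Λ U :=
  (ProEtS.compP j).sheafPushforwardContinuous (ModuleCat.{u + 1} Λ) (Scheme.ProEt.topology U) (Scheme.ProEt.topology X)

/-- restriction of modules is inverse image -/
noncomputable def restrModIsoPull (j : U ⟶ X) [WeaklyEtale j] [ProEtS.JPCont j] [ProEtS.PCont j] :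
    restrPMod Λ j ≅ pullPMod Λ j :=
  Adjunction.leftAdjointUniq ((OpenImm.adj j).sheafPushforwardContinuous (Scheme.ProEt.topology U) (Scheme.ProEt.topology X))
    ((ProEtS.bcP j).sheafAdjunctionContinuous (ModuleCat.{u + 1} Λ) (Scheme.ProEt.topology X) (Scheme.ProEt.topology U))

theorem shortExactMod (i : Z ⟶ X) [IsClosedImmersion i] (j : U ⟶ X) [IsOpenImmersion j] [QuasiCompact j]
    [ProEtS.JPCont j] [ProEtS.PCont i] [ProEtS.PCont j]
    (hc : Set.range j.base = (Set.range i.base)ᶜ) (F : EtModW.ModP Λ X) :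
    ∃ h : (extZeroPModAdj Λ j).counit.app F ≫
        ((ProEtS.bcP i).sheafAdjunctionContinuous (ModuleCat.{u + 1} Λ) (Scheme.ProEt.topology X)
          (Scheme.ProEt.topology Z)).unit.app F = 0,
      (ShortComplex.mk _ _ h).ShortExact := by
  obtain ⟨w, hS⟩ := Closed.shortExact i j hc ((forgetSh Λ (Scheme.ProEt.topology X)).obj F)
  let Fg := forgetSh Λ (Scheme.ProEt.topology X)
  let c := (extZeroPModAdj Λ j).counit.app F
  let η := ((ProEtS.bcP i).sheafAdjunctionContinuous (ModuleCat.{u + 1} Λ) (Scheme.ProEt.topology X)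
          (Scheme.ProEt.topology Z)).unit.app F
  let e₁ := (ForgetCompat.iso Λ (ProEtS.compP j) (J := Scheme.ProEt.topology U) (K := Scheme.ProEt.topology X)).app
    ((restrPMod Λ j).obj F)
  let e₃ := (ProEtS.pushP i).mapIso
    ((ForgetCompat.iso Λ (ProEtS.bcP i) (J := Scheme.ProEt.topology X) (K := Scheme.ProEt.topology Z)).app F)
  have hc' : e₁.hom ≫ Fg.map c = (ProEtS.extZeroPAdj j).counit.app (Fg.obj F) :=
    ForgetCompat.map_counit Λ (ProEtS.compP j) (J := Scheme.ProEt.topology U) (K := Scheme.ProEt.topology X) F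
  have hη : Fg.map η = (ProEtS.pullPushAdjP i).unit.app (Fg.obj F) ≫ e₃.hom :=
    ForgetCompat.map_unit Λ (ProEtS.bcP i) (J := Scheme.ProEt.topology X) (K := Scheme.ProEt.topology Z) F
  haveI := preservesFiniteLimits_forgetSh Λ (Scheme.ProEt.topology X)
  haveI : Fg.Additive := Functor.additive_of_preserves_binary_products Fg
  have h : c ≫ η = 0 := by
    refine Fg.map_injective ((cancel_epi e₁.hom).1 ?_)
    rw [Functor.map_comp, Functor.map_zero, comp_zero]
    refine (Category.assoc _ _ _).symm.trans ((congrArg (fun k => k ≫ Fg.map η) hc').trans ?_)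
    refine (congrArg (fun k => _ ≫ k) hη).trans ((Category.assoc _ _ _).symm.trans ?_)
    exact (congrArg (fun k => k ≫ e₃.hom) w).trans zero_comp
  refine ⟨h, ?_⟩
  haveI : PreservesColimitsOfSize.{0, 0} Fg :=
    (forgetShAdj Λ (Scheme.ProEt.topology X)).leftAdjoint_preservesColimits
  haveI : PreservesFiniteColimits Fg := PreservesColimitsOfSize.preservesFiniteColimits _
  refine (ShortExact.shortExact_map_iff Fg).1 ?_
  refine ShortComplex.shortExact_of_iso ?_ hS
  refine ShortComplex.isoMk e₁ (Iso.refl _) e₃ ?_ ?_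
  · exact hc'.trans (Category.comp_id _).symm
  · exact (Category.id_comp _).trans hη

/-- quotient maps may be precomposed with isomorphisms -/
theorem isQuot_iso_comp {A : Type w} [CommRing A] {C : Type v} [Category C] [Preadditive C] [Linear A C] {I : Ideal A}
    {Y X Q : C} (e : Y ≅ X) {p : X ⟶ Q} (hp : ARSys.IsQuot I p) : ARSys.IsQuot I (e.hom ≫ p) := by
  refine ⟨hp.1, fun W φ hφ => ?_⟩
  obtain ⟨ψ, hψ, hu⟩ := hp.2 W (e.inv ≫ φ) fun a ha =>
    (Linear.comp_smul _ _ _ _ _ _).symm.trans (by rw [hφ a ha, comp_zero])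
  refine ⟨ψ, ?_, fun ψ' hψ' => hu ψ' ?_⟩
  · show (e.hom ≫ p) ≫ ψ = φ
    rw [Category.assoc, hψ, Iso.hom_inv_id_assoc]
  · show p ≫ ψ' = e.inv ≫ φ
    rw [← hψ', Category.assoc, Iso.inv_hom_id_assoc]

theorem isAdicP_of_iso {I : Ideal Λ} {F F' : EtModW.ModP Λ U} (e : F' ≅ F) [ProEtS.EpsCont U]
    {Q : ℕᵒᵖ ⥤ EtModW.ModP Λ U} (p : (Functor.const ℕᵒᵖ).obj F ⟶ Q)
    (hq : ∀ n : ℕ, ARSys.IsQuot (I ^ (n + 1)) (p.app (op n))) (hi : IsIso (limit.lift Q (Cone.mk F p))) :
    ∃ p' : (Functor.const ℕᵒᵖ).obj F' ⟶ Q,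
      (∀ n : ℕ, ARSys.IsQuot (I ^ (n + 1)) (p'.app (op n))) ∧ IsIso (limit.lift Q (Cone.mk F' p')) := by
  refine ⟨(Functor.const ℕᵒᵖ).map e.hom ≫ p, fun n => isQuot_iso_comp e (hq n), ?_⟩
  have : limit.lift Q (Cone.mk F' ((Functor.const ℕᵒᵖ).map e.hom ≫ p)) = e.hom ≫ limit.lift Q (Cone.mk F p) :=
    limit.hom_ext fun k => by simp
  rw [this]
  exact @IsIso.comp_isIso _ _ _ _ _ _ _ inferInstance hi

end Groth.L28.ProEt
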