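import Groth.Agent.L28.ProEt.IndLift
import Groth.Agent.L28.ProEt.ClosedDense
import Groth.Agent.L27.TopInv.Alg.Good

/-!
Ind-étale algebras lift along ring maps along which étale algebras lift universally.
-/

set_option autoImplicit false
set_option linter.style.haveILetI false
set_option linter.unusedSectionVars false
set_option backward.isDefEq.respectTransparency false

universe u

open CategoryTheory CategoryTheory.Limits TensorProduct

namespace Groth.L28.ProEt.GoodLift

open IndLift L27.IndEtale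

variable (A S B : Type u) [CommRing A] [CommRing S] [CommRing B] [Algebra A S] [Algebra S B] [Algebra A B]
  [IsScalarTower A S B]

/-- evaluation at a stage -/
noncomputable abbrev ev {M : Type u} [CommRing M] [Algebra A M] (ψ : M →ₐ[A] B) : S ⊗[A] M →ₐ[S] B :=
  Algebra.TensorProduct.lift (Algebra.ofId S B) ψ fun _ _ => Commute.all _ _

theorem exists_kill (hgood : ∀ (M : Type u) [CommRing M] [Algebra A M], Algebra.Etale A M →
      L27.TopInv.Good.Good M (M ⊗[A] S))
    (h : EtPBC.IsIndEtale S B) {M : Type u} [CommRing M] [Algebra A M] [Algebra.Etale A M] (ψ : M →ₐ[A] B)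
    (w : S ⊗[A] M) (hw : ev A S B ψ w = 0) :
    ∃ (N : Type u) (_ : CommRing N) (_ : Algebra A N) (_ : Algebra.Etale A N) (j : M →ₐ[A] N) (χ : N →ₐ[A] B),
      χ.comp j = ψ ∧ Algebra.TensorProduct.map (AlgHom.id S S) j w = 0 := by
  let K : Ideal (S ⊗[A] M) := Ideal.span {w}
  haveI : Algebra.FinitePresentation S ((S ⊗[A] M) ⧸ K) :=
    Algebra.FinitePresentation.quotient (Submodule.fg_span_singleton _)
  have hK : K ≤ RingHom.ker (ev A S B ψ) := by
    rw [Ideal.span_le, Set.singleton_subset_iff]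
    exact hw
  obtain ⟨F, _, _, α, β, hF, hβ⟩ := (isIndEtale_iff_exists_factor S B).1 h
    ((S ⊗[A] M) ⧸ K) (Ideal.Quotient.liftₐ K (ev A S B ψ) hK)
  let α' : S ⊗[A] M →ₐ[S] F := α.comp (Ideal.Quotient.mkₐ S K)
  have hα' : α' w = 0 := by
    have hm : w ∈ K := Ideal.subset_span rfl
    exact (congrArg α (Ideal.Quotient.eq_zero_iff_mem.2 hm)).trans (map_zero α)
  have hβ' : ∀ x, β (α' x) = ev A S B ψ x := fun x => by
    show β (α (Ideal.Quotient.mk K x)) = _
    rw [← AlgHom.comp_apply β α, hβ]
    rfl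
  letI : Algebra (S ⊗[A] M) F := α'.toRingHom.toAlgebra
  haveI : IsScalarTower S (S ⊗[A] M) F := .of_algebraMap_eq fun a => (α'.commutes a).symm
  haveI : Algebra.Etale S (S ⊗[A] M) := inferInstance
  haveI : Algebra.Etale (S ⊗[A] M) F := Algebra.Etale.of_restrictScalars S (S ⊗[A] M) F
  let c : M ⊗[A] S ≃ₐ[A] S ⊗[A] M := Algebra.TensorProduct.comm A M S
  letI aF : Algebra (M ⊗[A] S) F := @RingHom.toAlgebra (M ⊗[A] S) F _ _ (α'.toRingHom.comp c.toRingEquiv.toRingHom)
  have hMS : Algebra.Etale (M ⊗[A] S) F := by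
    refine RingHom.etale_algebraMap.1 ?_
    exact RingHom.Etale.stableUnderComposition _ _ (RingHom.Etale.of_bijective c.bijective)
      (RingHom.etale_algebraMap.2 ‹Algebra.Etale (S ⊗[A] M) F›)
  obtain ⟨N, _, _, hN, ⟨ε⟩⟩ := hgood M inferInstance F hMS
  letI : Algebra A N := ((algebraMap M N).comp (algebraMap A M)).toAlgebra
  haveI : IsScalarTower A M N := .of_algebraMap_eq' rfl
  let μ : S ⊗[A] N → F := fun x => ε (Algebra.TensorProduct.comm M N (M ⊗[A] S)
    ((Algebra.TensorProduct.cancelBaseChange A M M N S).symm (Algebra.TensorProduct.comm A S N x)))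
  have hμ : Function.Bijective μ :=
    ε.bijective.comp ((Algebra.TensorProduct.comm M N (M ⊗[A] S)).bijective.comp
      ((Algebra.TensorProduct.cancelBaseChange A M M N S).symm.bijective.comp
        (Algebra.TensorProduct.comm A S N).bijective))
  have hμ1 : ∀ (s : S) (m : M), μ (s ⊗ₜ algebraMap M N m) = α' (s ⊗ₜ m) := fun s m => by
    show ε _ = _
    rw [Algebra.TensorProduct.comm_tmul, Algebra.TensorProduct.cancelBaseChange_symm_tmul,
      Algebra.TensorProduct.comm_tmul, Algebra.algebraMap_eq_smul_one, ← TensorProduct.smul_tmul]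
    have e1 : m • ((1 : M) ⊗ₜ[A] s) = m ⊗ₜ[A] s := by rw [TensorProduct.smul_tmul', smul_eq_mul, mul_one]
    rw [e1]
    exact (ε.commutes (m ⊗ₜ[A] s)).trans rfl
  have hμadd : ∀ x y, μ (x + y) = μ x + μ y := fun x y => by simp only [μ, map_add]
  have hμmul : ∀ x y, μ (x * y) = μ x * μ y := fun x y => by simp only [μ, map_mul]
  have hμw : ∀ x, μ (Algebra.TensorProduct.map (AlgHom.id S S) (IsScalarTower.toAlgHom A M N) x) = α' x := fun x => by
    induction x using TensorProduct.induction_on with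
    | zero => simp [μ]
    | add a b ha hb => rw [map_add, hμadd, ha, hb, map_add]
    | tmul s m => exact hμ1 s m
  let χ : N →ₐ[A] B :=
    { toFun := fun n => β (μ (1 ⊗ₜ n))
      map_one' := by
        have h1 := hμ1 1 1
        rw [map_one] at h1
        rw [h1]
        exact (congrArg β (map_one α')).trans (map_one β)
      map_mul' := fun x y => by
        rw [← map_mul, ← hμmul, Algebra.TensorProduct.tmul_mul_tmul, one_mul]
      map_zero' := by simp [μ]
      map_add' := fun x y => by rw [TensorProduct.tmul_add, hμadd, map_add]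
      commutes' := fun a => by
        show β (μ (1 ⊗ₜ algebraMap M N (algebraMap A M a))) = _
        rw [hμ1, hβ']
        simp }
  haveI : Algebra.Etale A N := Algebra.Etale.comp A M N
  refine ⟨N, inferInstance, inferInstance, inferInstance, IsScalarTower.toAlgHom A M N, χ,
    AlgHom.ext fun m => ?_, hμ.1 ?_⟩
  · show β (μ (1 ⊗ₜ algebraMap M N m)) = _
    rw [hμ1, hβ']
    simp
  · rw [hμw, hα']
    simp [μ]

theorem exists_lift_bijective (h0 : L27.TopInv.Good.Good A S)
    (hgood : ∀ (M : Type u) [CommRing M] [Algebra A M], Algebra.Etale A M → L27.TopInv.Good.Good M (M ⊗[A] S))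
    (h : EtPBC.IsIndEtale S B) :
    ∃ (C : Type u) (_ : CommRing C) (_ : Algebra A C) (π : C →ₐ[A] B),
      EtPBC.IsIndEtale A C ∧ Function.Bijective (ev A S B π) := by
  haveI := IndLift.isFiltered A B
  haveI : HasColimitsOfShape (P A B) (Under (CommRingCat.of A)) := inferInstance
  let c := colimit.cocone (diag A B)
  have hc := colimit.isColimit (diag A B)
  let C : Type u := c.pt.right
  letI : Algebra A C := c.pt.hom.hom.toAlgebra
  let π : C →ₐ[A] B := ⟨(hc.desc (toCb A B)).right.hom, fun a => congr($(Under.w (hc.desc (toCb A B))).hom a)⟩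
  let inc : ∀ X : P A B, carrier A B X →ₐ[A] C := fun X =>
    ⟨(c.ι.app X).right.hom, fun a => congr($(Under.w (c.ι.app X)).hom a)⟩
  have hπ : ∀ (X : P A B), π.comp (inc X) = X.map := fun X => AlgHom.ext fun x =>
    congr($(congrArg CommaMorphism.right (hc.fac (toCb A B) X)).hom x)
  have hinc : ∀ {X Y : P A B} (f : X ⟶ Y), (inc Y).comp f.1 = inc X := fun f => AlgHom.ext fun x =>
    congr($(congrArg CommaMorphism.right (c.w f)).hom x)
  have hev : ∀ (X : P A B) (w : S ⊗[A] carrier A B X),
      ev A S B π (Algebra.TensorProduct.map (AlgHom.id S S) (inc X) w) = ev A S B X.map w := fun X w => by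
    induction w using TensorProduct.induction_on with
    | zero => simp
    | add a b ha hb => simp only [map_add, ha, hb]
    | tmul s m => simp [ev, ← hπ X]
  refine ⟨C, inferInstance, inferInstance, π,
    ⟨P A B, inferInstance, inferInstance, diag A B, c, hc, fun X => ?_, ⟨Under.isoMk (Iso.refl _) ?_⟩⟩, ?_, ?_⟩
  · letI := ((diag A B).obj X).hom.hom.toAlgebra
    exact (RingHom.etale_algebraMap (R := A) (S := ((diag A B).obj X).right)).1 X.prop
  · exact Category.comp_id _
  · refine (injective_iff_map_eq_zero _).2 fun z hz => ?_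
    have hz' : ∃ (X : P A B) (w : S ⊗[A] carrier A B X),
        Algebra.TensorProduct.map (AlgHom.id S S) (inc X) w = z := by
      clear hz
      induction z using TensorProduct.induction_on with
      | zero => obtain ⟨X⟩ := (IndLift.isFiltered A B).nonempty; exact ⟨X, 0, map_zero _⟩
      | tmul s z =>
        obtain ⟨X, x₀, hx⟩ := Concrete.isColimit_exists_rep _
          (isColimitOfPreserves (Under.forget (CommRingCat.of A)) hc) z
        obtain ⟨x, rfl⟩ : ∃ x : carrier A B X, x = x₀ := ⟨x₀, rfl⟩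
        exact ⟨X, s ⊗ₜ x, (Algebra.TensorProduct.map_tmul _ _ _ _).trans (congrArg (fun t => s ⊗ₜ[A] t) hx)⟩
      | add a b ha hb =>
        obtain ⟨X, u, rfl⟩ := ha
        obtain ⟨Y, v, rfl⟩ := hb
        obtain ⟨Z, f, g, -⟩ := IndLift.cocone_objs A B X Y
        refine ⟨Z, Algebra.TensorProduct.map (AlgHom.id S S) f.1 u + Algebra.TensorProduct.map (AlgHom.id S S) g.1 v, ?_⟩
        rw [map_add, ← AlgHom.comp_apply, ← AlgHom.comp_apply, ← Algebra.TensorProduct.map_comp,
          ← Algebra.TensorProduct.map_comp, hinc f, hinc g, AlgHom.comp_id]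
    obtain ⟨X, w, rfl⟩ := hz'
    rw [hev] at hz
    obtain ⟨N, _, _, _, j, χ, hj, hw⟩ := exists_kill A S B hgood h X.map w hz
    obtain ⟨Y, e, he⟩ := exists_pres' A B χ
    let f : X ⟶ Y := ⟨e.toAlgHom.comp j, by rw [← AlgHom.comp_assoc, he, hj]⟩
    rw [← hinc f]
    have e1 : Algebra.TensorProduct.map (AlgHom.id S S) ((inc Y).comp f.1) =
        (Algebra.TensorProduct.map (AlgHom.id S S) ((inc Y).comp e.toAlgHom)).comp
          (Algebra.TensorProduct.map (AlgHom.id S S) j) := by
      rw [← Algebra.TensorProduct.map_comp]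
      rfl
    rw [e1, AlgHom.comp_apply, hw, map_zero]
  · intro b
    obtain ⟨E, _, _, α, β, hE, hβ⟩ := (isIndEtale_iff_exists_factor S B).1 h
      (MvPolynomial (Fin 1) S) (MvPolynomial.aeval fun _ => b)
    obtain ⟨M, _, _, hM, ⟨ε⟩⟩ := h0 E hE
    haveI := hM
    let ψ : M →ₐ[A] B := ((β.comp ε.toAlgHom).restrictScalars A).comp Algebra.TensorProduct.includeRight
    obtain ⟨X, e, he⟩ := exists_pres' A B ψ
    refine ⟨Algebra.TensorProduct.map (AlgHom.id S S) ((inc X).comp e.toAlgHom) (ε.symm (α (MvPolynomial.X 0))), ?_⟩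
    have e2 : (ev A S B π).comp (Algebra.TensorProduct.map (AlgHom.id S S) ((inc X).comp e.toAlgHom)) =
        β.comp ε.toAlgHom := by
      refine Algebra.TensorProduct.ext (AlgHom.ext fun s => ?_) (AlgHom.ext fun m => ?_)
      · have : β (ε (s ⊗ₜ 1)) = algebraMap S B s := (congrArg β (ε.commutes s)).trans (β.commutes s)
        simpa [ev] using this.symm
      · have h3 : π (inc X (e m)) = ψ m := (AlgHom.congr_fun (hπ X) (e m)).trans (AlgHom.congr_fun he m)
        simpa [ev, ψ] using h3
    rw [← AlgHom.comp_apply, e2]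
    show β (ε (ε.symm _)) = b
    rw [ε.apply_symm_apply]
    exact (AlgHom.congr_fun hβ _).trans (MvPolynomial.aeval_X _ _)

end Groth.L28.ProEt.GoodLift

namespace Groth.L28.ProEt.Closed

open Cech (IndE indE_algebraMap)

theorem exists_lift_pushout_of_good {A S B : CommRingCat.{u}} (f : A ⟶ S) (β : S ⟶ B) (hβ : IndE β)
    (h0 : letI := f.hom.toAlgebra; L27.TopInv.Good.Good A S)
    (hgood : letI := f.hom.toAlgebra; ∀ (M : Type u) [CommRing M] [Algebra A M], Algebra.Etale A M →
      L27.TopInv.Good.Good M (M ⊗[A] S)) :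
    ∃ (C : CommRingCat.{u}) (γ : A ⟶ C) (δ : C ⟶ B), IndE γ ∧ IsPushout f γ β δ := by
  letI := f.hom.toAlgebra
  letI := β.hom.toAlgebra
  letI : Algebra A B := (f ≫ β).hom.toAlgebra
  haveI : IsScalarTower A S B := .of_algebraMap_eq fun _ => rfl
  obtain ⟨C, _, _, π, hC, hb⟩ := GoodLift.exists_lift_bijective A S B h0 hgood ((indE_algebraMap β).2 hβ)
  let e := (AlgEquiv.ofBijective _ hb).toRingEquiv.toCommRingCatIso
  refine ⟨CommRingCat.of C, CommRingCat.ofHom (algebraMap A C), CommRingCat.ofHom π.toRingHom,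
    (L27.IndEtale.isIndEtale_iff A C).1 hC,
    (CommRingCat.isPushout_tensorProduct A S C).of_iso (Iso.refl _) (Iso.refl _) (Iso.refl _) e ?_ ?_ ?_ ?_⟩
  · exact (Category.comp_id _).trans (Category.id_comp _).symm
  · exact (Category.comp_id _).trans (Category.id_comp _).symm
  · refine CommRingCat.hom_ext (RingHom.ext fun s => ?_)
    show GoodLift.ev A S B π (s ⊗ₜ 1) = β.hom s
    simp [GoodLift.ev]
    rfl
  · refine CommRingCat.hom_ext (RingHom.ext fun c => ?_)
    show GoodLift.ev A S B π (1 ⊗ₜ c) = π c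
    simp [GoodLift.ev]

end Groth.L28.ProEt.Closed
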