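import Groth.Agent.L05.Hensel.Homs
import Groth.Agent.L27.IndEtale
import Groth.Agent.L05.Henselization.Pair

/-!
Maps out of ind-étale algebras into henselian pairs.
-/

set_option autoImplicit false
set_option linter.style.haveILetI false

universe u

open CategoryTheory CategoryTheory.Limits CategoryTheory.MorphismProperty

namespace Groth.L28.ProEt.HensLift

theorem existsUnique_lift {A B C : Type u} [CommRing A] [CommRing B] [CommRing C] [Algebra A B] [Algebra A C]
    (hC : EtPBC.IsIndEtale A C) (I : Ideal B) [HenselianRing B I] (σ : C →ₐ[A] B ⧸ I) :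
    ∃! τ : C →ₐ[A] B, (Ideal.Quotient.mkₐ A I).comp τ = σ := by
  obtain ⟨J, _, _, D, t, s, hs, hst⟩ := (L27.IndEtale.isIndEtale_iff A C).1 hC
  letI al : ∀ j, Algebra A (D.obj j) := fun j => (t.app j).hom.toAlgebra
  let p : ∀ j, D.obj j →ₐ[A] C := fun j => ⟨(s.app j).hom, fun a => congr($((hst j).2).hom a)⟩
  haveI : ∀ j, Algebra.Etale A (D.obj j) := fun j => by
    have h := (hst j).1
    have e : t.app j = CommRingCat.ofHom (algebraMap A (D.obj j)) := rfl
    rw [e] at h
    exact (L27.IndEtale.etaleProp_iff A (D.obj j)).1 h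
  choose g hg hg' using fun j => L05.existsUnique_algHom_lift_etale (R := A) I (σ.comp (p j))
  let c : Cocone D := ⟨CommRingCat.of B,
    { app := fun j => CommRingCat.ofHom (g j).toRingHom
      naturality := fun j k f => by
        let f' : D.obj j →ₐ[A] D.obj k := ⟨(D.map f).hom, fun a => congr($(t.naturality f).hom a).symm⟩
        have : (g k).comp f' = g j := hg' j _ (AlgHom.ext fun x => by
          refine (DFunLike.congr_fun (hg k) (f' x)).trans ?_
          exact congrArg σ (congr($(s.naturality f).hom x)))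
        exact CommRingCat.hom_ext (RingHom.ext fun x => DFunLike.congr_fun this x) }⟩
  have hfac := hs.fac c
  have hrep : ∀ x : C, ∃ j y, (p j) y = x := fun x => by
    obtain ⟨j, y, hy⟩ := Concrete.isColimit_exists_rep D hs x
    exact ⟨j, y, hy⟩
  have hτ : ∀ j y, (hs.desc c).hom (p j y) = g j y := fun j y => congr($(hfac j).hom y)
  let τ : C →ₐ[A] B := ⟨(hs.desc c).hom, fun a => by
    obtain ⟨j⟩ := IsFiltered.nonempty (C := J)
    rw [← (p j).commutes a]
    exact (hτ j _).trans ((g j).commutes a)⟩
  refine ⟨τ, AlgHom.ext fun x => ?_, fun τ' h => AlgHom.ext fun x => ?_⟩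
  · obtain ⟨j, y, rfl⟩ := hrep x
    exact (congrArg (Ideal.Quotient.mk I) (hτ j y)).trans (DFunLike.congr_fun (hg j) y)
  · obtain ⟨j, y, rfl⟩ := hrep x
    refine (DFunLike.congr_fun (hg' j (τ'.comp (p j)) ?_) y).trans (hτ j y).symm
    show (Ideal.Quotient.mkₐ A I).comp (τ'.comp (p j)) = σ.comp (p j)
    rw [← AlgHom.comp_assoc, h]

theorem henselianRing_map_ringEquiv {B B' : Type u} [CommRing B] [CommRing B'] (e : B ≃+* B') (I : Ideal B)
    [HenselianRing B I] : HenselianRing B' (I.map e.toRingHom) := by
  letI := e.toRingHom.toAlgebra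
  haveI : Algebra.IsIntegral B B' := Algebra.isIntegral_of_surjective (R := B) e.surjective
  exact L05.henselianRing_map_of_isIntegral I B'

end Groth.L28.ProEt.HensLift
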