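import Groth.Agent.L28.ProEt.HensLift
import Groth.Agent.L28.ProEt.ClosedDense
import Mathlib.AlgebraicGeometry.EffectiveEpi
import Mathlib.AlgebraicGeometry.Morphisms.ClosedImmersion

/-!
Sections of weakly étale morphisms over henselian affine pairs with weakly contractible closed part.
-/

set_option autoImplicit false
set_option linter.style.haveILetI false
set_option linter.unusedSectionVars false

universe u

open CategoryTheory CategoryTheory.Limits AlgebraicGeometry Opposite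

set_option backward.isDefEq.respectTransparency.types false

namespace Groth.L28.ProEt.Closed

open Cech (IndE)

theorem exists_section_of_wc {P W : Scheme.{u}} [IsAffine P] [IsAffine W]
    (hW : EtPBC.IsWContractible ↥Γ(W, ⊤)) (p : P ⟶ W) [WeaklyEtale p] [Surjective p] :
    ∃ s : W ⟶ P, s ≫ p = 𝟙 W := by
  let φ := p.appTop
  haveI : WeaklyEtale (Spec.map φ) :=
    (MorphismProperty.arrow_mk_iso_iff @WeaklyEtale (arrowIsoSpecΓOfIsAffine p)).1 inferInstance
  haveI : Surjective (Spec.map φ) :=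
    (MorphismProperty.arrow_mk_iso_iff @Surjective (arrowIsoSpecΓOfIsAffine p)).1 inferInstance
  letI := φ.hom.toAlgebra
  have hwe : Algebra.WeaklyEtale ↥Γ(W, ⊤) ↥Γ(P, ⊤) := (Groth.L20.weaklyEtale_specMap_iff φ).1 ‹_›
  have hff : Module.FaithfullyFlat ↥Γ(W, ⊤) ↥Γ(P, ⊤) := by
    haveI := hwe
    exact Module.FaithfullyFlat.of_comap_surjective (fun y => Surjective.surj (f := Spec.map φ) y)
  obtain ⟨r⟩ := hW _ hff hwe
  let r' : Γ(P, ⊤) ⟶ Γ(W, ⊤) := CommRingCat.ofHom r.toRingHom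
  have hr : φ ≫ r' = 𝟙 _ := CommRingCat.hom_ext (RingHom.ext fun a => r.commutes a)
  refine ⟨W.isoSpec.hom ≫ Spec.map r' ≫ P.isoSpec.inv, ?_⟩
  rw [Category.assoc, Category.assoc, ← Scheme.isoSpec_inv_naturality p, ← Spec.map_comp_assoc, hr,
    Spec.map_id, Category.id_comp, Iso.hom_inv_id]

variable {W0 W : Scheme.{u}} (z : W0 ⟶ W) [IsClosedImmersion z] [IsAffine W]

theorem exists_specializes_range (h : RingHom.ker z.appTop.hom ≤ Ideal.jacobson ⊥) (w : W) :
    ∃ x : W0, w ⤳ z x := by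
  haveI : IsAffine W0 := isAffine_of_isAffineHom z
  let q := W.isoSpec
  obtain ⟨m, hm, hle⟩ := (q.hom w).asIdeal.exists_le_maximal (q.hom w).2.ne_top
  have hk : RingHom.ker z.appTop.hom ≤ m := h.trans (sInf_le ⟨bot_le, hm⟩)
  let M : PrimeSpectrum Γ(W, ⊤) := ⟨m, hm.isPrime⟩
  have hmem : M ∈ Set.range (PrimeSpectrum.comap z.appTop.hom) := by
    rw [range_comap_of_surjective _ _ (IsClosedImmersion.isAffine_surjective_of_isAffine (f := z)).2]
    exact hk
  obtain ⟨y, hy⟩ := hmem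
  refine ⟨W0.isoSpec.inv y, ?_⟩
  have h1 : (q.hom w) ⤳ (Spec.map z.appTop y) :=
    (PrimeSpectrum.le_iff_specializes _ _).mp (show (q.hom w).asIdeal ≤ (PrimeSpectrum.comap z.appTop.hom y).asIdeal by rw [hy]; exact hle)
  have h2 := h1.map q.inv.continuous
  rw [← Scheme.Hom.comp_apply, ← Scheme.Hom.comp_apply, Iso.hom_inv_id, Scheme.isoSpec_inv_naturality z,
    Scheme.Hom.comp_apply] at h2
  exact h2

theorem eq_of_comp_eq {T : Scheme.{u}} (f : T ⟶ W) [WeaklyEtale f]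
    (h : RingHom.ker z.appTop.hom ≤ Ideal.jacobson ⊥) (s₁ s₂ : W ⟶ T) (h₁ : s₁ ≫ f = 𝟙 W) (h₂ : s₂ ≫ f = 𝟙 W)
    (e : z ≫ s₁ = z ≫ s₂) : s₁ = s₂ := by
  let d := pullback.diagonal f
  let p : W ⟶ pullback f f := pullback.lift s₁ s₂ (h₁.trans h₂.symm)
  let m : pullback p d ⟶ W := pullback.fst p d
  haveI : Flat d := WeaklyEtale.flat_diagonal
  haveI : Flat m := MorphismProperty.pullback_fst _ _ ‹Flat d›
  have hfac : z ≫ p = (z ≫ s₁) ≫ d := pullback.hom_ext
    (by rw [Category.assoc, pullback.lift_fst, Category.assoc, Category.assoc, pullback.diagonal_fst, Category.comp_id])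
    (by rw [Category.assoc, pullback.lift_snd, Category.assoc, Category.assoc, pullback.diagonal_snd, Category.comp_id, e])
  let l : W0 ⟶ pullback p d := pullback.lift z (z ≫ s₁) hfac
  haveI : Surjective m := ⟨fun w => by
    obtain ⟨x, hx⟩ := exists_specializes_range z h w
    have hx' : w ⤳ m (l x) := by
      rw [← Scheme.Hom.comp_apply, pullback.lift_fst]
      exact hx
    obtain ⟨y, -, hy⟩ := (Flat.generalizingMap m) hx'
    exact ⟨y, hy⟩⟩
  haveI := Flat.epi_of_flat_of_surjective m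
  rw [← cancel_epi m]
  have hc : m ≫ p = pullback.snd p d ≫ d := pullback.condition
  have e1 := congrArg (fun k => k ≫ pullback.fst f f) hc
  have e2 := congrArg (fun k => k ≫ pullback.snd f f) hc
  simp only [Category.assoc, p, d, pullback.lift_fst, pullback.lift_snd, pullback.diagonal_fst, pullback.diagonal_snd,
    Category.comp_id] at e1 e2
  exact e1.trans e2.symm

theorem exists_lift_indE (hH : HenselianRing ↥Γ(W, ⊤) (RingHom.ker z.appTop.hom)) {B' : CommRingCat.{u}}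
    (γ : Γ(W, ⊤) ⟶ B') (hγ : IndE γ) (τ₀ : B' ⟶ Γ(W0, ⊤)) (h : γ ≫ τ₀ = z.appTop) :
    ∃ τ : B' ⟶ Γ(W, ⊤), γ ≫ τ = 𝟙 _ ∧ τ ≫ z.appTop = τ₀ := by
  haveI : IsAffine W0 := isAffine_of_isAffineHom z
  have hs := (IsClosedImmersion.isAffine_surjective_of_isAffine (f := z)).2
  letI := γ.hom.toAlgebra
  haveI := hH
  let e := RingHom.quotientKerEquivOfSurjective hs
  let σ : B' →ₐ[↥Γ(W, ⊤)] ↥Γ(W, ⊤) ⧸ RingHom.ker z.appTop.hom :=
    { e.symm.toRingHom.comp τ₀.hom with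
      commutes' := fun a => by
        show e.symm (τ₀.hom (γ.hom a)) = Ideal.Quotient.mk _ a
        rw [RingEquiv.symm_apply_eq]
        exact (ConcreteCategory.congr_hom h a).trans rfl }
  obtain ⟨τ, hτ, -⟩ := HensLift.existsUnique_lift ((Cech.indE_algebraMap γ).2 hγ) (RingHom.ker z.appTop.hom) σ
  refine ⟨CommRingCat.ofHom τ.toRingHom, CommRingCat.hom_ext (RingHom.ext fun a => τ.commutes a),
    CommRingCat.hom_ext (RingHom.ext fun b => ?_)⟩
  show z.appTop.hom (τ b) = τ₀.hom b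
  have h1 : Ideal.Quotient.mk (RingHom.ker z.appTop.hom) (τ b) = e.symm (τ₀.hom b) := DFunLike.congr_fun hτ b
  exact (congrArg e h1).trans (e.apply_symm_apply _)

theorem exists_section {T : Scheme.{u}} (f : T ⟶ W) [WeaklyEtale f]
    (hH : HenselianRing ↥Γ(W, ⊤) (RingHom.ker z.appTop.hom)) (hwc : EtPBC.IsWContractible ↥Γ(W0, ⊤))
    (σ : W0 ⟶ T) (hσ : σ ≫ f = z) : ∃ s : W ⟶ T, s ≫ f = 𝟙 W ∧ z ≫ s = σ := by
  haveI : IsAffine W0 := isAffine_of_isAffineHom z
  have hU : ∀ x : W0, ∃ (U : T.Opens) (D : W0.Opens), IsAffineOpen U ∧ IsAffineOpen D ∧ x ∈ D ∧ D ≤ σ ⁻¹ᵁ U :=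
    fun x => by
      obtain ⟨U, hU, hxU, -⟩ := exists_isAffineOpen_mem_and_subset (U := (⊤ : T.Opens))
        (TopologicalSpace.Opens.mem_top (σ x))
      obtain ⟨D, hD, hxD, hle⟩ := exists_isAffineOpen_mem_and_subset (U := σ ⁻¹ᵁ U) (x := x) hxU
      exact ⟨U, D, hU, hD, hxD, hle⟩
  choose U D hUa hDa hxD hle using hU
  obtain ⟨t, ht⟩ := isCompact_univ.elim_finite_subcover (fun x : W0 => (D x : Set W0)) (fun x => (D x).2)
    (fun x _ => Set.mem_iUnion.2 ⟨x, hxD x⟩)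
  let R : Scheme.{u} := ∐ fun k : t => (U k.1).toScheme
  let P : Scheme.{u} := ∐ fun k : t => (D k.1).toScheme
  haveI : ∀ k : t, IsAffine (U k.1).toScheme := fun k => hUa k.1
  haveI : ∀ k : t, IsAffine (D k.1).toScheme := fun k => hDa k.1
  haveI : IsAffine R := inferInstance
  haveI : IsAffine P := inferInstance
  let r : R ⟶ T := Sigma.desc fun k : t => (U k.1).ι
  let p : P ⟶ W0 := Sigma.desc fun k : t => (D k.1).ι
  haveI : WeaklyEtale r := IsZariskiLocalAtSource.sigmaDesc (P := @WeaklyEtale) fun k => inferInstance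
  haveI : WeaklyEtale p := IsZariskiLocalAtSource.sigmaDesc (P := @WeaklyEtale) fun k => inferInstance
  haveI : Surjective p := ⟨fun x => by
    obtain ⟨y, hy, hxy⟩ : ∃ y ∈ t, x ∈ D y := by simpa using ht (Set.mem_univ x)
    refine ⟨Sigma.ι (fun k : t => (D k.1).toScheme) ⟨y, hy⟩ ⟨x, hxy⟩, ?_⟩
    rw [← Scheme.Hom.comp_apply, Sigma.ι_desc]
    rfl⟩
  obtain ⟨sec, hsec⟩ := exists_section_of_wc hwc p
  let σ₁ : W0 ⟶ R := sec ≫ Sigma.desc fun k : t =>
    σ.resLE (U k.1) (D k.1) (hle k.1) ≫ Sigma.ι (fun k : t => (U k.1).toScheme) k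
  have hσ₁ : σ₁ ≫ r = σ := by
    have : (Sigma.desc fun k : t => σ.resLE (U k.1) (D k.1) (hle k.1) ≫ Sigma.ι (fun k : t => (U k.1).toScheme) k) ≫ r = p ≫ σ :=
      Sigma.hom_ext _ _ fun k => by
        rw [Sigma.ι_desc_assoc, Category.assoc, Sigma.ι_desc, Scheme.Hom.resLE_comp_ι, Sigma.ι_desc_assoc]
    rw [Category.assoc, this, ← Category.assoc, hsec, Category.id_comp]
  let φ := (r ≫ f).appTop
  haveI : WeaklyEtale (Spec.map φ) :=
    (MorphismProperty.arrow_mk_iso_iff @WeaklyEtale (arrowIsoSpecΓOfIsAffine (r ≫ f))).1 inferInstance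
  obtain ⟨B', ψ, _, _, hind⟩ := exists_indE_enlargement φ
  let g : Spec B' ⟶ R := Spec.map ψ ≫ R.isoSpec.inv
  haveI : IsAffineHom g := inferInstance
  haveI : IsAffine (pullback σ₁ g) := isAffine_of_isAffineHom (pullback.fst σ₁ g)
  obtain ⟨sec', hsec'⟩ := exists_section_of_wc hwc (pullback.fst σ₁ g)
  let σ₂ : W0 ⟶ Spec B' := sec' ≫ pullback.snd σ₁ g
  have hσ₂ : σ₂ ≫ g = σ₁ := by
    rw [Category.assoc, ← pullback.condition, ← Category.assoc, hsec', Category.id_comp]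
  obtain ⟨τ₀, hτ₀⟩ : ∃ τ₀ : B' ⟶ Γ(W0, ⊤), Spec.map τ₀ = W0.isoSpec.inv ≫ σ₂ :=
    ⟨Spec.preimage (W0.isoSpec.inv ≫ σ₂), Spec.map_preimage _⟩
  have hgf : g ≫ r ≫ f = Spec.map (φ ≫ ψ) ≫ W.isoSpec.inv := by
    rw [Spec.map_comp, Category.assoc, Category.assoc, Scheme.isoSpec_inv_naturality]
  have h0 : (φ ≫ ψ) ≫ τ₀ = z.appTop := by
    apply Spec.map_injective
    rw [Spec.map_comp, hτ₀, ← cancel_mono W.isoSpec.inv, Scheme.isoSpec_inv_naturality z, Category.assoc, Category.assoc,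
      ← hgf, ← hσ, ← hσ₁, ← hσ₂]
    simp only [Category.assoc]
  obtain ⟨τ, hτ, hτz⟩ := exists_lift_indE z hH (φ ≫ ψ) hind τ₀ h0
  refine ⟨W.isoSpec.hom ≫ Spec.map τ ≫ g ≫ r, ?_, ?_⟩
  · rw [Category.assoc, Category.assoc, Category.assoc, hgf, ← Spec.map_comp_assoc, hτ, Spec.map_id,
      Category.id_comp, Iso.hom_inv_id]
  · rw [← Category.assoc z, ← Scheme.isoSpec_hom_naturality z, Category.assoc, ← Spec.map_comp_assoc, hτz, hτ₀,
      Category.assoc, Iso.hom_inv_id_assoc, ← Category.assoc, hσ₂, hσ₁]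

end Groth.L28.ProEt.Closed
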