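import Groth.Prelude.Def_ProEtS
import Mathlib.CategoryTheory.Sites.CoverLifting
import Mathlib.CategoryTheory.Sites.DenseSubsite.InducedTopology
import Mathlib.CategoryTheory.Functor.KanExtension.Adjunction

/-!
Composition with a weakly étale morphism is continuous on small pro-étale sites.
-/

set_option autoImplicit false
set_option linter.style.haveILetI false

universe u

open CategoryTheory CategoryTheory.Limits AlgebraicGeometry Opposite

set_option backward.isDefEq.respectTransparency.types false

namespace Groth.L28.ProEt

theorem jpCont {U X : Scheme.{u}} (j : U ⟶ X) [hj : WeaklyEtale j] : ProEtS.JPCont j := by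
  let u := Scheme.ProEt.forget X
  let KX := Scheme.proetaleTopology.over X
  haveI : u.IsCocontinuous (Scheme.ProEt.topology X) KX := by
    have e : Scheme.ProEt.topology X = u.restrictedTopology KX :=
      MorphismProperty.toGrothendieck_comap_forget_eq_restrictedTopology _
        Scheme.proetalePrecoverage_le_precoverage_weaklyEtale
    rw [e]
    infer_instance
  haveI : (Over.map j).IsContinuous (Scheme.proetaleTopology.over U) KX :=
    inferInstanceAs ((Over.map j).IsContinuous (Scheme.proetaleTopology.over U) (Scheme.proetaleTopology.over X))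
  haveI hc : (Scheme.ProEt.forget U ⋙ Over.map j).IsContinuous (Scheme.ProEt.topology U) KX :=
    Functor.isContinuous_comp _ _ _ (Scheme.proetaleTopology.over U) _
  haveI : (ProEtS.compP j ⋙ u).IsContinuous (Scheme.ProEt.topology U) KX :=
    Functor.isContinuous_of_iso (F₁ := Scheme.ProEt.forget U ⋙ Over.map j)
      (NatIso.ofComponents (fun V => Iso.refl _) fun f => (Category.comp_id _).trans (Category.id_comp _).symm) _ _
  refine ⟨fun G => ?_⟩
  let R := (u.sheafPushforwardCocontinuous (Type (u + 1)) (Scheme.ProEt.topology X) KX).obj G
  have hi : IsIso ((u.sheafAdjunctionCocontinuous (Type (u + 1)) (Scheme.ProEt.topology X) KX).counit.app G).hom := by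
    rw [Functor.sheafAdjunctionCocontinuous_counit_app_hom]
    haveI : (Scheme.ProEt.forget X).op.Full := inferInstance
    haveI : (Scheme.ProEt.forget X).op.Faithful := inferInstance
    exact inferInstanceAs (IsIso (((Scheme.ProEt.forget X).op.ranAdjunction (Type (u + 1))).counit.app G.obj))
  let e : u.op ⋙ R.obj ≅ G.obj :=
    @asIso _ _ _ _ ((u.sheafAdjunctionCocontinuous (Type (u + 1)) (Scheme.ProEt.topology X) KX).counit.app G).hom hi
  exact Presieve.isSheaf_iso _ (Functor.isoWhiskerLeft (ProEtS.compP j).op e)
    ((ProEtS.compP j ⋙ u).op_comp_isSheaf_of_types _ _ R)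

end Groth.L28.ProEt
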