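import Groth.Agent.L28.ProEt.LimExact
import Groth.Agent.L28.Noeth.AR

/-!
Kernels, cokernels and chains of adic sheaves on the pro-étale site.
-/

set_option autoImplicit false
set_option linter.style.haveILetI false

universe u

open CategoryTheory CategoryTheory.Limits AlgebraicGeometry Opposite

set_option backward.isDefEq.respectTransparency.types false

namespace Groth.L28.ProEt

variable (Λ : Type (u + 1)) [CommRing Λ] (X : Scheme.{u}) [ProEtS.EpsCont X]

/-- systems to the limit of their pullbacks -/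
noncomputable abbrev limEps : ARSys.PS (EtModW.Mod Λ X) ⥤ EtModW.ModP Λ X :=
  (Functor.whiskeringRight ℕᵒᵖ (EtModW.Mod Λ X) (EtModW.ModP Λ X)).obj (EtModW.epsPullMod Λ X) ⋙ lim

theorem preservesFiniteLimits_limEps : PreservesFiniteLimits (limEps Λ X) := by
  haveI := preservesFiniteLimits_epsPullMod Λ X
  exact ⟨fun J _ _ => inferInstance⟩

variable {Λ X}

theorem additive_limEps : (limEps Λ X).Additive :=
  ⟨fun {A B f g} => limit.hom_ext fun n => by
    show limMap _ ≫ _ = _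
    rw [limMap_π, Preadditive.add_comp]
    refine Eq.trans ?_ (congrArg₂ (· + ·) (limMap_π _ n).symm (limMap_π _ n).symm)
    rw [← Preadditive.comp_add]
    exact congrArg (fun k => limit.π (A ⋙ EtModW.epsPullMod Λ X) n ≫ k) (EtModW.epsPullMod Λ X).map_add⟩

variable [IsNoetherianRing Λ] [AlgebraicGeometry.IsNoetherian X] {I : Ideal Λ}

omit [IsNoetherianRing Λ] [AlgebraicGeometry.IsNoetherian X] in
theorem epi_limEps_map (S : ShortComplex (ARSys.PS (EtModW.Mod Λ X))) (hS : S.ShortExact)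
    (hA : ∃ (Y : ARSys.PS (EtModW.Mod Λ X)) (v : Y ⟶ S.X₁), ARSys.IsStrict Y ∧ ARSys.IsARIso v) :
    Epi ((limEps Λ X).map S.g) :=
  epi_limMap S hS hA

omit [IsNoetherianRing Λ] [AlgebraicGeometry.IsNoetherian X] in
theorem isIso_limEps_map {A B : ARSys.PS (EtModW.Mod Λ X)} {v : A ⟶ B} (hv : ARSys.IsARIso v) :
    IsIso ((limEps Λ X).map v) := by
  haveI := preservesFiniteLimits_epsPullMod Λ X
  haveI := (epsAdjMod Λ X).leftAdjoint_preservesColimits.{0, 0}
  haveI : PreservesFiniteColimits (EtModW.epsPullMod Λ X) := PreservesColimitsOfSize.preservesFiniteColimits _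
  exact Groth.Agent.S13621.result (Functor.whiskerRight v (EtModW.epsPullMod Λ X))
    (Groth.L28.AR.isARIso_whiskerRight (EtModW.epsPullMod Λ X) hv)

omit [IsNoetherianRing Λ] [AlgebraicGeometry.IsNoetherian X] in
theorem exists_preimage_limEps (hI : I.FG) {A B : ARSys.PS (EtModW.Mod Λ X)} (hA : ARSys.IsAdic I A)
    (hB : ARSys.IsAdic I B) (φ : (limEps Λ X).obj A ⟶ (limEps Λ X).obj B) :
    ∃ u : A ⟶ B, (limEps Λ X).map u = φ := by
  let F := ObjectProperty.ι (fun G : ARSys.PS (EtModW.Mod Λ X) => ARSys.IsAdic I G) ⋙ limEps Λ X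
  haveI : F.Full := (fullFaithful_limit (X := X) hI).1
  have h : Function.Surjective (F.map (X := ⟨A, hA⟩) (Y := ⟨B, hB⟩)) := F.map_surjective
  obtain ⟨f, hf⟩ := h φ
  exact ⟨f.hom, hf⟩

omit [IsNoetherianRing Λ] [AlgebraicGeometry.IsNoetherian X] in
theorem limEps_map_injective (hI : I.FG) {A B : ARSys.PS (EtModW.Mod Λ X)} (hA : ARSys.IsAdic I A)
    (hB : ARSys.IsAdic I B) {f g : A ⟶ B} (h : (limEps Λ X).map f = (limEps Λ X).map g) : f = g := by
  let F := ObjectProperty.ι (fun G : ARSys.PS (EtModW.Mod Λ X) => ARSys.IsAdic I G) ⋙ limEps Λ X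
  haveI : F.Faithful := (fullFaithful_limit (X := X) hI).2
  have h' : Function.Injective (F.map (X := ⟨A, hA⟩) (Y := ⟨B, hB⟩)) := F.map_injective
  exact congrArg (fun k => k.hom) (@h' (ObjectProperty.homMk f) (ObjectProperty.homMk g) h)

/-- a strict model of the kernel of a map of adic systems of constructible sheaves -/
theorem exists_model_kernel {A B : ARSys.PS (EtModW.Mod Λ X)} (hA : ARSys.IsAdic I A) (hB : ARSys.IsAdic I B)
    (hAc : ∀ n : ℕ, EtModW.IsConstructible Λ (A.obj (op n)))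
    (hBc : ∀ n : ℕ, EtModW.IsConstructible Λ (B.obj (op n))) (w : A ⟶ B) :
    ∃ (Y : ARSys.PS (EtModW.Mod Λ X)) (v : Y ⟶ kernel w), ARSys.IsAdic I Y ∧
      (∀ n : ℕ, EtModW.IsConstructible Λ (Y.obj (op n))) ∧ ARSys.IsARIso v :=
  (Noeth.exists_constructible_model (Noeth.isConstructible_kernel_app w hAc)
    (Noeth.exists_model_kernel_cokernel hA hB hAc hBc w).1).2

/-- the image part of a map of adic systems becomes an epimorphism -/
theorem epi_limEps_factor {A B : ARSys.PS (EtModW.Mod Λ X)} (hA : ARSys.IsAdic I A) (hB : ARSys.IsAdic I B)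
    (hAc : ∀ n : ℕ, EtModW.IsConstructible Λ (A.obj (op n)))
    (hBc : ∀ n : ℕ, EtModW.IsConstructible Λ (B.obj (op n))) (w : A ⟶ B)
    {M : ARSys.PS (EtModW.Mod Λ X)} (e : A ⟶ M) [Epi e] (i : M ⟶ B) [Mono i] (hei : e ≫ i = w) :
    Epi ((limEps Λ X).map e) := by
  obtain ⟨Y, v, hY, -, hv⟩ := exists_model_kernel hA hB hAc hBc w
  subst hei
  let S := ShortComplex.mk (kernel.ι e) e (kernel.condition e)
  have hS : S.ShortExact := { exact := ShortComplex.exact_kernel e }
  exact epi_limEps_map S hS ⟨Y, v ≫ (kernelCompMono e i).hom, Groth.L28.AR.adic_strict hY,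
    Groth.L28.AR.isARIso_comp hv (Groth.L28.AR.isARIso_of_isIso _)⟩

theorem exists_cokernel {A B : ARSys.PS (EtModW.Mod Λ X)} (hA : ARSys.IsAdic I A) (hB : ARSys.IsAdic I B)
    (hAc : ∀ n : ℕ, EtModW.IsConstructible Λ (A.obj (op n)))
    (hBc : ∀ n : ℕ, EtModW.IsConstructible Λ (B.obj (op n))) (w : A ⟶ B) :
    Nonempty (cokernel ((limEps Λ X).map w) ≅ (limEps Λ X).obj (cokernel w)) := by
  haveI := preservesFiniteLimits_limEps Λ X
  haveI := additive_limEps (Λ := Λ) (X := X)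
  let π := cokernel.π w
  let e : A ⟶ Abelian.image w := Abelian.factorThruImage w
  let ι : Abelian.image w ⟶ B := kernel.ι π
  have hei : e ≫ ι = w := Abelian.image.fac w
  haveI h1 : Epi ((limEps Λ X).map e) := epi_limEps_factor hA hB hAc hBc w e ι hei
  let S := ShortComplex.mk ι π (kernel.condition π)
  have hS : S.ShortExact := { exact := ShortComplex.exact_kernel π }
  haveI h2 : Epi ((limEps Λ X).map π) :=
    epi_limEps_map S hS ⟨Abelian.image w, 𝟙 _, Groth.L28.AR.strict_image w (Groth.L28.AR.adic_strict hA),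
      Groth.L28.AR.isARIso_id _⟩
  haveI : Mono ((limEps Λ X).map ι) := (limEps Λ X).map_mono ι
  have hSL : (S.map (limEps Λ X)).Exact := ShortComplex.exact_of_f_is_kernel _
    (KernelFork.mapIsLimit (KernelFork.ofι ι (kernel.condition π)) (kernelIsKernel π) (limEps Λ X))
  have hz : (limEps Λ X).map w ≫ (limEps Λ X).map π = 0 := by
    rw [← Functor.map_comp, cokernel.condition, Functor.map_zero]
  let T := ShortComplex.mk ((limEps Λ X).map w) ((limEps Λ X).map π) hz
  let φ : T ⟶ S.map (limEps Λ X) :=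
    { τ₁ := (limEps Λ X).map e
      τ₂ := 𝟙 _
      τ₃ := 𝟙 _
      comm₁₂ := by
        show (limEps Λ X).map e ≫ (limEps Λ X).map ι = (limEps Λ X).map w ≫ 𝟙 _
        rw [← Functor.map_comp, hei, Category.comp_id]
      comm₂₃ := (Category.id_comp _).trans (Category.comp_id _).symm }
  haveI : Epi φ.τ₁ := h1
  haveI : IsIso φ.τ₂ := IsIso.id _
  haveI : Mono φ.τ₃ := inferInstanceAs (Mono (𝟙 _))
  have hT : T.Exact := (ShortComplex.exact_iff_of_epi_of_isIso_of_mono φ).2 hSL
  haveI : Epi T.g := h2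
  exact ⟨IsColimit.coconePointUniqueUpToIso (cokernelIsCokernel _) hT.gIsCokernel⟩

theorem isAdicP_kernel_cokernel {F G : EtModW.ModP Λ X}
    {A B : ARSys.PS (EtModW.Mod Λ X)} (hA : ARSys.IsAdic I A) (hB : ARSys.IsAdic I B)
    (hAc : ∀ n : ℕ, EtModW.IsConstructible Λ (A.obj (op n)))
    (hBc : ∀ n : ℕ, EtModW.IsConstructible Λ (B.obj (op n)))
    (eF : (limEps Λ X).obj A ≅ F) (eG : (limEps Λ X).obj B ≅ G) (w : F ⟶ G) :
    (∃ C : ARSys.PS (EtModW.Mod Λ X), ARSys.IsAdic I C ∧ (∀ n : ℕ, EtModW.IsConstructible Λ (C.obj (op n))) ∧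
        Nonempty ((limEps Λ X).obj C ≅ kernel w)) ∧
    (∃ C : ARSys.PS (EtModW.Mod Λ X), ARSys.IsAdic I C ∧ (∀ n : ℕ, EtModW.IsConstructible Λ (C.obj (op n))) ∧
        Nonempty ((limEps Λ X).obj C ≅ cokernel w)) := by
  haveI := preservesFiniteLimits_limEps Λ X
  haveI := additive_limEps (Λ := Λ) (X := X)
  obtain ⟨f, hf⟩ := exists_preimage_limEps (IsNoetherian.noetherian I) hA hB (eF.hom ≫ w ≫ eG.inv)
  have hsq : (limEps Λ X).map f ≫ eG.hom = eF.hom ≫ w := by
    rw [hf, Category.assoc, Category.assoc, Iso.inv_hom_id, Category.comp_id]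
  refine ⟨?_, ?_⟩
  · obtain ⟨Y, v, hY, hYc, hv⟩ := exists_model_kernel hA hB hAc hBc f
    haveI := isIso_limEps_map hv
    exact ⟨Y, hY, hYc, ⟨asIso ((limEps Λ X).map v) ≪≫ PreservesKernel.iso (limEps Λ X) f ≪≫
      kernel.mapIso ((limEps Λ X).map f) w eF eG hsq⟩⟩
  · obtain ⟨e⟩ := exists_cokernel hA hB hAc hBc f
    exact ⟨cokernel f, Groth.L28.AR.adic_cokernel_of_adic f (Groth.L28.AR.adic_strict hA) hB,
      Noeth.isConstructible_cokernel_app f hBc, ⟨e.symm ≪≫ cokernel.mapIso ((limEps Λ X).map f) w eF eG hsq⟩⟩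

theorem chain_stable_limit {F : EtModW.ModP Λ X} {A : ARSys.PS (EtModW.Mod Λ X)} (hA : ARSys.IsAdic I A)
    (hAc : ∀ n : ℕ, EtModW.IsConstructible Λ (A.obj (op n))) (eF : (limEps Λ X).obj A ≅ F)
    (Z : ℕ →o Subobject F)
    (hZ : ∀ k : ℕ, ∃ C : ARSys.PS (EtModW.Mod Λ X), ARSys.IsAdic I C ∧
      (∀ n : ℕ, EtModW.IsConstructible Λ (C.obj (op n))) ∧
        Nonempty ((limEps Λ X).obj C ≅ Subobject.underlying.obj (Z k))) :
    ∃ k₀ : ℕ, ∀ k : ℕ, k₀ ≤ k → Z k = Z k₀ := by
  haveI := preservesFiniteLimits_limEps Λ X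
  have hI : I.FG := IsNoetherian.noetherian I
  choose C hC hCc e using hZ
  let e' := fun k => (e k).some
  choose f hf using fun k => exists_preimage_limEps hI (hC k) hA ((e' k).hom ≫ (Z k).arrow ≫ eF.inv)
  let W : ℕ → Subobject A := fun k => imageSubobject (f k)
  have hstrict : ∀ k, ARSys.IsStrict (Subobject.underlying.obj (W k) : ARSys.PS (EtModW.Mod Λ X)) := fun k =>
    Groth.L28.AR.strict_of_surj fun a b hab z => by
      obtain ⟨y, rfl⟩ := Groth.L28.AR.app_surj (factorThruImageSubobject (f k)) a z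
      obtain ⟨y', rfl⟩ := Groth.L28.AR.strict_surj (Groth.L28.AR.adic_strict (hC k)) hab y
      exact ⟨_, (Groth.L28.AR.app_tr (factorThruImageSubobject (f k)) hab y').symm⟩
  have hm : Monotone W := monotone_nat_of_le_succ fun k => by
    obtain ⟨g, hg⟩ := exists_preimage_limEps hI (hC k) (hC (k + 1))
      ((e' k).hom ≫ Subobject.ofLE (Z k) (Z (k + 1)) (Z.monotone (Nat.le_succ k)) ≫ (e' (k + 1)).inv)
    have hgf : g ≫ f (k + 1) = f k := limEps_map_injective hI (hC k) hA (by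
      rw [Functor.map_comp, hg, hf, hf]
      simp only [Category.assoc, Iso.inv_hom_id_assoc, Subobject.ofLE_arrow_assoc])
    show imageSubobject (f k) ≤ imageSubobject (f (k + 1))
    rw [← hgf]
    exact imageSubobject_comp_le g (f (k + 1))
  obtain ⟨k₀, hk₀⟩ := Groth.L28.AR.strict_chain (Noeth.isAdicNoeth hA hAc) W hm hstrict
  refine ⟨k₀, fun k hk => le_antisymm ?_ (Z.monotone hk)⟩
  have hfac : ∀ j, (limEps Λ X).map (factorThruImageSubobject (f j)) ≫ (limEps Λ X).map (W j).arrow =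
      (e' j).hom ≫ (Z j).arrow ≫ eF.inv := fun j => by
    rw [← Functor.map_comp, imageSubobject_arrow_comp, hf]
  haveI : ∀ j, Epi ((limEps Λ X).map (factorThruImageSubobject (f j))) := fun j =>
    epi_limEps_factor (hC j) hA (hCc j) hAc (f j) _ (W j).arrow (imageSubobject_arrow_comp _)
  haveI : ∀ j, Mono ((limEps Λ X).map (factorThruImageSubobject (f j))) := fun j =>
    mono_of_mono_fac (hfac j)
  haveI := isIso_of_mono_of_epi ((limEps Λ X).map (factorThruImageSubobject (f k₀)))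
  refine Subobject.le_of_comm ((e' k).inv ≫ (limEps Λ X).map (factorThruImageSubobject (f k)) ≫
    (limEps Λ X).map (Subobject.ofLE (W k) (W k₀) (hk₀ k hk).le) ≫
      inv ((limEps Λ X).map (factorThruImageSubobject (f k₀))) ≫ (e' k₀).hom) ?_
  have h0 : (e' k₀).hom ≫ (Z k₀).arrow =
      (limEps Λ X).map (factorThruImageSubobject (f k₀)) ≫ (limEps Λ X).map (W k₀).arrow ≫ eF.hom := by
    rw [← Category.assoc ((limEps Λ X).map _), hfac]
    simp only [Category.assoc, Iso.inv_hom_id, Category.comp_id]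
  simp only [Category.assoc]
  have h1 : (limEps Λ X).map (Subobject.ofLE (W k) (W k₀) (hk₀ k hk).le) ≫ (limEps Λ X).map (W k₀).arrow =
      (limEps Λ X).map (W k).arrow := by rw [← (limEps Λ X).map_comp, Subobject.ofLE_arrow]
  rw [h0, IsIso.inv_hom_id_assoc, ← Category.assoc ((limEps Λ X).map (Subobject.ofLE (W k) (W k₀) (hk₀ k hk).le)), h1]
  rw [← Category.assoc ((limEps Λ X).map _), hfac]
  simp only [Category.assoc, Iso.inv_hom_id, Category.comp_id, Iso.inv_hom_id_assoc]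

end Groth.L28.ProEt
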