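import Groth.Agent.L28.ProEt.Limit

/-!
Exactness of limits of systems on the pro-étale site.
-/

set_option autoImplicit false
set_option linter.style.haveILetI false

universe u

open CategoryTheory CategoryTheory.Limits AlgebraicGeometry Opposite

set_option backward.isDefEq.respectTransparency.types false

namespace Groth.L28.ProEt

section Tower

variable {Λ : Type (u + 1)} [CommRing Λ] {A B C : ℕᵒᵖ ⥤ ModuleCat.{u + 1} Λ} (f : A ⟶ B) (g : B ⟶ C)

theorem tow_natural {M N : ℕᵒᵖ ⥤ ModuleCat.{u + 1} Λ} (φ : M ⟶ N) {n m : ℕ} (h : n ≤ m) (x : M.obj (op m)) :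
    φ.app (op n) (tow M h x) = tow N h (φ.app (op m) x) :=
  ConcreteCategory.congr_hom (φ.naturality (homOfLE h).op) x

/-- lifting compatible families when the kernel is Mittag-Leffler -/
theorem exists_compat_lift (hgf : ∀ n x, g.app (op n) (f.app (op n) x) = 0)
    (hex : ∀ n y, g.app (op n) y = 0 → ∃ x, f.app (op n) x = y) (hsur : ∀ n, Function.Surjective (g.app (op n)))
    {r : ℕ} (hML : ∀ (n m : ℕ) (h : n ≤ m) (z : A.obj (op (n + r))), ∃ w : A.obj (op m),
      tow A h w = tow A (Nat.le_add_right n r) z)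
    (c : ∀ k, C.obj (op k)) (hc : Compat C c) :
    ∃ b : ∀ k, B.obj (op k), Compat B b ∧ ∀ k, g.app (op k) (b k) = c k := by
  classical
  choose b hb using fun k => hsur k (c k)
  choose d hd using fun k => hex k (tow B (Nat.le_succ k) (b (k + 1)) - b k) (by
    rw [map_sub, tow_natural, hb, hb, sub_eq_zero]; exact hc k)
  have hr : ∀ k, k ≤ k + r := fun k => Nat.le_add_right k r
  let J : ∀ k, Submodule Λ (A.obj (op k)) := fun k => LinearMap.range (tow A (hr k)).hom
  have hJ : ∀ k, ∀ x ∈ J k, ∃ y ∈ J (k + 1), tow A (Nat.le_succ k) y = x := by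
    rintro k _ ⟨z, rfl⟩
    obtain ⟨w, hw⟩ := hML k (k + 1 + r) (by omega) z
    exact ⟨_, ⟨w, rfl⟩, (tow_tow A _ _ w).trans hw⟩
  choose lift hlift₁ hlift₂ using hJ
  let a : ∀ k, { x : A.obj (op k) // x ∈ J k } := fun k => Nat.rec ⟨0, zero_mem _⟩
    (fun k x => ⟨lift k (x.1 - tow A (hr k) (d (k + r))) (sub_mem x.2 ⟨_, rfl⟩), hlift₁ _ _ _⟩) k
  refine ⟨fun k => tow B (hr k) (b (k + r)) + f.app (op k) (a k).1, fun k => ?_, fun k => ?_⟩
  · show tow B (Nat.le_succ k) (tow B (hr (k + 1)) (b (k + 1 + r)) + f.app (op (k + 1)) (a (k + 1)).1) =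
      tow B (hr k) (b (k + r)) + f.app (op k) (a k).1
    rw [map_add, ← tow_natural f, show tow A (Nat.le_succ k) (a (k + 1)).1 = (a k).1 - tow A (hr k) (d (k + r)) from
      hlift₂ _ _ _, map_sub, tow_natural f (hr k), hd, map_sub, tow_tow, tow_tow]
    have e : ∀ (m : ℕ) (_ : m = k + r + 1) (h₁ : k ≤ m) (h₂ : k ≤ k + r + 1),
        tow B h₁ (b m) = tow B h₂ (b (k + r + 1)) := fun m hm h₁ h₂ => by subst hm; rfl
    rw [e (k + 1 + r) (by omega) _ ((hr k).trans (Nat.le_succ _))]
    abel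
  · rw [map_add, hgf, add_zero, tow_natural, hb]
    exact hc.le C (hr k)

end Tower

variable {Λ : Type (u + 1)} [CommRing Λ] {X : Scheme.{u}} [ProEtS.EpsCont X]

theorem epi_limMap (S : ShortComplex (ARSys.PS (EtModW.Mod Λ X))) (hS : S.ShortExact)
    (hA : ∃ (Y : ARSys.PS (EtModW.Mod Λ X)) (v : Y ⟶ S.X₁), ARSys.IsStrict Y ∧ ARSys.IsARIso v) :
    Epi (limMap (Functor.whiskerRight S.g (EtModW.epsPullMod Λ X))) := by
  obtain ⟨Y, v, hY, -, r, hr⟩ := hA
  haveI := preservesFiniteLimits_epsPullMod Λ X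
  haveI := (epsAdjMod Λ X).leftAdjoint_preservesColimits.{0, 0}
  haveI : PreservesFiniteColimits (EtModW.epsPullMod Λ X) := PreservesColimitsOfSize.preservesFiniteColimits _
  let E := EtModW.epsPullMod Λ X
  refine epi_of_wc _ fun U hU c => ?_
  let T := secMod (Λ := Λ) (X := X) U
  have hlev : ∀ n : ℕ, ((S.map ((evaluation _ _).obj (op n))).map E).ShortExact := fun n =>
    (hS.map_of_exact ((evaluation _ _).obj (op n))).map_of_exact E
  let f : (S.X₁ ⋙ E) ⋙ T ⟶ (S.X₂ ⋙ E) ⋙ T := Functor.whiskerRight (Functor.whiskerRight S.f E) T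
  let g : (S.X₂ ⋙ E) ⋙ T ⟶ (S.X₃ ⋙ E) ⋙ T := Functor.whiskerRight (Functor.whiskerRight S.g E) T
  have hgf : ∀ n x, g.app (op n) (f.app (op n) x) = 0 := fun n x =>
    ConcreteCategory.congr_hom (congrArg (fun m => m.hom.app (op U)) ((S.map ((evaluation _ _).obj (op n))).map E).zero) x
  have hex : ∀ n y, g.app (op n) y = 0 → ∃ x, f.app (op n) x = y := fun n y hy =>
    exists_preimage _ _ _ (hlev n).exact hU y hy
  have hsur : ∀ n, Function.Surjective (g.app (op n)) := fun n => by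
    haveI := (hlev n).epi_g
    exact surjective_mod (((S.map ((evaluation _ _).obj (op n))).map E).g) hU
  have hML : ∀ (n m : ℕ) (h : n ≤ m) (z : ((S.X₁ ⋙ E) ⋙ T).obj (op (n + r))),
      ∃ w : ((S.X₁ ⋙ E) ⋙ T).obj (op m), tow _ h w = tow _ (Nat.le_add_right n r) z := by
    intro n m h z
    let π : S.X₁ ⟶ cokernel v := cokernel.π v
    let W := ShortComplex.mk v π (cokernel.condition v)
    have hW : W.Exact := ShortComplex.exact_of_g_is_cokernel _ (cokernelIsCokernel v)
    have hWn : ((W.map ((evaluation _ _).obj (op n))).map E).Exact :=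
      (hW.map ((evaluation _ _).obj (op n))).map E
    have h0 : ARSys.shiftMap S.X₁ r n ≫ π.app (op n) = 0 := by
      refine (π.naturality (homOfLE (Nat.le_add_right n r)).op).trans ?_
      exact (congrArg (fun k => π.app (op (n + r)) ≫ k) (hr n)).trans comp_zero
    have h1 : (E.map (π.app (op n))).hom.app (op U) (tow _ (Nat.le_add_right n r) z) = 0 :=
      ConcreteCategory.congr_hom (congrArg (fun m => m.hom.app (op U))
        (((E.map_comp _ _).symm.trans ((congrArg E.map h0).trans (E.map_zero _ _))) :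
          E.map (ARSys.shiftMap S.X₁ r n) ≫ E.map (π.app (op n)) = 0)) z
    obtain ⟨y, hy⟩ := exists_preimage _ _ _ hWn hU _ h1
    haveI : Epi (E.map (ARSys.tr Y h)) := by
      haveI := hY n m h
      infer_instance
    obtain ⟨y', rfl⟩ := surjective_mod (E.map (ARSys.tr Y h)) hU y
    refine ⟨(E.map (v.app (op m))).hom.app (op U) y', Eq.trans ?_ hy⟩
    exact ConcreteCategory.congr_hom (congrArg (fun q => q.hom.app (op U))
      (((E.map_comp _ _).symm.trans ((congrArg E.map (v.naturality (homOfLE h).op).symm).trans (E.map_comp _ _))) :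
        E.map (v.app (op m)) ≫ E.map (ARSys.tr S.X₁ h) = E.map (ARSys.tr Y h) ≫ E.map (v.app (op n)))) y'
  let c₂ := T.mapCone (limit.cone (S.X₂ ⋙ E))
  let c₃ := T.mapCone (limit.cone (S.X₃ ⋙ E))
  have hc₂ : IsLimit c₂ := isLimitOfPreserves T (limit.isLimit _)
  have hc₃ : IsLimit c₃ := isLimitOfPreserves T (limit.isLimit _)
  obtain ⟨b, hb, hbc⟩ := exists_compat_lift f g hgf hex hsur hML (fun k => c₃.π.app (op k) c) (compat_proj _ (c := c₃) c)
  obtain ⟨x, hx⟩ := exists_of_compat _ hc₂ b hb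
  refine ⟨x, ext_of_isLimit _ hc₃ fun k => ?_⟩
  refine Eq.trans ?_ ((congrArg (g.app (op k)) (hx k)).trans (hbc k))
  exact ConcreteCategory.congr_hom (congrArg (fun q => q.hom.app (op U))
    (limMap_π (Functor.whiskerRight S.g E) (op k))) x

end Groth.L28.ProEt
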