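import Groth.Agent.L28.ProEt.WC
import Groth.Agent.L28.Pts.Linear
import Mathlib.CategoryTheory.Limits.Types.Limits

/-!
Limits of adic systems on the pro-étale site.
-/

set_option autoImplicit false
set_option linter.style.haveILetI false

universe u

open CategoryTheory CategoryTheory.Limits AlgebraicGeometry Opposite

set_option backward.isDefEq.respectTransparency.types false

namespace Groth.L28.ProEt

/-! ### towers of modules -/

section Tower

variable {Λ : Type (u + 1)} [CommRing Λ] (M : ℕᵒᵖ ⥤ ModuleCat.{u + 1} Λ)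

/-- transition maps -/
noncomputable abbrev tow {n m : ℕ} (h : n ≤ m) : M.obj (op m) ⟶ M.obj (op n) := M.map (homOfLE h).op

theorem tow_tow {k n m : ℕ} (h : k ≤ n) (h' : n ≤ m) (x : M.obj (op m)) :
    tow M h (tow M h' x) = tow M (h.trans h') x := by
  refine (ConcreteCategory.congr_hom (M.map_comp (homOfLE h').op (homOfLE h).op) x).symm.trans ?_
  rfl

/-- compatible families -/
def Compat (x : ∀ k, M.obj (op k)) : Prop := ∀ k, tow M (Nat.le_succ k) (x (k + 1)) = x k

theorem Compat.le {x : ∀ k, M.obj (op k)} (hx : Compat M x) {k l : ℕ} (h : k ≤ l) : tow M h (x l) = x k := by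
  induction l, h using Nat.le_induction with
  | base => exact ConcreteCategory.congr_hom (M.map_id (op k)) _
  | succ l h ih => rw [← ih, ← hx l, tow_tow]

theorem compat_of_succ (z : ∀ k, M.obj (op k)) (h : ∀ k, tow M (Nat.le_succ k) (z (k + 1)) = z k) : Compat M z := h

variable {I : Ideal Λ}

theorem exists_compat_section (hs : ∀ (n m : ℕ) (h : n ≤ m), Function.Surjective (tow M h)) (n : ℕ)
    (x : M.obj (op n)) : ∃ z : ∀ k, M.obj (op k), Compat M z ∧ z n = x := by
  choose lift hlift using fun k => hs k (k + 1) (Nat.le_succ k)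
  let w : ∀ j, M.obj (op (n + j)) := fun j => Nat.rec x (fun j y => lift (n + j) y) j
  have hw : ∀ j, tow M (Nat.le_add_right n j) (w j) = x := by
    intro j
    induction j with
    | zero => exact ConcreteCategory.congr_hom (M.map_id (op n)) _
    | succ j ih =>
      exact (tow_tow M (Nat.le_add_right n j) (Nat.le_succ (n + j)) (w (j + 1))).symm.trans
        ((congrArg (tow M (Nat.le_add_right n j)) (hlift (n + j) (w j))).trans ih)
  refine ⟨fun k => tow M (show k ≤ n + k from Nat.le_add_left k n) (w k), fun k => ?_, hw n ▸ ?_⟩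
  · rw [tow_tow]
    refine Eq.trans ?_ (congrArg (tow M (show k ≤ n + k from Nat.le_add_left k n)) (hlift (n + k) (w k)))
    exact (tow_tow M (Nat.le_add_left k n) (Nat.le_succ (n + k)) (w (k + 1))).symm
  · rfl

theorem exists_sum (hs : ∀ (n m : ℕ) (h : n ≤ m), Function.Surjective (tow M h))
    (hk : ∀ (n m : ℕ) (h : n ≤ m), LinearMap.ker (tow M h).hom = I ^ (n + 1) • (⊤ : Submodule Λ (M.obj (op m))))
    {n r : ℕ} (g : Fin r → Λ) (hg : Ideal.span (Set.range g) = I ^ (n + 1)) (x : ∀ k, M.obj (op k)) (hx : Compat M x)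
    (hn : x n = 0) : ∃ y : Fin r → ∀ k, M.obj (op k), (∀ i, Compat M (y i)) ∧ ∀ k, ∑ i, g i • y i k = x k := by
  have hle : ∀ k, k ≤ k + n + 1 := fun k => by omega
  have hmem : ∀ (m : ℕ) (w : M.obj (op m)), w ∈ I ^ (n + 1) • (⊤ : Submodule Λ (M.obj (op m))) →
      ∃ z : Fin r → M.obj (op m), ∑ i, g i • z i = w := by
    intro m w hw
    rw [← hg] at hw
    induction hw using Submodule.smul_induction_on' with
    | smul a ha v _ =>
      obtain ⟨c, rfl⟩ := Submodule.mem_span_range_iff_exists_fun Λ |>.1 ha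
      refine ⟨fun i => c i • v, ?_⟩
      rw [Finset.sum_smul]
      exact Finset.sum_congr rfl fun i _ => by rw [smul_eq_mul, mul_smul, smul_comm]
    | add v _ v' _ hv hv' =>
      obtain ⟨z, rfl⟩ := hv
      obtain ⟨z', rfl⟩ := hv'
      exact ⟨z + z', by simp only [Pi.add_apply, smul_add, Finset.sum_add_distrib]⟩
  have hstep : ∀ (k : ℕ) (z : Fin r → M.obj (op (k + n + 1))), ∑ i, g i • z i = x (k + n + 1) →
      ∃ z' : Fin r → M.obj (op (k + 1 + n + 1)), (∑ i, g i • z' i = x (k + 1 + n + 1)) ∧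
        ∀ i, tow M (hle k |>.trans (show k + n + 1 ≤ k + 1 + n + 1 by omega)) (z' i) = tow M (hle k) (z i) := by
    intro k z hz
    have hk1 : k + n + 1 ≤ k + 1 + n + 1 := by omega
    choose lz hlz using fun i => hs _ _ hk1 (z i)
    have hd : x (k + 1 + n + 1) - ∑ i, g i • lz i ∈ LinearMap.ker (tow M hk1).hom := by
      rw [LinearMap.mem_ker, map_sub, map_sum]
      rw [show (tow M hk1).hom (x (k + 1 + n + 1)) = x (k + n + 1) from hx.le M hk1, sub_eq_zero, ← hz]
      exact Finset.sum_congr rfl fun i _ => by rw [map_smul]; exact congrArg (fun t => g i • t) (hlz i).symm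
    rw [hk _ _ hk1, show k + n + 1 + 1 = (n + 1) + (k + 1) by omega, pow_add, Submodule.mul_smul, ← hg] at hd
    have hv : ∃ v : Fin r → M.obj (op (k + 1 + n + 1)),
        (∀ i, v i ∈ I ^ (k + 1) • (⊤ : Submodule Λ (M.obj (op (k + 1 + n + 1))))) ∧
          ∑ i, g i • v i = x (k + 1 + n + 1) - ∑ i, g i • lz i := by
      generalize x (k + 1 + n + 1) - ∑ i, g i • lz i = d at hd ⊢
      induction hd using Submodule.smul_induction_on' with
      | smul a ha v hv =>
        obtain ⟨c, rfl⟩ := Submodule.mem_span_range_iff_exists_fun Λ |>.1 ha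
        refine ⟨fun i => c i • v, fun i => Submodule.smul_mem _ _ hv, ?_⟩
        rw [Finset.sum_smul]
        exact Finset.sum_congr rfl fun i _ => by rw [smul_eq_mul, mul_smul, smul_comm]
      | add v _ v' _ hv hv' =>
        obtain ⟨z, hz1, rfl⟩ := hv
        obtain ⟨z', hz1', rfl⟩ := hv'
        exact ⟨z + z', fun i => add_mem (hz1 i) (hz1' i),
          by simp only [Pi.add_apply, smul_add, Finset.sum_add_distrib]⟩
    obtain ⟨v, hv1, hv2⟩ := hv
    refine ⟨fun i => lz i + v i, ?_, fun i => ?_⟩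
    · simp only [smul_add, Finset.sum_add_distrib]
      rw [hv2]
      abel
    · have h0 : tow M ((hle k).trans hk1) (v i) = 0 := by
        have : v i ∈ LinearMap.ker (tow M ((hle k).trans hk1)).hom := (hk _ _ _).ge (hv1 i)
        exact this
      rw [map_add, h0, add_zero, ← tow_tow M (hle k) hk1]
      exact congrArg (tow M (hle k)) (hlz i)
  obtain ⟨z₀, hz₀⟩ := hmem (0 + n + 1) (x (0 + n + 1)) (by
    have : x (0 + n + 1) ∈ LinearMap.ker (tow M (show n ≤ 0 + n + 1 by omega)).hom :=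
      LinearMap.mem_ker.2 ((hx.le M _).trans hn)
    rwa [hk] at this)
  choose next hnext₁ hnext₂ using hstep
  let Z : ∀ k, { z : Fin r → M.obj (op (k + n + 1)) // ∑ i, g i • z i = x (k + n + 1) } := fun k =>
    Nat.rec ⟨z₀, hz₀⟩ (fun k z => ⟨next k z.1 z.2, hnext₁ k z.1 z.2⟩) k
  refine ⟨fun i k => tow M (hle k) ((Z k).1 i), fun i k => ?_, fun k => ?_⟩
  · rw [tow_tow]
    exact hnext₂ k (Z k).1 (Z k).2 i
  · refine Eq.trans ?_ (hx.le M (hle k))
    refine Eq.trans ?_ (congrArg (tow M (hle k)) (Z k).2)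
    rw [map_sum]
    exact Finset.sum_congr rfl fun i _ => (map_smul (tow M (hle k)).hom _ _).symm

variable {c : Cone M} (hc : IsLimit c)

include hc

theorem ext_of_isLimit {x y : c.pt} (h : ∀ k, c.π.app (op k) x = c.π.app (op k) y) : x = y :=
  Concrete.isLimit_ext _ hc x y fun k => h k.unop

theorem exists_of_compat (z : ∀ k, M.obj (op k)) (hz : Compat M z) : ∃ x : c.pt, ∀ k, c.π.app (op k) x = z k := by
  let e := Types.isLimitEquivSections (isLimitOfPreserves (forget (ModuleCat.{u + 1} Λ)) hc)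
  refine ⟨e.symm ⟨fun k => z k.unop, fun {a b} f => ?_⟩, fun k => ?_⟩
  · rw [show f = (homOfLE (leOfHom f.unop)).op from Subsingleton.elim _ _]
    exact hz.le M (leOfHom f.unop)
  · exact Types.isLimitEquivSections_symm_apply (isLimitOfPreserves (forget (ModuleCat.{u + 1} Λ)) hc) _ (op k)

omit hc in
theorem compat_proj (x : c.pt) : Compat M fun k => c.π.app (op k) x :=
  fun k => ConcreteCategory.congr_hom (c.w (homOfLE (Nat.le_succ k)).op) x

theorem surjective_proj (hs : ∀ (n m : ℕ) (h : n ≤ m), Function.Surjective (tow M h)) (n : ℕ) :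
    Function.Surjective (c.π.app (op n)) := fun x => by
  obtain ⟨z, hz, rfl⟩ := exists_compat_section M hs n x
  obtain ⟨y, hy⟩ := exists_of_compat M hc z hz
  exact ⟨y, hy n⟩

theorem ker_proj (hI : I.FG) (hs : ∀ (n m : ℕ) (h : n ≤ m), Function.Surjective (tow M h))
    (hk : ∀ (n m : ℕ) (h : n ≤ m), LinearMap.ker (tow M h).hom = I ^ (n + 1) • (⊤ : Submodule Λ (M.obj (op m))))
    (n : ℕ) (x : c.pt) (hx : c.π.app (op n) x = 0) : x ∈ I ^ (n + 1) • (⊤ : Submodule Λ c.pt) := by
  obtain ⟨r, g, hg⟩ := Submodule.fg_iff_exists_fin_generating_family.1 (hI.pow (n := n + 1))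
  obtain ⟨y, hy, hsum⟩ := exists_sum M hs hk g hg _ (compat_proj M (c := c) x) hx
  choose Y hY using fun i => exists_of_compat M hc (y i) (hy i)
  have : ∑ i, g i • Y i = x := ext_of_isLimit M hc fun k => by
    rw [map_sum, ← hsum k]
    exact Finset.sum_congr rfl fun i _ => (map_smul (c.π.app (op k)).hom _ _).trans (congrArg _ (hY i k))
  rw [← this]
  exact Submodule.sum_mem _ fun i _ => Submodule.smul_mem_smul (hg ▸ Submodule.subset_span ⟨i, rfl⟩) Submodule.mem_top

end Tower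

/-! ### the limit of an adic system -/

variable {Λ : Type (u + 1)} [CommRing Λ] {X : Scheme.{u}} {I : Ideal Λ}

theorem isQuot_of_sections {F Q : EtModW.ModP Λ X} (p : F ⟶ Q) (hk : ARSys.KilledBy I Q)
    (hsurj : ∀ U : X.ProEt, ProEtS.IsWC U → Function.Surjective (p.hom.app (op U)))
    (hker : ∀ U : X.ProEt, ProEtS.IsWC U → ∀ x, p.hom.app (op U) x = 0 →
      x ∈ I • (⊤ : Submodule Λ (F.obj.obj (op U)))) : ARSys.IsQuot I p := by
  haveI := epi_of_wc p hsurj
  refine ⟨hk, fun Y φ hφ => ?_⟩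
  have h : kernel.ι p ≫ φ = 0 := eq_of_wc fun U hU => ConcreteCategory.hom_ext _ _ fun x => by
    have hx : p.hom.app (op U) ((kernel.ι p).hom.app (op U) x) = 0 :=
      ConcreteCategory.congr_hom (congrArg (fun m => m.hom.app (op U)) (kernel.condition p)) x
    show φ.hom.app (op U) ((kernel.ι p).hom.app (op U) x) = 0
    have := hker U hU _ hx
    generalize (kernel.ι p).hom.app (op U) x = y at this ⊢
    induction this using Submodule.smul_induction_on' with
    | smul a ha v _ =>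
      exact (map_smul (φ.hom.app (op U)).hom a v).trans ((app_smul a φ U v).symm.trans
        (ConcreteCategory.congr_hom (congrArg (fun m => m.hom.app (op U)) (hφ a ha)) v))
    | add v _ v' _ hv hv' => rw [map_add, hv, hv', add_zero]
  exact ⟨Abelian.epiDesc p φ h, Abelian.comp_epiDesc p φ h, fun ψ hψ => by
    rw [← cancel_epi p, hψ, Abelian.comp_epiDesc]⟩

variable [ProEtS.EpsCont X]

instance additive_epsPullMod : (EtModW.epsPullMod Λ X).Additive := by
  haveI : (epsPushMod Λ X).Additive := ⟨fun {_ _ _ _} => rfl⟩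
  exact (epsAdjMod Λ X).left_adjoint_additive

instance linear_epsPullMod : (EtModW.epsPullMod Λ X).Linear Λ := by
  haveI : (epsPushMod Λ X).Additive := ⟨fun {_ _ _ _} => rfl⟩
  haveI : (epsPushMod Λ X).Linear Λ := ⟨fun _ _ => rfl⟩
  exact AR.linear_of_adjunction (epsAdjMod Λ X)

theorem isAdic_epsPull {G : ARSys.PS (EtModW.Mod Λ X)} (hG : ARSys.IsAdic I G) :
    ARSys.IsAdic I (G ⋙ EtModW.epsPullMod Λ X) :=
  AR.isAdic_comp _ (epsAdjMod Λ X) hG

theorem isQuot_limit_π (hI : I.FG) (G : ARSys.PS (EtModW.Mod Λ X)) (hG : ARSys.IsAdic I G) (n : ℕ) :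
    ARSys.IsQuot (I ^ (n + 1)) (limit.π (G ⋙ EtModW.epsPullMod Λ X) (op n)) := by
  have h := isAdic_epsPull hG
  let c : ∀ U : X.ProEt, Cone ((G ⋙ EtModW.epsPullMod Λ X) ⋙ secMod U) := fun U =>
    (secMod U).mapCone (limit.cone (G ⋙ EtModW.epsPullMod Λ X))
  have hc : ∀ U : X.ProEt, IsLimit (c U) := fun U => isLimitOfPreserves (secMod U) (limit.isLimit _)
  have hs : ∀ (U : X.ProEt), ProEtS.IsWC U → ∀ (n m : ℕ) (hnm : n ≤ m),
      Function.Surjective (tow ((G ⋙ EtModW.epsPullMod Λ X) ⋙ secMod U) hnm) :=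
    fun U hU n m hnm => (sections_isQuot (hI.pow) (h.2 n m hnm) hU).1
  refine isQuot_of_sections _ (h.1 n) (fun U hU => surjective_proj _ (hc U) (hs U hU) n) fun U hU x hx =>
    ker_proj _ (hc U) hI (hs U hU) (fun n m hnm => (sections_isQuot (hI.pow) (h.2 n m hnm) hU).2) n x hx

theorem fullFaithful_limit (hI : I.FG) :
    (ObjectProperty.ι (fun G : ARSys.PS (EtModW.Mod Λ X) => ARSys.IsAdic I G) ⋙
        ((Functor.whiskeringRight ℕᵒᵖ (EtModW.Mod Λ X) (EtModW.ModP Λ X)).obj (EtModW.epsPullMod Λ X) ⋙ lim)).Full ∧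
    (ObjectProperty.ι (fun G : ARSys.PS (EtModW.Mod Λ X) => ARSys.IsAdic I G) ⋙
        ((Functor.whiskeringRight ℕᵒᵖ (EtModW.Mod Λ X) (EtModW.ModP Λ X)).obj (EtModW.epsPullMod Λ X) ⋙ lim)).Faithful := by
  haveI := isIso_unit Λ X
  let ff := (epsAdjMod Λ X).fullyFaithfulLOfIsIsoUnit
  refine ⟨⟨fun {A B} φ => ?_⟩, ⟨fun {A B} f g hfg => ?_⟩⟩
  · let PA := A.obj ⋙ EtModW.epsPullMod Λ X
    let PB := B.obj ⋙ EtModW.epsPullMod Λ X
    let φ' : limit PA ⟶ limit PB := φ
    have hkill : ∀ n : ℕ, ARSys.HomKilledBy (I ^ (n + 1)) (φ' ≫ limit.π PB (op n)) := fun n a ha => by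
      rw [← Linear.comp_smul, ← Category.comp_id (limit.π PB (op n)), ← Linear.comp_smul,
        (isQuot_limit_π hI B.obj B.property n).1 a ha, comp_zero, comp_zero]
    choose ψ hψ huniq using fun n => (isQuot_limit_π hI A.obj A.property n).2 _ _ (hkill n)
    haveI : ∀ n, Epi (limit.π PA (op n)) := fun n => by
      refine epi_of_wc _ fun U hU => ?_
      exact (sections_isQuot hI.pow (isQuot_limit_π hI A.obj A.property n) hU).1
    let χ : A.obj ⟶ B.obj :=
      { app := fun n => ff.preimage (ψ n.unop)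
        naturality := fun n m f => by
          apply ff.map_injective
          rw [Functor.map_comp, Functor.map_comp, ff.map_preimage, ff.map_preimage,
            ← cancel_epi (limit.π PA (op n.unop))]
          refine (Category.assoc _ _ _).symm.trans ?_
          refine ((congrArg (fun k => k ≫ ψ m.unop) (limit.w PA f)).trans (hψ m.unop)).trans ?_
          refine Eq.trans ?_ (Category.assoc _ _ _)
          refine Eq.trans ?_ (congrArg (fun k => k ≫ PB.map f) (hψ n.unop)).symm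
          exact (congrArg (fun k => φ' ≫ k) (limit.w PB f)).symm.trans (Category.assoc _ _ _).symm }
    refine ⟨ObjectProperty.homMk χ, limit.hom_ext fun n => ?_⟩
    refine (limMap_π (Functor.whiskerRight χ (EtModW.epsPullMod Λ X)) n).trans ?_
    exact (congrArg (fun k => limit.π PA n ≫ k) (ff.map_preimage _)).trans (hψ n.unop)
  · refine ObjectProperty.hom_ext _ (NatTrans.ext (funext fun n => ff.map_injective ?_))
    haveI : Epi (limit.π (A.obj ⋙ EtModW.epsPullMod Λ X) n) := by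
      refine epi_of_wc _ fun U hU => ?_
      exact (sections_isQuot hI.pow (isQuot_limit_π hI A.obj A.property n.unop) hU).1
    rw [← cancel_epi (limit.π (A.obj ⋙ EtModW.epsPullMod Λ X) n)]
    exact (limMap_π (Functor.whiskerRight f.hom (EtModW.epsPullMod Λ X)) n).symm.trans
      ((congrArg (fun k : limit (A.obj ⋙ EtModW.epsPullMod Λ X) ⟶ limit (B.obj ⋙ EtModW.epsPullMod Λ X) =>
        k ≫ limit.π (B.obj ⋙ EtModW.epsPullMod Λ X) n) hfg).trans
        (limMap_π (Functor.whiskerRight g.hom (EtModW.epsPullMod Λ X)) n))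

theorem exists_system (P : EtModW.Mod Λ X → Prop)
    {F : EtModW.ModP Λ X} {Q : ℕᵒᵖ ⥤ EtModW.ModP Λ X} (p : (Functor.const ℕᵒᵖ).obj F ⟶ Q)
    (hq : ∀ n : ℕ, ARSys.IsQuot (I ^ (n + 1)) (p.app (op n)))
    (hE : ∀ n : ℕ, ∃ E : EtModW.Mod Λ X, P E ∧ Nonempty ((EtModW.epsPullMod Λ X).obj E ≅ Q.obj (op n))) :
    ∃ G : ARSys.PS (EtModW.Mod Λ X), ARSys.IsAdic I G ∧ (∀ n : ℕ, P (G.obj (op n))) ∧
      Nonempty (G ⋙ EtModW.epsPullMod Λ X ≅ Q) := by
  haveI := isIso_unit Λ X
  let ff := (epsAdjMod Λ X).fullyFaithfulLOfIsIsoUnit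
  choose E hPE e using hE
  let e' : ∀ n : ℕᵒᵖ, (EtModW.epsPullMod Λ X).obj (E n.unop) ≅ Q.obj n := fun n => (e n.unop).some
  let G : ARSys.PS (EtModW.Mod Λ X) :=
    { obj := fun n => E n.unop
      map := fun {a b} f => ff.preimage ((e' a).hom ≫ Q.map f ≫ (e' b).inv)
      map_id := fun a => ff.map_injective (by simp [ff.map_preimage])
      map_comp := fun f g => ff.map_injective (by simp [ff.map_preimage]) }
  let ε : G ⋙ EtModW.epsPullMod Λ X ≅ Q := NatIso.ofComponents e' fun {a b} f => by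
    show (EtModW.epsPullMod Λ X).map (ff.preimage _) ≫ (e' b).hom = _
    rw [ff.map_preimage, Category.assoc, Category.assoc, Iso.inv_hom_id, Category.comp_id]
  have hkill : ARSys.TermKilled I G := fun n a ha => ff.map_injective (by
    rw [(EtModW.epsPullMod Λ X).map_smul, (EtModW.epsPullMod Λ X).map_id, (EtModW.epsPullMod Λ X).map_zero, ← cancel_mono (e' (op n)).hom, Linear.smul_comp,
      Category.id_comp, zero_comp, ← Category.comp_id (e' (op n)).hom, ← Linear.comp_smul, (hq n).1 a ha, comp_zero])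
  have htr : ∀ (n m : ℕ) (hnm : n ≤ m), ARSys.IsQuot (I ^ (n + 1)) (ARSys.tr G hnm) := by
    intro n m hnm
    refine ⟨hkill n, fun Y φ hφ => ?_⟩
    have hw : p.app (op m) ≫ Q.map (homOfLE hnm).op = p.app (op n) :=
      (p.naturality (homOfLE hnm).op).symm.trans (Category.id_comp _)
    have hφ' : ARSys.HomKilledBy (I ^ (n + 1)) ((e' (op m)).inv ≫ (EtModW.epsPullMod Λ X).map φ) := fun a ha => by
      rw [← Linear.comp_smul, ← Functor.map_smul, hφ a ha, Functor.map_zero, comp_zero]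
    obtain ⟨χ, hχ, hu⟩ := (hq n).2 _ (p.app (op m) ≫ (e' (op m)).inv ≫ (EtModW.epsPullMod Λ X).map φ) fun a ha => by
      rw [← Linear.comp_smul, hφ' a ha, comp_zero]
    have hu' := fun (W : EtModW.ModP Λ X) (k l : Q.obj (op m) ⟶ W) h₁ h₂ => ((hq m).2 _ (p.app (op m) ≫ k) fun a ha => by
      rw [← Linear.comp_smul, ← Category.id_comp k, ← Linear.smul_comp, (hq m).1 a ha, zero_comp, comp_zero]).unique (y₁ := k) (y₂ := l) h₁ h₂
    refine ⟨ff.preimage ((e' (op n)).hom ≫ χ), ff.map_injective ?_, fun ψ hψ => ff.map_injective ?_⟩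
    · show (EtModW.epsPullMod Λ X).map (ff.preimage _ ≫ ff.preimage _) = _
      rw [Functor.map_comp, ff.map_preimage, ff.map_preimage]
      have h' : Q.map (homOfLE hnm).op ≫ χ = (e' (op m)).inv ≫ (EtModW.epsPullMod Λ X).map φ :=
        (hu' _ _ ((e' (op m)).inv ≫ (EtModW.epsPullMod Λ X).map φ) rfl
          (show p.app (op m) ≫ (e' (op m)).inv ≫ _ = p.app (op m) ≫ Q.map _ ≫ χ by
            rw [← Category.assoc (p.app (op m)) (Q.map _), hw]; exact hχ.symm))
      simp only [Category.assoc, Iso.inv_hom_id_assoc]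
      rw [h', Iso.hom_inv_id_assoc]
    · rw [ff.map_preimage, ← Iso.inv_comp_eq]
      refine hu _ ?_
      show p.app (op n) ≫ (e' (op n)).inv ≫ _ = _
      have := congrArg (EtModW.epsPullMod Λ X).map hψ
      rw [Functor.map_comp] at this
      have e2 : (EtModW.epsPullMod Λ X).map (ARSys.tr G hnm) =
          (e' (op m)).hom ≫ Q.map (homOfLE hnm).op ≫ (e' (op n)).inv := ff.map_preimage _
      rw [e2] at this
      rw [← this, ← hw]
      simp
  exact ⟨G, ⟨hkill, htr⟩, hPE, ⟨ε⟩⟩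

theorem isAdicP_iff (hI : I.FG) (P : EtModW.Mod Λ X → Prop) (hP : ∀ {A B : EtModW.Mod Λ X}, (A ≅ B) → P A → P B)
    (F : EtModW.ModP Λ X) :
    (∃ (Q : ℕᵒᵖ ⥤ EtModW.ModP Λ X) (p : (Functor.const ℕᵒᵖ).obj F ⟶ Q),
        (∀ n : ℕ, ARSys.IsQuot (I ^ (n + 1)) (p.app (op n))) ∧
        (∀ n : ℕ, ∃ E : EtModW.Mod Λ X, P E ∧ Nonempty ((EtModW.epsPullMod Λ X).obj E ≅ Q.obj (op n))) ∧
        IsIso (limit.lift Q (Cone.mk F p))) ↔
      ∃ G : ARSys.PS (EtModW.Mod Λ X), ARSys.IsAdic I G ∧ (∀ n : ℕ, P (G.obj (op n))) ∧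
        Nonempty (limit (G ⋙ EtModW.epsPullMod Λ X) ≅ F) := by
  haveI := isIso_unit Λ X
  let ff := (epsAdjMod Λ X).fullyFaithfulLOfIsIsoUnit
  constructor
  · rintro ⟨Q, p, hq, hE, hiso⟩
    obtain ⟨G, hG, hP', ⟨ε⟩⟩ := exists_system P p hq hE
    haveI := hiso
    exact ⟨G, hG, hP', ⟨lim.mapIso ε ≪≫ (asIso (limit.lift Q (Cone.mk F p))).symm⟩⟩
  · rintro ⟨G, hG, hc, ⟨e⟩⟩
    refine ⟨G ⋙ EtModW.epsPullMod Λ X, (Functor.const ℕᵒᵖ).map e.inv ≫ (limit.cone (G ⋙ EtModW.epsPullMod Λ X)).π,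
      fun n => ⟨(isQuot_limit_π hI G hG n).1, fun Y φ hφ => ?_⟩, fun n => ⟨_, hc n, ⟨Iso.refl _⟩⟩, ?_⟩
    · obtain ⟨ψ, hψ, hu⟩ := (isQuot_limit_π hI G hG n).2 Y (e.hom ≫ φ) fun a ha => by
        rw [← Linear.comp_smul, hφ a ha, comp_zero]
      refine ⟨ψ, ?_, fun χ hχ => hu χ ?_⟩
      · exact (Category.assoc _ _ _).trans ((congrArg (fun k => e.inv ≫ k) hψ).trans (e.inv_hom_id_assoc φ))
      · refine Eq.trans ?_ (congrArg (fun k => e.hom ≫ k) hχ)
        exact ((e.hom_inv_id_assoc _).symm.trans (congrArg (fun k => e.hom ≫ k) (Category.assoc _ _ _).symm))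
    · have h : limit.lift (G ⋙ EtModW.epsPullMod Λ X)
          (Cone.mk F ((Functor.const ℕᵒᵖ).map e.inv ≫ (limit.cone (G ⋙ EtModW.epsPullMod Λ X)).π)) = e.inv :=
        limit.hom_ext fun j => (limit.lift_π _ j).trans rfl
      rw [h]
      infer_instance

end Groth.L28.ProEt
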