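import Groth.Agent.L28.ProEt.Limit
import Groth.Agent.L28.Noeth.ConnectedAR
import Mathlib.RingTheory.Artinian.Module
import Mathlib.RingTheory.Ideal.Quotient.Operations

/-!
The Mittag-Leffler condition for systems of locally constant sheaves with artinian coefficients.
-/

set_option autoImplicit false
set_option linter.style.haveILetI false

universe u v u'

open CategoryTheory CategoryTheory.Limits AlgebraicGeometry Opposite

namespace Groth.L28.ProEt

section Image

variable {C : Type u'} [Category.{v} C] [Abelian C]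

theorem imageSubobject_le_of_comp {A B X : C} (g : A ⟶ X) (f : B ⟶ X) (h : g ≫ cokernel.π f = 0) :
    imageSubobject g ≤ imageSubobject f := by
  have h1 : f ≫ cokernel.π (imageSubobject f).arrow = 0 := by
    exact (congrArg (fun k => k ≫ cokernel.π (imageSubobject f).arrow) (imageSubobject_arrow_comp f).symm).trans
      ((Category.assoc _ _ _).trans ((congrArg (fun k => factorThruImageSubobject f ≫ k) (cokernel.condition _)).trans comp_zero))
  have h2 : g ≫ cokernel.π (imageSubobject f).arrow = 0 := by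
    rw [← cokernel.π_desc f _ h1, ← Category.assoc, h, zero_comp]
  exact imageSubobject_le g (Abelian.monoLift _ g h2) (Abelian.monoLift_comp _ g h2)

theorem imageSubobject_tr_le (X : ARSys.PS C) (n : ℕ) {r s : ℕ} (h : r ≤ s) :
    imageSubobject (ARSys.shiftMap X s n) ≤ imageSubobject (ARSys.shiftMap X r n) := by
  refine imageSubobject_le_of_comp _ _ ?_
  have e : ARSys.shiftMap X s n = X.map (homOfLE (Nat.add_le_add_left h n)).op ≫ ARSys.shiftMap X r n :=
    X.map_comp (homOfLE (Nat.add_le_add_left h n)).op (homOfLE (Nat.le_add_right n r)).op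
  exact (congrArg (fun k => k ≫ cokernel.π (ARSys.shiftMap X r n)) e).trans
    ((Category.assoc _ _ _).trans ((congrArg (fun k => X.map (homOfLE (Nat.add_le_add_left h n)).op ≫ k)
      (cokernel.condition _)).trans comp_zero))

theorem isML_map {D : Type*} [Category D] [Abelian D] (L : C ⥤ D) [L.PreservesZeroMorphisms]
    [PreservesFiniteColimits L] (X : ARSys.PS C)
    (h : ∀ n : ℕ, ∃ r : ℕ, ∀ s : ℕ, r ≤ s → ARSys.shiftMap X r n ≫ cokernel.π (ARSys.shiftMap X s n) = 0) :
    ARSys.IsML (X ⋙ L) := by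
  intro n
  obtain ⟨r, hr⟩ := h n
  refine ⟨r, fun s hs => le_antisymm (imageSubobject_tr_le (X ⋙ L) n hs) (imageSubobject_le_of_comp _ _ ?_)⟩
  show L.map (ARSys.shiftMap X r n) ≫ cokernel.π (L.map (ARSys.shiftMap X s n)) = 0
  rw [← PreservesCokernel.π_iso_hom L, ← Category.assoc, ← L.map_comp, hr s hs, L.map_zero, zero_comp]

end Image

set_option backward.isDefEq.respectTransparency.types false

variable {Λ : Type (u + 1)} [CommRing Λ]

theorem isArtinian_of_killed (I : Ideal Λ) [IsArtinianRing (Λ ⧸ I)] [IsNoetherianRing Λ] (k : ℕ) :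
    ∀ (M : Type (u + 1)) [AddCommGroup M] [Module Λ M] [Module.Finite Λ M],
      (I ^ k • (⊤ : Submodule Λ M) = ⊥) → IsArtinian Λ M := by
  induction k with
  | zero =>
    intro M _ _ _ h
    rw [pow_zero, Ideal.one_eq_top, Submodule.top_smul] at h
    haveI : Subsingleton M := ⟨fun a b => by
      have ha : a ∈ (⊥ : Submodule Λ M) := h ▸ Submodule.mem_top
      have hb : b ∈ (⊥ : Submodule Λ M) := h ▸ Submodule.mem_top
      rw [Submodule.mem_bot] at ha hb
      rw [ha, hb]⟩
    infer_instance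
  | succ k ih =>
    intro M _ _ _ h
    let N : Submodule Λ M := I • ⊤
    haveI : IsNoetherian Λ M := isNoetherian_of_isNoetherianRing_of_finite Λ M
    haveI : Module.Finite Λ N := Module.Finite.of_fg (IsNoetherian.noetherian N)
    haveI : IsArtinian Λ N := ih N (by
      apply Submodule.map_injective_of_injective N.injective_subtype
      rw [Submodule.map_smul'', Submodule.map_bot, Submodule.map_top, Submodule.range_subtype, ← Submodule.mul_smul,
        ← pow_succ]
      exact h)
    haveI : IsArtinian Λ (M ⧸ N) := by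
      haveI : Module.Finite (Λ ⧸ I) (M ⧸ (I • ⊤ : Submodule Λ M)) :=
        Module.Finite.of_restrictScalars_finite Λ (Λ ⧸ I) _
      haveI : IsArtinian (Λ ⧸ I) (M ⧸ (I • ⊤ : Submodule Λ M)) := isArtinian_of_fg_of_artinian'
      exact (LinearEquiv.refl Λ (M ⧸ N)).isArtinian_iff.mp
        (isArtinian_of_surjective_algebraMap (R := Λ ⧸ I) (S := Λ) Ideal.Quotient.mk_surjective)
    exact isArtinian_of_range_eq_ker N.subtype N.mkQ (by rw [Submodule.range_subtype, Submodule.ker_mkQ])

variable {X : Scheme.{u}} [AlgebraicGeometry.IsNoetherian X]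

theorem eq_zero_of_specializes {A B : EtModW.Mod Λ X} (f : A ⟶ B) (hA : EtModW.IsFTLocConst Λ A)
    (hB : EtModW.IsFTLocConst Λ B) {Ω Ω' : Type u} [Field Ω] [IsSepClosed Ω] [Field Ω'] [IsSepClosed Ω']
    (ξ : Spec (CommRingCat.of Ω) ⟶ X) (ξ' : Spec (CommRingCat.of Ω') ⟶ X) (hs : ξ.base default ⤳ ξ'.base default)
    (h : (EtModW.stalk Λ ξ).map f = 0) : (EtModW.stalk Λ ξ').map f = 0 := by
  let S : ℕ → EtModW.Mod Λ X := fun n => match n with | 0 => B | _ + 1 => A
  let T : ∀ n, S (n + 1) ⟶ S n := fun n => match n with | 0 => f | _ + 1 => 𝟙 A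
  obtain ⟨e⟩ := Noeth.nonempty_iso_of_specializes (F := Functor.ofOpSequence T) hs
    (fun n => by cases n with | zero => exact hB | succ n => exact hA)
  have h1 := e.inv.naturality (homOfLE (Nat.le_succ 0)).op
  simp only [Functor.comp_map, Functor.ofOpSequence_map_homOfLE_succ] at h1
  have h2 : (EtModW.stalk Λ ξ').map f ≫ e.inv.app (op 0) = 0 := h1.trans (by
    show e.inv.app (op 1) ≫ (EtModW.stalk Λ ξ).map f = 0
    exact (congrArg (fun k => e.inv.app (op 1) ≫ k) h).trans comp_zero)
  exact (cancel_mono (e.inv.app (op 0))).1 (h2.trans zero_comp.symm)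

theorem isML_mod [IsNoetherianRing Λ] (I : Ideal Λ) [IsArtinianRing (Λ ⧸ I)] [ProEtS.EpsCont X]
    (F : ARSys.PS (EtModW.Mod Λ X)) (hk : ARSys.TermKilled I F)
    (hF : ∀ n : ℕ, EtModW.IsFTLocConst Λ (F.obj (op n))) : ARSys.IsML (F ⋙ EtModW.epsPullMod Λ X) := by
  classical
  haveI := (epsAdjMod Λ X).leftAdjoint_preservesColimits.{0, 0}
  haveI : PreservesFiniteColimits (EtModW.epsPullMod Λ X) := PreservesColimitsOfSize.preservesFiniteColimits _
  refine isML_map _ F fun n => ?_
  haveI : Finite (irreducibleComponents X) :=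
    TopologicalSpace.NoetherianSpace.finite_irreducibleComponents.to_subtype
  choose Ω iF iS ξ hξ using fun Z : irreducibleComponents X =>
    Groth.L27.EtSite.exists_geometric_point (Z.2.1.genericPoint)
  have hr : ∀ Z : irreducibleComponents X, ∃ r, ∀ s, r ≤ s → ∀ x, ∃ z,
      (EtModW.stalk Λ (ξ Z)).map (ARSys.shiftMap F s n) z = (EtModW.stalk Λ (ξ Z)).map (ARSys.shiftMap F r n) x := by
    intro Z
    haveI : Module.Finite Λ ((EtModW.stalk Λ (ξ Z)).obj (F.obj (op n))) := EtModStalk.finite_stalk_of_isFTLocConst _ (hF n)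
    haveI : IsArtinian Λ ((EtModW.stalk Λ (ξ Z)).obj (F.obj (op n))) := isArtinian_of_killed I (n + 1) _ (by
      refine eq_bot_iff.2 (Submodule.smul_le.2 fun a ha x _ => ?_)
      have h := (EtModW.stalk Λ (ξ Z)).map_smul a (𝟙 (F.obj (op n)))
      rw [hk n a ha, (EtModW.stalk Λ (ξ Z)).map_zero, (EtModW.stalk Λ (ξ Z)).map_id] at h
      exact (Submodule.mem_bot Λ).2 (ConcreteCategory.congr_hom h x).symm)
    let R : ℕ →o (Submodule Λ ((EtModW.stalk Λ (ξ Z)).obj (F.obj (op n))))ᵒᵈ :=
      { toFun := fun s => OrderDual.toDual (LinearMap.range ((EtModW.stalk Λ (ξ Z)).map (ARSys.shiftMap F s n)).hom)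
        monotone' := fun s t hst => by
          rintro _ ⟨x, rfl⟩
          refine ⟨(EtModW.stalk Λ (ξ Z)).map (F.map (homOfLE (Nat.add_le_add_left hst n)).op) x, ?_⟩
          have e : ARSys.shiftMap F t n = F.map (homOfLE (Nat.add_le_add_left hst n)).op ≫ ARSys.shiftMap F s n :=
            F.map_comp (homOfLE (Nat.add_le_add_left hst n)).op (homOfLE (Nat.le_add_right n s)).op
          exact (ConcreteCategory.congr_hom ((congrArg ((EtModW.stalk Λ (ξ Z)).map) e).trans (Functor.map_comp _ _ _)) x).symm }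
    obtain ⟨r, hr⟩ := IsArtinian.monotone_stabilizes R
    refine ⟨r, fun s hs x => ?_⟩
    have := hr s hs
    exact (OrderDual.toDual_inj.1 this).le ⟨x, rfl⟩
  choose r hr using hr
  cases nonempty_fintype (irreducibleComponents X)
  refine ⟨Finset.univ.sup r, fun s hs => ?_⟩
  have hc := Lisse.closed_isFTLocConst (Λ := Λ) (X := X)
  refine Noeth.eq_zero_of_stalks _ fun Ω' _ _ x => ?_
  obtain ⟨Z, hZ, hxZ⟩ : ∃ Z ∈ irreducibleComponents X, x.base default ∈ Z :=
    ⟨_, irreducibleComponent_mem_irreducibleComponents _, mem_irreducibleComponent⟩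
  letI := iF ⟨Z, hZ⟩
  letI := iS ⟨Z, hZ⟩
  have hgen : IsGenericPoint hZ.1.genericPoint Z := by
    have := hZ.1.isGenericPoint_genericPoint_closure
    rwa [(isClosed_of_mem_irreducibleComponents Z hZ).closure_eq] at this
  refine eq_zero_of_specializes _ (hF _) (hc.coker _ (hF _) (hF _)) (ξ ⟨Z, hZ⟩) x
    (by rw [hξ ⟨Z, hZ⟩]; exact hgen.specializes hxZ) (ConcreteCategory.hom_ext _ _ fun y => ?_)
  have hle : r ⟨Z, hZ⟩ ≤ Finset.univ.sup r := Finset.le_sup (Finset.mem_univ _)
  let Φ := EtModW.stalk Λ (ξ ⟨Z, hZ⟩)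
  have e : ARSys.shiftMap F (Finset.univ.sup r) n =
      F.map (homOfLE (Nat.add_le_add_left hle n)).op ≫ ARSys.shiftMap F (r ⟨Z, hZ⟩) n :=
    F.map_comp (homOfLE (Nat.add_le_add_left hle n)).op (homOfLE (Nat.le_add_right n _)).op
  obtain ⟨z, hz⟩ := hr ⟨Z, hZ⟩ s (hle.trans hs) (Φ.map (F.map (homOfLE (Nat.add_le_add_left hle n)).op) y)
  refine (ConcreteCategory.congr_hom (Φ.map_comp _ _) y).trans ?_
  refine (congrArg (Φ.map (cokernel.π (ARSys.shiftMap F s n)))
    ((ConcreteCategory.congr_hom ((congrArg Φ.map e).trans (Φ.map_comp _ _)) y).trans hz.symm)).trans ?_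
  exact (ConcreteCategory.congr_hom ((Φ.map_comp _ _).symm.trans
    ((congrArg Φ.map (cokernel.condition _)).trans (Φ.map_zero _ _))) z)

end Groth.L28.ProEt
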