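import Groth.Agent.L28.ProEt.PullCompat
import Groth.Agent.L28.ProEt.JPCont
import Groth.Agent.L28.ProEt.ClosedSES
import Groth.Agent.L28.ProEt.DenseUH
import Groth.Agent.L28.ProEt.Cech.BaseChange
import Groth.Agent.L28.Strata.Topo

/-!
Membership of the essential image of `ε⁻¹` can be tested on finitely many constructible strata.
-/

set_option autoImplicit false
set_option linter.style.haveILetI false

universe v₁ v₂ u₁ u₂ u

open CategoryTheory CategoryTheory.Limits AlgebraicGeometry Opposite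

set_option backward.isDefEq.respectTransparency.types false

namespace Groth.L28.ProEt.StrataImage

theorem isIso_of_map_right {A : Type u₁} [Category.{v₁} A] {B : Type u₂} [Category.{v₂} B] {L : A ⥤ B} {R : B ⥤ A}
    (adj : L ⊣ R) [IsIso adj.unit] {a b : B} (f : a ⟶ b) (ha : L.essImage a) (hb : L.essImage b)
    [IsIso (R.map f)] : IsIso f := by
  haveI := (adj.fullyFaithfulLOfIsIsoUnit).full
  haveI := (adj.fullyFaithfulLOfIsIsoUnit).faithful
  haveI := adj.isIso_counit_app_iff_mem_essImage.mpr ha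
  haveI := adj.isIso_counit_app_iff_mem_essImage.mpr hb
  haveI : IsIso (adj.counit.app a ≫ f) := (adj.counit.naturality f) ▸ inferInstanceAs (IsIso (L.map (R.map f) ≫ adj.counit.app b))
  exact IsIso.of_isIso_comp_left (adj.counit.app a) f

theorem isIso_map_counit {A : Type u₁} [Category.{v₁} A] {B : Type u₂} [Category.{v₂} B] {L : A ⥤ B} {R : B ⥤ A}
    (adj : L ⊣ R) [IsIso adj.unit] (b : B) : IsIso (R.map (adj.counit.app b)) := by
  haveI : IsIso (adj.unit.app (R.obj b) ≫ R.map (adj.counit.app b)) :=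
    (adj.right_triangle_components b).symm ▸ IsIso.id _
  exact IsIso.of_isIso_comp_left (adj.unit.app (R.obj b)) _

variable {X : Scheme.{u}}

theorem isZero_of_isEmpty [IsEmpty X] (G : ProEtS.AbP X) : IsZero G := by
  refine (IsZero.iff_id_eq_zero G).2 (Sheaf.hom_ext (NatTrans.ext (funext fun W => ConcreteCategory.hom_ext _ _ fun x => ?_)))
  haveI : IsEmpty W.unop.left := @Function.isEmpty _ _ ‹IsEmpty X› W.unop.hom
  exact (L27.ProEt.subsingleton_of_isEmpty
    ((sheafCompose (Scheme.ProEt.topology X) (forget AddCommGrpCat.{u + 1})).obj G) W.unop).elim _ _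

section Closed

variable {Z : Scheme.{u}} (i : Z ⟶ X) [IsClosedImmersion i] [ProEtS.EpsCont X] [ProEtS.EpsCont Z] [ProEtS.PCont i]

theorem essImage_push {H : ProEtS.AbP Z} (h : (ProEtS.epsPull Z).essImage H) :
    (ProEtS.epsPull X).essImage ((ProEtS.pushP i).obj H) := by
  obtain ⟨E, ⟨e⟩⟩ := h
  exact ⟨(EtCoh.push i).obj E, ⟨(Cech.thetaIso i).app E ≪≫ (ProEtS.pushP i).mapIso e⟩⟩

theorem mem_of_surjective [Surjective i] (G : ProEtS.AbP X) (h : (ProEtS.epsPull Z).essImage ((ProEtS.pullP i).obj G)) :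
    (ProEtS.epsPull X).essImage G := by
  have hi : FlatMor.IsUnivHomeo i := (L20.isUnivHomeo_iff i).2 ⟨inferInstance, inferInstance, inferInstance⟩
  haveI := Closed.isDenseSubsite i hi
  haveI : (ProEtS.pushP i).IsEquivalence :=
    inferInstanceAs ((ProEtS.bcP i).sheafPushforwardContinuous AddCommGrpCat.{u + 1} (Scheme.ProEt.topology X)
      (Scheme.ProEt.topology Z)).IsEquivalence
  haveI : (ProEtS.pullP i).IsEquivalence := (ProEtS.pullPushAdjP i).isEquivalence_left_of_isEquivalence_right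
  exact Functor.essImage.ofIso (asIso ((ProEtS.pullPushAdjP i).unit.app G)).symm (essImage_push i h)

end Closed

theorem mem_of_open_closed [ProEtS.EpsCont X] {U Z : Scheme.{u}} [ProEtS.EpsCont U] [ProEtS.EpsCont Z]
    (j : U ⟶ X) [IsOpenImmersion j] [QuasiCompact j] (i : Z ⟶ X) [IsClosedImmersion i]
    [ProEtS.PCont j] [ProEtS.PCont i]
    (hc : Set.range j.base = (Set.range i.base)ᶜ) (G : ProEtS.AbP X)
    (hU : (ProEtS.epsPull U).essImage ((ProEtS.pullP j).obj G))
    (hZ : (ProEtS.epsPull Z).essImage ((ProEtS.pullP i).obj G)) :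
    (ProEtS.epsPull X).essImage G := by
  haveI := jpCont j
  obtain ⟨w, hS⟩ := Closed.shortExact i j hc G
  haveI := isIso_unit_ab X
  haveI := preservesFiniteLimits_epsPull X
  have h1 : (ProEtS.epsPull X).essImage ((ProEtS.extZeroP j).obj ((ProEtS.restrP j).obj G)) := by
    obtain ⟨E, ⟨e⟩⟩ := Functor.essImage.ofIso ((restrIsoPull j).app G).symm hU
    exact ⟨(EtShriek.extZero j).obj E, ⟨(extZeroEps j).app E ≪≫ (ProEtS.extZeroP j).mapIso e⟩⟩
  haveI := ((ProEtS.epsAdj X).fullyFaithfulLOfIsIsoUnit).full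
  haveI := ((ProEtS.epsAdj X).fullyFaithfulLOfIsIsoUnit).faithful
  exact (ProEtS.epsAdj X).isIso_counit_app_iff_mem_essImage.mp
    (extension_mem (ProEtS.epsAdj X) (fun T hT ⟨F, ⟨e⟩⟩ => epi_epsPush_map T e hT) _ hS h1 (essImage_push i hZ))

theorem mem_of_strata [∀ T : Scheme.{u}, ProEtS.EpsCont T] : ∀ (n : ℕ) (X : Scheme.{u})
    [CompactSpace X] [QuasiSeparatedSpace X] (G : ProEtS.AbP X) (O : Fin n → X.Opens),
    (∀ k, IsCompact (O k : Set X)) → ∀ (m : ℕ) (T : Fin m → Scheme.{u}) (g : ∀ i, T i ⟶ X),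
    (∀ i, IsImmersion (g i)) → (⋃ i, Set.range (g i)) = Set.univ →
    (∀ i (x y : X), (∀ k, x ∈ O k ↔ y ∈ O k) → (x ∈ Set.range (g i) ↔ y ∈ Set.range (g i))) →
    (∀ i, haveI := L27.ProEt.pCont (g i); (ProEtS.epsPull (T i)).essImage ((ProEtS.pullP (g i)).obj G)) →
    (ProEtS.epsPull X).essImage G := by
  intro n
  induction n with
  | zero =>
    intro X _ _ G O _ m T g hg hcov hdet hG
    rcases isEmpty_or_nonempty X with hX | ⟨⟨x⟩⟩
    · exact ⟨(ProEtS.epsPush X).obj G, ⟨((ProEtS.epsPull X).map_isZero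
        ((ProEtS.epsPush X).map_isZero (isZero_of_isEmpty G))).iso (isZero_of_isEmpty G)⟩⟩
    obtain ⟨i, hi⟩ := Set.mem_iUnion.1 (hcov.symm ▸ Set.mem_univ x : x ∈ ⋃ i, Set.range (g i))
    have hr : Set.range (g i) = Set.univ :=
      Set.eq_univ_of_forall fun y => (hdet i x y (fun k => k.elim0)).1 hi
    haveI := hg i
    haveI := L27.ProEt.pCont (g i)
    haveI : IsClosedImmersion (g i) := .of_isPreimmersion _ (hr ▸ isClosed_univ)
    haveI : Surjective (g i) := ⟨Set.range_eq_univ.1 hr⟩
    exact mem_of_surjective (g i) G (hG i)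
  | succ n ih =>
    intro X _ _ G O hO m T g hg hcov hdet hG
    let U := O 0
    obtain ⟨Z, i, hci, hri⟩ : ∃ (Z : Scheme.{u}) (i : Z ⟶ X), IsClosedImmersion i ∧ Set.range i = (U : Set X)ᶜ :=
      ⟨_, (Scheme.IdealSheafData.vanishingIdeal ⟨_, U.isOpen.isClosed_compl⟩).subschemeι, inferInstance, by
        rw [Scheme.IdealSheafData.range_subschemeι, Scheme.IdealSheafData.coe_support_vanishingIdeal]; rfl⟩
    -- the part over a subscheme on which membership of `U` is constant
    have sub : ∀ {W : Scheme.{u}} (q : W ⟶ X) [IsImmersion q] [QuasiCompact q], CompactSpace W →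
        QuasiSeparatedSpace W → (∀ w w' : W, q w ∈ U ↔ q w' ∈ U) →
        haveI := L27.ProEt.pCont q; (ProEtS.epsPull W).essImage ((ProEtS.pullP q).obj G) := by
      intro W q _ _ hWc hWq hconst
      haveI := hWc
      haveI := hWq
      haveI := L27.ProEt.pCont q
      refine ih W _ (fun k => q ⁻¹ᵁ O k.succ) (fun k => q.isCompact_preimage (hO k.succ)) m
        (fun k => pullback (g k) q) (fun k => pullback.snd (g k) q) (fun k => haveI := hg k; inferInstance) ?_ ?_ ?_
      · refine Eq.trans (Set.iUnion_congr fun k => Scheme.Pullback.range_snd (g k) q) ?_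
        rw [← Set.preimage_iUnion, hcov, Set.preimage_univ]
      · intro k w w' hw
        rw [Scheme.Pullback.range_snd (g k) q]
        exact hdet k _ _ (Fin.cases (hconst w w') hw)
      · intro k
        haveI := L27.ProEt.pCont (g k)
        haveI := L27.ProEt.pCont (pullback.fst (g k) q)
        haveI := L27.ProEt.pCont (pullback.snd (g k) q)
        haveI := L27.ProEt.pCont (pullback.fst (g k) q ≫ g k)
        haveI := L27.ProEt.pCont (pullback.snd (g k) q ≫ q)
        have h1 := Functor.essImage.ofIso ((pullCompP (pullback.fst (g k) q) (g k)).app G).symm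
          (essImage_pullP (pullback.fst (g k) q) (hG k))
        have h2 : ∀ {a b : pullback (g k) q ⟶ X} [ProEtS.PCont a] [ProEtS.PCont b], a = b →
            (ProEtS.epsPull _).essImage ((ProEtS.pullP a).obj G) → (ProEtS.epsPull _).essImage ((ProEtS.pullP b).obj G) := by
          rintro a b _ _ rfl h
          exact h
        exact Functor.essImage.ofIso ((pullCompP (pullback.snd (g k) q) q).app G) (h2 pullback.condition h1)
    haveI : CompactSpace U.toScheme := isCompact_iff_compactSpace.mp (hO 0)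
    haveI : QuasiSeparatedSpace U.toScheme := quasiSeparatedSpace_of_quasiSeparated U.ι
    haveI := hci
    haveI : CompactSpace Z := QuasiCompact.compactSpace_of_compactSpace i
    haveI : QuasiSeparatedSpace Z := quasiSeparatedSpace_of_quasiSeparated i
    haveI := L27.ProEt.pCont U.ι
    haveI := L27.ProEt.pCont i
    refine mem_of_open_closed U.ι i ?_ G (sub U.ι inferInstance inferInstance fun w w' => iff_of_true w.2 w'.2)
      (sub i inferInstance inferInstance fun w w' =>
        iff_of_false (fun h => (hri ▸ Set.mem_range_self w : i w ∈ (U : Set X)ᶜ) h)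
          (fun h => (hri ▸ Set.mem_range_self w' : i w' ∈ (U : Set X)ᶜ) h))
    show Set.range U.ι = (Set.range i)ᶜ
    rw [hri, compl_compl, Scheme.Opens.range_ι]

theorem isIso_of_restr {A B : ProEtS.AbP X} (φ : A ⟶ B)
    (h : ∀ U : X.Opens, IsAffineOpen U → haveI := jpCont U.ι; IsIso ((ProEtS.restrP U.ι).map φ)) : IsIso φ := by
  have key : ∀ W : X.ProEt, ∃ (ι : Type u) (V : ι → X.ProEt) (g : ∀ k, V k ⟶ W),
      Sieve.ofArrows V g ∈ Scheme.ProEt.topology X W ∧ ∀ k, Function.Bijective (φ.hom.app (op (V k))) := by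
    intro W
    let ι := X.affineOpens
    let O : ι → W.left.Opens := fun k => W.hom ⁻¹ᵁ k.1
    have hO : (⋃ k, (O k : Set W.left)) = Set.univ := Set.eq_univ_of_forall fun w => by
      obtain ⟨V, hV, hw, -⟩ := exists_isAffineOpen_mem_and_subset (U := (⊤ : X.Opens))
        (TopologicalSpace.Opens.mem_top (W.hom w))
      exact Set.mem_iUnion.2 ⟨⟨V, hV⟩, hw⟩
    refine ⟨ι, fun k => L27.ProEt.mkOpen W (O k), fun k => L27.ProEt.mkOpenHom W (O k),
      L27.ProEt.ofArrows_mkOpenHom_mem O hO, fun k => ?_⟩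
    haveI := jpCont (k.1 : X.Opens).ι
    haveI := h k.1 k.2
    let p : (O k).toScheme ⟶ k.1.toScheme := W.hom.resLE k.1 (O k) le_rfl
    have hp : p ≫ k.1.ι = (O k).ι ≫ W.hom := Scheme.Hom.resLE_comp_ι _ _
    haveI hj : WeaklyEtale k.1.ι := inferInstance
    haveI : WeaklyEtale p := MorphismProperty.of_postcomp @WeaklyEtale _ k.1.ι hj
      (hp ▸ (L27.ProEt.mkOpen W (O k)).prop)
    let e : (ProEtS.compP k.1.ι).obj (Scheme.ProEt.mk p) ⟶ L27.ProEt.mkOpen W (O k) :=
      MorphismProperty.Over.homMk (𝟙 _) ((Category.id_comp _).trans hp.symm) trivial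
    haveI he : IsIso e :=
      ⟨MorphismProperty.Over.homMk (𝟙 _) ((Category.id_comp _).trans hp) trivial,
        MorphismProperty.Over.Hom.ext (Category.id_comp _), MorphismProperty.Over.Hom.ext (Category.id_comp _)⟩
    haveI : IsIso (φ.hom.app (op ((ProEtS.compP k.1.ι).obj (Scheme.ProEt.mk p)))) :=
      inferInstanceAs (IsIso ((sheafToPresheaf _ _ ⋙ (evaluation _ _).obj (op (Scheme.ProEt.mk p))).map
        ((ProEtS.restrP k.1.ι).map φ)))
    haveI : IsIso e.op := inferInstance
    haveI : IsIso (φ.hom.app (op (L27.ProEt.mkOpen W (O k))) ≫ B.obj.map e.op) :=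
      (φ.hom.naturality e.op) ▸ (inferInstance : IsIso (_ ≫ φ.hom.app (op ((ProEtS.compP k.1.ι).obj (Scheme.ProEt.mk p)))))
    haveI : IsIso (φ.hom.app (op (L27.ProEt.mkOpen W (O k)))) := IsIso.of_isIso_comp_right _ (B.obj.map e.op)
    exact ConcreteCategory.bijective_of_isIso (φ.hom.app (op (L27.ProEt.mkOpen W (O k))))
  haveI : Sheaf.IsLocallyInjective φ := ⟨fun {W} x y hxy => by
    obtain ⟨ι, V, g, hmem, hV⟩ := key W.unop
    refine GrothendieckTopology.superset_covering _ ?_ hmem
    rw [Sieve.generate_le_iff, Presieve.ofArrows_le_iff]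
    intro i
    refine (hV i).1 ((NatTrans.naturality_apply φ.hom (g i).op x).trans ?_)
    exact (congrArg (B.obj.map (g i).op) hxy).trans (NatTrans.naturality_apply φ.hom (g i).op y).symm⟩
  haveI : Sheaf.IsLocallySurjective φ := ⟨fun {W} x => by
    obtain ⟨ι, V, g, hmem, hV⟩ := key W
    refine GrothendieckTopology.superset_covering _ ?_ hmem
    rw [Sieve.generate_le_iff, Presieve.ofArrows_le_iff]
    intro i
    exact (hV i).2 (B.obj.map (g i).op x)⟩
  haveI : Mono φ := Sheaf.mono_of_isLocallyInjective φ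
  haveI : Epi φ := (Sheaf.isLocallySurjective_iff_epi' AddCommGrpCat.{u + 1} φ).mp inferInstance
  exact isIso_of_mono_of_epi φ

theorem isIso_counit_of_local [∀ T : Scheme.{u}, ProEtS.EpsCont T] (G : ProEtS.AbP X)
    (h : ∀ U : X.Opens, IsAffineOpen U →
      haveI := L27.ProEt.pCont U.ι; (ProEtS.epsPull U).essImage ((ProEtS.pullP U.ι).obj G)) :
    IsIso ((ProEtS.epsAdj X).counit.app G) := by
  refine isIso_of_restr _ fun U hU => ?_
  haveI := jpCont U.ι
  haveI := L27.ProEt.pCont U.ι
  haveI := isIso_unit_ab X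
  haveI := isIso_unit_ab U.toScheme
  haveI := isIso_map_counit (ProEtS.epsAdj X) G
  haveI : IsIso ((ProEtS.epsPush U).map ((ProEtS.restrP U.ι).map ((ProEtS.epsAdj X).counit.app G))) :=
    (NatIso.isIso_map_iff (restrEpsPush U.ι) _).2
      (inferInstanceAs (IsIso ((EtShriek.restrAlong U.ι).map ((ProEtS.epsPush X).map ((ProEtS.epsAdj X).counit.app G)))))
  refine isIso_of_map_right (ProEtS.epsAdj U) _ ?_ (Functor.essImage.ofIso ((restrIsoPull U.ι).app G).symm (h U hU))
  exact Functor.essImage.ofIso ((restrIsoPull U.ι).app _).symm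
    (essImage_pullP U.ι (Functor.obj_mem_essImage _ _))

end Groth.L28.ProEt.StrataImage
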