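import Groth.Agent.L28.ProEt.Pull
import Groth.Agent.L28.AR.MapFunctor
import Groth.Agent.L27.ProEt.Covers
import Mathlib.CategoryTheory.Linear.FunctorCategory
import Mathlib.RingTheory.Finiteness.Ideal

/-!
Sections of pro-étale sheaves of modules over weakly contractible objects.
-/

set_option autoImplicit false
set_option linter.style.haveILetI false

universe u

open CategoryTheory CategoryTheory.Limits AlgebraicGeometry Opposite

set_option backward.isDefEq.respectTransparency.types false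

namespace Groth.L28.ProEt

variable {Λ : Type (u + 1)} [CommRing Λ] {X : Scheme.{u}}

/-- sections at an object as a functor -/
noncomputable abbrev secMod (U : X.ProEt) : EtModW.ModP Λ X ⥤ ModuleCat.{u + 1} Λ :=
  sheafToPresheaf _ _ ⋙ (evaluation _ _).obj (op U)

theorem exists_wc_cover (U : X.ProEt) : ∃ (V : X.ProEt) (g : V ⟶ U),
    Sieve.generate (Presieve.singleton g) ∈ Scheme.ProEt.topology X U ∧ ProEtS.IsWC V := by
  obtain ⟨ι, W, hW, hc⟩ := Groth.L27.ProEt.exists_affineOpens_cover U.left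
  obtain ⟨V, g, h1, -, h2⟩ := Groth.L27.ProEt.exists_isWC_cover U W hW hc
  exact ⟨V, g, h1, h2⟩

theorem surjective_mod {F G : EtModW.ModP Λ X} (φ : F ⟶ G) [Epi φ] {U : X.ProEt} (hU : ProEtS.IsWC U) :
    Function.Surjective (φ.hom.app (op U)) := by
  haveI : Sheaf.IsLocallySurjective φ :=
    (Sheaf.isLocallySurjective_iff_epi' (ModuleCat.{u + 1} Λ) φ).mpr inferInstance
  let φ' := (sheafCompose (Scheme.ProEt.topology X) (forget (ModuleCat.{u + 1} Λ))).map φ
  haveI : Sheaf.IsLocallySurjective φ' := inferInstance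
  exact hU _ _ φ' ((Sheaf.isLocallySurjective_iff_epi φ').mp inferInstance)

theorem eq_of_wc {F G : EtModW.ModP Λ X} {φ ψ : F ⟶ G}
    (h : ∀ (U : X.ProEt), ProEtS.IsWC U → φ.hom.app (op U) = ψ.hom.app (op U)) : φ = ψ := by
  refine Sheaf.hom_ext (NatTrans.ext (funext fun ⟨U⟩ => ConcreteCategory.hom_ext _ _ fun x => ?_))
  obtain ⟨V, g, hg, hV⟩ := exists_wc_cover U
  have hG := (isSheaf_iff_isSheaf_of_type _ _).mp
    ((sheafCompose (Scheme.ProEt.topology X) (forget (ModuleCat.{u + 1} Λ))).obj G).property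
  refine (hG _ hg).isSeparatedFor.ext ?_
  rintro Y f ⟨W, a, _, ⟨⟩, rfl⟩
  show G.obj.map (a ≫ g).op _ = G.obj.map (a ≫ g).op _
  rw [op_comp, Functor.map_comp]
  refine congrArg (G.obj.map a.op) ?_
  refine (NatTrans.naturality_apply φ.hom g.op x).symm.trans (Eq.trans ?_ (NatTrans.naturality_apply ψ.hom g.op x))
  rw [h V hV]

theorem epi_of_wc {F G : EtModW.ModP Λ X} (φ : F ⟶ G)
    (h : ∀ (U : X.ProEt), ProEtS.IsWC U → Function.Surjective (φ.hom.app (op U))) : Epi φ := by
  refine (Sheaf.isLocallySurjective_iff_epi' (ModuleCat.{u + 1} Λ) φ).mp ⟨fun {U} s => ?_⟩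
  obtain ⟨V, g, hg, hV⟩ := exists_wc_cover U
  refine GrothendieckTopology.superset_covering _ ?_ hg
  rintro Y f ⟨W, a, _, ⟨⟩, rfl⟩
  obtain ⟨t, ht⟩ := h V hV (G.obj.map g.op s)
  refine ⟨F.obj.map a.op t, ?_⟩
  refine (NatTrans.naturality_apply φ.hom a.op t).trans ?_
  exact (congrArg (G.obj.map a.op) ht).trans (ConcreteCategory.congr_hom (G.obj.map_comp g.op a.op) s).symm

theorem exists_preimage {A B C : EtModW.ModP Λ X} (f : A ⟶ B) (g : B ⟶ C) (w : f ≫ g = 0)
    (h : (ShortComplex.mk f g w).Exact) {U : X.ProEt} (hU : ProEtS.IsWC U) (b : B.obj.obj (op U))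
    (hb : g.hom.app (op U) b = 0) : ∃ a : A.obj.obj (op U), f.hom.app (op U) a = b := by
  let Φ := secMod (Λ := Λ) U
  haveI : Φ.PreservesZeroMorphisms := ⟨fun _ _ => rfl⟩
  haveI : Epi (kernel.lift g f w) := (ShortComplex.exact_iff_epi_kernel_lift _).mp h
  let T := ShortComplex.mk (kernel.ι g) g (kernel.condition g)
  haveI : Mono T.f := inferInstanceAs (Mono (kernel.ι g))
  have hT : T.Exact := ShortComplex.exact_of_f_is_kernel _ (kernelIsKernel g)
  obtain ⟨k, hk⟩ := (ShortComplex.moduleCat_exact_iff _).1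
    (hT.map_of_mono_of_preservesKernel Φ inferInstance inferInstance) b hb
  obtain ⟨a, rfl⟩ := surjective_mod (kernel.lift g f w) hU k
  refine ⟨a, ?_⟩
  refine Eq.trans ?_ hk
  exact (ConcreteCategory.congr_hom (congrArg (fun m => m.hom.app (op U)) (kernel.lift_ι g f w)) a).symm

theorem app_smul {F G : EtModW.ModP Λ X} (a : Λ) (φ : F ⟶ G) (U : X.ProEt) (x : F.obj.obj (op U)) :
    (a • φ).hom.app (op U) x = a • φ.hom.app (op U) x := rfl

theorem killed_sections {I : Ideal Λ} {F : EtModW.ModP Λ X} (h : ARSys.KilledBy I F) {a : Λ} (ha : a ∈ I)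
    (U : X.ProEt) (x : F.obj.obj (op U)) : a • x = 0 :=
  (app_smul a (𝟙 F) U x).symm.trans (ConcreteCategory.congr_hom (congrArg (fun m => m.hom.app (op U)) (h a ha)) x)

theorem smul_le_ker {I : Ideal Λ} {F Q : EtModW.ModP Λ X} (p : F ⟶ Q) (hk : ARSys.KilledBy I Q) (U : X.ProEt) :
    I • (⊤ : Submodule Λ (F.obj.obj (op U))) ≤ LinearMap.ker (p.hom.app (op U)).hom := by
  refine Submodule.smul_le.2 fun a ha x _ => ?_
  exact (map_smul (p.hom.app (op U)).hom a x).trans (killed_sections hk ha U _)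

theorem killedBy_span {s : Set Λ} {Q : EtModW.ModP Λ X} (h : ∀ a ∈ s, a • 𝟙 Q = 0) :
    ARSys.KilledBy (Ideal.span s) Q := by
  intro a ha
  induction ha using Submodule.span_induction with
  | mem x hx => exact h x hx
  | zero => exact zero_smul Λ _
  | add x y _ _ hx hy => rw [add_smul, hx, hy, add_zero]
  | smul c x _ hx => rw [smul_eq_mul, mul_smul, hx, smul_zero]

theorem exists_quot_sections {I : Ideal Λ} (hI : I.FG) (F : EtModW.ModP Λ X) :
    ∃ (Q : EtModW.ModP Λ X) (p : F ⟶ Q), ARSys.IsQuot I p ∧ Epi p ∧ ∀ U : X.ProEt, ProEtS.IsWC U →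
      LinearMap.ker (p.hom.app (op U)).hom = I • (⊤ : Submodule Λ (F.obj.obj (op U))) := by
  classical
  obtain ⟨s, rfl⟩ := hI
  induction s using Finset.induction_on with
  | empty =>
    refine ⟨F, 𝟙 F, ⟨fun a ha => ?_, fun Y φ _ => ⟨φ, Category.id_comp _, fun ψ h => (Category.id_comp ψ).symm.trans h⟩⟩,
      inferInstance, fun U _ => ?_⟩
    · simp only [Finset.coe_empty, Submodule.span_empty, Submodule.mem_bot] at ha
      rw [ha, zero_smul]
    · rw [Finset.coe_empty, Ideal.span, Submodule.span_empty, Submodule.bot_smul]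
      exact LinearMap.ker_id
  | insert a s _ ih =>
    obtain ⟨Q, p, ⟨hk, hu⟩, hp, hker⟩ := ih
    let π := cokernel.π (a • 𝟙 Q)
    have hkill : ARSys.KilledBy (Ideal.span (↑(insert a s) : Set Λ)) (cokernel (a • 𝟙 Q)) := by
      refine killedBy_span fun b hb => ?_
      rw [← cancel_epi π, comp_zero, Linear.comp_smul, Category.comp_id]
      rcases Finset.mem_insert.1 hb with rfl | hb
      · calc b • π = (b • 𝟙 Q) ≫ π := by rw [Linear.smul_comp, Category.id_comp]
          _ = 0 := cokernel.condition _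
      · calc b • π = (b • 𝟙 Q) ≫ π := by rw [Linear.smul_comp, Category.id_comp]
          _ = 0 := by rw [hk b (Submodule.subset_span hb), zero_comp]
    have hsub : Ideal.span (s : Set Λ) ≤ Ideal.span (↑(insert a s) : Set Λ) := Ideal.span_mono (by simp)
    refine ⟨cokernel (a • 𝟙 Q), p ≫ π, ⟨hkill, fun Y φ hφ => ?_⟩, epi_comp _ _, fun U hU => ?_⟩
    · obtain ⟨ψ, hψ, huniq⟩ := hu Y φ fun b hb => hφ b (hsub hb)
      have ha : a • φ = 0 := hφ a (Submodule.subset_span (by simp))
      have h0 : (a • 𝟙 Q) ≫ ψ = 0 := by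
        rw [← cancel_epi p, comp_zero, Linear.smul_comp, Category.id_comp, Linear.comp_smul, hψ, ha]
      refine ⟨cokernel.desc _ ψ h0, show (p ≫ π) ≫ _ = φ by rw [Category.assoc, cokernel.π_desc, hψ], fun χ hχ => ?_⟩
      rw [← cancel_epi π, cokernel.π_desc]
      exact huniq (π ≫ χ) ((Category.assoc _ _ _).symm.trans hχ)
    · refine le_antisymm (fun x hx => ?_) (smul_le_ker _ hkill U)
      obtain ⟨y, hy⟩ := exists_preimage (a • 𝟙 Q) π (cokernel.condition _)
        (ShortComplex.exact_of_g_is_cokernel _ (cokernelIsCokernel _)) hU (p.hom.app (op U) x) hx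
      obtain ⟨x', rfl⟩ := surjective_mod p hU y
      have hy' : p.hom.app (op U) (a • x') = p.hom.app (op U) x :=
        (map_smul (p.hom.app (op U)).hom a x').trans hy
      have h1 : x - a • x' ∈ Ideal.span (s : Set Λ) • (⊤ : Submodule Λ (F.obj.obj (op U))) := by
        rw [← hker U hU, LinearMap.mem_ker, map_sub, sub_eq_zero]
        exact hy'.symm
      have h2 : a • x' ∈ Ideal.span (↑(insert a s) : Set Λ) • (⊤ : Submodule Λ (F.obj.obj (op U))) :=
        Submodule.smul_mem_smul (Submodule.subset_span (by simp)) Submodule.mem_top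
      exact sub_add_cancel x (a • x') ▸ add_mem (Submodule.smul_mono_left hsub h1) h2

theorem sections_isQuot {I : Ideal Λ} (hI : I.FG) {F Q : EtModW.ModP Λ X} {p : F ⟶ Q} (hp : ARSys.IsQuot I p)
    {U : X.ProEt} (hU : ProEtS.IsWC U) :
    Function.Surjective (p.hom.app (op U)).hom ∧
      LinearMap.ker (p.hom.app (op U)).hom = I • (⊤ : Submodule Λ (F.obj.obj (op U))) := by
  obtain ⟨Q', p', hp', hepi, hker⟩ := exists_quot_sections hI F
  obtain ⟨ψ, hψ, -⟩ := hp'.2 Q p fun a ha => by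
    rw [← Category.comp_id p, ← Linear.comp_smul, hp.1 a ha, comp_zero]
  obtain ⟨χ, hχ, -⟩ := hp.2 Q' p' fun a ha => by
    rw [← Category.comp_id p', ← Linear.comp_smul, hp'.1 a ha, comp_zero]
  have h1 : ψ ≫ χ = 𝟙 Q' := by
    rw [← cancel_epi p', Category.comp_id, ← Category.assoc, hψ, hχ]
  obtain ⟨ζ, -, hζ⟩ := hp.2 Q p fun a ha => by
    rw [← Category.comp_id p, ← Linear.comp_smul, hp.1 a ha, comp_zero]
  have h2 : χ ≫ ψ = 𝟙 Q :=
    (hζ (χ ≫ ψ) (show p ≫ χ ≫ ψ = p by rw [← Category.assoc, hχ, hψ])).trans (hζ (𝟙 Q) (Category.comp_id p)).symm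
  haveI : Epi p := by
    haveI : IsIso ψ := ⟨χ, h1, h2⟩
    rw [← hψ]
    infer_instance
  refine ⟨surjective_mod p hU, le_antisymm (fun x hx => ?_) (smul_le_ker p hp.1 U)⟩
  rw [← hker U hU, LinearMap.mem_ker]
  refine (ConcreteCategory.congr_hom (congrArg (fun m => m.hom.app (op U)) hχ) x).symm.trans ?_
  exact (congrArg (χ.hom.app (op U)) hx).trans (map_zero _)

end Groth.L28.ProEt
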