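import Groth.Agent.L27.WContractibleLoc
import Groth.Agent.L05.Hensel.IntegralDomain
import Mathlib.RingTheory.Spectrum.Prime.Chevalley
import Mathlib.RingTheory.Finiteness.Ideal

/-!
Finite algebras over w-contractible rings.
-/

set_option autoImplicit false
set_option linter.style.haveILetI false

universe u

open Topology TensorProduct IsLocalRing

namespace Groth.L28.ProEt.WC

/-- closed points -/
abbrev Cl (A : Type u) [CommRing A] : Set (PrimeSpectrum A) := {x | IsClosed ({x} : Set (PrimeSpectrum A))}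

theorem t1_cl (A : Type u) [CommRing A] : T1Space (Cl A) :=
  ⟨fun x => by
    rw [show ({x} : Set (Cl A)) = Subtype.val ⁻¹' {(x : PrimeSpectrum A)} from Set.ext fun y => Subtype.ext_iff]
    exact x.2.preimage continuous_subtype_val⟩

theorem isClopen_basicOpen {A : Type u} [CommRing A] (hc : IsClosed (Cl A)) (f : A) :
    IsClopen {c : Cl A | f ∉ c.1.asIdeal} := by
  haveI : SpectralSpace (Cl A) := L27.WLocal.spectralSpace_closed _ hc
  haveI := t1_cl A
  obtain ⟨hC, hT, -⟩ := L27.WLocal.isProfinite_of_t1 (Cl A)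
  refine ⟨?_, (PrimeSpectrum.basicOpen f).2.preimage continuous_subtype_val⟩
  refine IsCompact.isClosed ?_
  rw [IsEmbedding.subtypeVal.isCompact_iff]
  convert (PrimeSpectrum.isCompact_basicOpen f).inter_right hc using 1
  ext x
  constructor
  · rintro ⟨⟨y, hy⟩, hye, rfl⟩
    exact ⟨hye, hy⟩
  · rintro ⟨hxe, hx⟩
    exact ⟨⟨x, hx⟩, hxe, rfl⟩

theorem isOpen_trace {A : Type u} [CommRing A] (hc : IsClosed (Cl A)) {s : Set (PrimeSpectrum A)}
    (hs : IsConstructible s) : IsClopen ((Subtype.val : Cl A → PrimeSpectrum A) ⁻¹' s) := by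
  obtain ⟨S, rfl⟩ := PrimeSpectrum.exists_constructibleSetData_iff.mpr hs
  rw [PrimeSpectrum.ConstructibleSetData.toSet, Set.preimage_iUnion₂]
  refine Set.Finite.isClopen_biUnion (Finset.finite_toSet S) fun C _ => ?_
  rw [show (Subtype.val : Cl A → PrimeSpectrum A) ⁻¹' C.toSet =
      (⋂ i, {c : Cl A | C.g i ∉ c.1.asIdeal}ᶜ) ∩ {c : Cl A | C.f ∉ c.1.asIdeal} by
    ext c
    simp [PrimeSpectrum.BasicConstructibleSetData.toSet, PrimeSpectrum.mem_zeroLocus, Set.range_subset_iff]
    exact ⟨fun h => ⟨fun i hn => hn (h.1 i), h.2⟩, fun h => ⟨fun i => Classical.byContradiction (h.1 i), h.2⟩⟩]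
  exact (isClopen_iInter_of_finite fun i => (isClopen_basicOpen hc _).compl).inter (isClopen_basicOpen hc _)

theorem nonempty_cl_homeo {A : Type u} [CommRing A] (h : ProEtW.IsWLocal (PrimeSpectrum A)) :
    Nonempty (Cl A ≃ₜ ConnectedComponents (PrimeSpectrum A)) := by
  haveI := h.1
  haveI : T2Space (ConnectedComponents (PrimeSpectrum A)) := L27.ProfinitePullback.t2_components
  haveI : SpectralSpace (Cl A) := L27.WLocal.spectralSpace_closed _ h.2.1
  have hb := L27.Spectral.components_bijective_of_unique_specialization h.2.1 h.2.2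
  have hμc : Continuous fun c : Cl A => ConnectedComponents.mk c.1 :=
    ConnectedComponents.continuous_coe.comp continuous_subtype_val
  exact ⟨hμc.homeoOfEquivCompactToT2 (f := Equiv.ofBijective _ hb)⟩

theorem isClosed_iff_comap {A B : Type u} [CommRing A] [CommRing B] [Algebra A B] [Algebra.IsIntegral A B]
    (q : PrimeSpectrum B) :
    IsClosed ({q} : Set (PrimeSpectrum B)) ↔
      IsClosed ({PrimeSpectrum.comap (algebraMap A B) q} : Set (PrimeSpectrum A)) := by
  rw [PrimeSpectrum.isClosed_singleton_iff_isMaximal, PrimeSpectrum.isClosed_singleton_iff_isMaximal]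
  exact ⟨fun h => Ideal.isMaximal_comap_of_isIntegral_of_isMaximal (R := A) _,
    fun h => Ideal.isMaximal_of_isIntegral_of_isMaximal_comap (R := A) _ h⟩

section Finite

variable {A B : Type u} [CommRing A] [CommRing B] [Algebra A B]

theorem mem_range_of_finite [Module.Finite A B] (h1 : ProEtW.IsWLocal (PrimeSpectrum A))
    (h3 : ∀ (m : Ideal A) [m.IsMaximal], EtCoh.IsStrictlyHenselianLocalRing (Localization.AtPrime m))
    (q : Ideal B) [q.IsPrime] : IsLocalRing (B ⧸ q) := by
  obtain ⟨c, ⟨hc, hqc⟩, hu⟩ := h1.2.2 ⟨q.comap (algebraMap A B), inferInstance⟩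
  haveI hm : c.asIdeal.IsMaximal := (PrimeSpectrum.isClosed_singleton_iff_isMaximal _).mp hc
  obtain ⟨hh, -⟩ := h3 c.asIdeal
  -- elements outside the maximal ideal above `q` act invertibly on the quotient
  have hunit : ∀ s : c.asIdeal.primeCompl, IsUnit (algebraMap A (B ⧸ q) s) := by
    intro s
    have hu' : IsUnit (algebraMap A (A ⧸ q.comap (algebraMap A B)) s) := by
      by_contra hn
      obtain ⟨M, hM, hsM⟩ := exists_max_ideal_of_mem_nonunits hn
      let M' : PrimeSpectrum A := ⟨M.comap (Ideal.Quotient.mk _), inferInstance⟩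
      haveI : M'.asIdeal.IsMaximal := Ideal.comap_isMaximal_of_surjective _ Ideal.Quotient.mk_surjective
      have h2 : M' = c := hu M' ⟨(PrimeSpectrum.isClosed_singleton_iff_isMaximal _).mpr ‹_›,
        (PrimeSpectrum.le_iff_specializes _ _).mp fun x hx => by
          show Ideal.Quotient.mk _ x ∈ M
          rw [Ideal.Quotient.eq_zero_iff_mem.mpr hx]
          exact M.zero_mem⟩
      exact s.2 (h2 ▸ (hsM : (s : A) ∈ M'.asIdeal))
    exact hu'.map (Ideal.quotientMap q (algebraMap A B) le_rfl)
  let φ : Localization.AtPrime c.asIdeal →+* B ⧸ q := IsLocalization.lift hunit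
  letI := φ.toAlgebra
  haveI : IsScalarTower A (Localization.AtPrime c.asIdeal) (B ⧸ q) :=
    .of_algebraMap_eq fun a => (IsLocalization.lift_eq hunit a).symm
  haveI : Module.Finite A (B ⧸ q) :=
    Module.Finite.of_surjective (Ideal.Quotient.mkₐ A q).toLinearMap Ideal.Quotient.mk_surjective
  haveI : Module.Finite (Localization.AtPrime c.asIdeal) (B ⧸ q) := Module.Finite.of_restrictScalars_finite A _ _
  exact Groth.L05.isLocalRing_of_finite_domain (A := Localization.AtPrime c.asIdeal) (B ⧸ q)

theorem isWLocal_of_finite [Module.Finite A B] (h1 : ProEtW.IsWLocal (PrimeSpectrum A))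
    (h3 : ∀ (m : Ideal A) [m.IsMaximal], EtCoh.IsStrictlyHenselianLocalRing (Localization.AtPrime m)) :
    ProEtW.IsWLocal (PrimeSpectrum B) := by
  refine ⟨inferInstance, ?_, fun q => ?_⟩
  · rw [show {x : PrimeSpectrum B | IsClosed ({x} : Set (PrimeSpectrum B))} =
        PrimeSpectrum.comap (algebraMap A B) ⁻¹' Cl A from Set.ext fun q => isClosed_iff_comap q]
    exact h1.2.1.preimage (PrimeSpectrum.continuous_comap _)
  · haveI := mem_range_of_finite h1 h3 q.asIdeal
    have key : ∀ M : Ideal B, M.IsMaximal → q.asIdeal ≤ M →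
        M = (maximalIdeal (B ⧸ q.asIdeal)).comap (Ideal.Quotient.mk q.asIdeal) := fun M hM hle => by
      haveI := hM
      have hcm : (M.map (Ideal.Quotient.mk q.asIdeal)).comap (Ideal.Quotient.mk q.asIdeal) = M := by
        rw [Ideal.comap_map_of_surjective _ Ideal.Quotient.mk_surjective, ← RingHom.ker_eq_comap_bot,
          Ideal.mk_ker, sup_eq_left.2 hle]
      refine hcm.symm.trans (congrArg _ (eq_maximalIdeal ?_))
      refine (Ideal.map_eq_top_or_isMaximal_of_surjective _ Ideal.Quotient.mk_surjective hM).resolve_left fun h => ?_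
      refine hM.ne_top ?_
      rw [← hcm, h, Ideal.comap_top]
    obtain ⟨M, hM, hle⟩ := q.asIdeal.exists_le_maximal q.2.ne_top
    refine ⟨⟨M, hM.isPrime⟩, ⟨(PrimeSpectrum.isClosed_singleton_iff_isMaximal _).mpr hM,
      (PrimeSpectrum.le_iff_specializes _ _).mp hle⟩, ?_⟩
    rintro w ⟨hw, hqw⟩
    exact PrimeSpectrum.ext ((key _ ((PrimeSpectrum.isClosed_singleton_iff_isMaximal _).mp hw)
      ((PrimeSpectrum.le_iff_specializes _ _).mpr hqw)).trans (key M hM hle).symm)

theorem strictlyHenselian_of_finite [Module.Finite A B]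
    (h3 : ∀ (m : Ideal A) [m.IsMaximal], EtCoh.IsStrictlyHenselianLocalRing (Localization.AtPrime m))
    (n : Ideal B) [n.IsMaximal] : EtCoh.IsStrictlyHenselianLocalRing (Localization.AtPrime n) := by
  let m := n.comap (algebraMap A B)
  haveI : m.IsMaximal := Ideal.isMaximal_comap_of_isIntegral_of_isMaximal (R := A) n
  obtain ⟨hh, hs⟩ := h3 m
  let S := Localization (Algebra.algebraMapSubmonoid B m.primeCompl)
  letI : Algebra (Localization.AtPrime m) S := localizationAlgebra m.primeCompl B
  haveI : IsScalarTower A (Localization.AtPrime m) S := IsScalarTower.of_algebraMap_eq' (IsLocalization.map_comp _).symm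
  have hfin : Module.Finite (Localization.AtPrime m) S :=
    Module.Finite.of_isLocalizedModule m.primeCompl (IsScalarTower.toAlgHom A B S).toLinearMap
  have hle : Algebra.algebraMapSubmonoid B m.primeCompl ≤ n.primeCompl := by
    rintro _ ⟨a, ha, rfl⟩
    exact ha
  let Bn := Localization.AtPrime n
  have hle' : Algebra.algebraMapSubmonoid B m.primeCompl ≤ Submonoid.comap (RingHom.id B) n.primeCompl := fun x hx => hle hx
  let ψ : S →+* Bn := IsLocalization.map Bn (RingHom.id B) hle'
  let n' : Ideal S := (maximalIdeal Bn).comap ψ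
  obtain ⟨ι, _, e, he, hloc⟩ := Groth.L05.exists_idem_local_of_finite (A := Localization.AtPrime m) S
  obtain ⟨i, hi⟩ : ∃ i, IsUnit (ψ (e i)) := by
    by_contra hn
    push Not at hn
    have : (1 : Bn) ∈ maximalIdeal Bn := by
      rw [← map_one ψ, ← he.complete, map_sum]
      exact Ideal.sum_mem _ fun i _ => (mem_maximalIdeal _).mpr (hn i)
    exact one_notMem_nonunits ((mem_maximalIdeal _).mp this)
  have he1 : ψ (e i) = 1 := (IsIdempotentElem.iff_eq_one_of_isUnit hi).mp ((he.idem i).map ψ)
  -- the factor maps onto the local ring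
  let J : Ideal S := Ideal.span {1 - e i}
  haveI := hloc i
  have hJ : J ≤ RingHom.ker ψ := by
    rw [Ideal.span_le]
    rintro _ rfl
    simp [RingHom.mem_ker, he1]
  let ψ' : S ⧸ J →+* Bn := Ideal.Quotient.lift J ψ hJ
  have hB : ∀ b : B, ψ (algebraMap B S b) = algebraMap B Bn b := fun b => IsLocalization.map_eq hle' b
  have hsurj : Function.Surjective ψ' := fun x => by
    obtain ⟨b, s, rfl⟩ := IsLocalization.exists_mk'_eq n.primeCompl x
    have hne : IsUnit (Ideal.Quotient.mk J (algebraMap B S s)) := by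
      by_contra hn
      let χ : B →+* S ⧸ J := (Ideal.Quotient.mk J).comp (algebraMap B S)
      have hP : (maximalIdeal Bn).comap ψ' ≤ maximalIdeal (S ⧸ J) :=
        le_maximalIdeal (Ideal.comap_ne_top _ (maximalIdeal.isMaximal Bn).ne_top)
      have hnle : n ≤ (maximalIdeal (S ⧸ J)).comap χ := fun z hz => hP (by
        show ψ (algebraMap B S z) ∈ maximalIdeal Bn
        rw [hB]
        exact (IsLocalization.AtPrime.to_map_mem_maximal_iff Bn n z).mpr hz)
      have he2 := (‹n.IsMaximal›).eq_of_le (Ideal.comap_ne_top _ (maximalIdeal.isMaximal (S ⧸ J)).ne_top) hnle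
      refine s.2 ((SetLike.ext_iff.mp he2 (s : B)).mpr ?_)
      exact (mem_maximalIdeal _).mpr hn
    obtain ⟨t, ht⟩ := hne.exists_right_inv
    refine ⟨Ideal.Quotient.mk J (algebraMap B S b) * t, ?_⟩
    have hψ : ∀ c : B, ψ' (Ideal.Quotient.mk J (algebraMap B S c)) = algebraMap B Bn c := hB
    rw [IsLocalization.eq_mk'_iff_mul_eq, map_mul, hψ, mul_assoc, ← hψ s, mul_comm (ψ' t), ← map_mul, ht, map_one,
      mul_one]
  letI : Algebra (Localization.AtPrime m) Bn := (ψ.comp (algebraMap _ S)).toAlgebra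
  haveI : Algebra.IsIntegral (Localization.AtPrime m) Bn := by
    refine ⟨fun x => ?_⟩
    obtain ⟨y, rfl⟩ := hsurj x
    obtain ⟨y, rfl⟩ := Ideal.Quotient.mk_surjective y
    let ψa : S →ₐ[Localization.AtPrime m] Bn := { ψ with commutes' := fun _ => rfl }
    exact ((Algebra.IsIntegral.isIntegral (R := Localization.AtPrime m) y).map ψa)
  haveI := Groth.L05.henselianLocalRing_of_integral (A := Localization.AtPrime m) Bn
  refine ⟨inferInstance, ?_⟩
  haveI : IsLocalHom (algebraMap (Localization.AtPrime m) Bn) :=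
    ((IsLocalRing.local_hom_TFAE _).out 0 4).2
      (eq_maximalIdeal (Ideal.isMaximal_comap_of_isIntegral_of_isMaximal (R := Localization.AtPrime m) (maximalIdeal Bn)))
  haveI : Algebra.IsIntegral (Localization.AtPrime m) (ResidueField Bn) :=
    ⟨fun x => by
      obtain ⟨y, rfl⟩ := residue_surjective x
      exact (Algebra.IsIntegral.isIntegral (R := Localization.AtPrime m) y).map
        (IsScalarTower.toAlgHom (Localization.AtPrime m) Bn (ResidueField Bn))⟩
  haveI : Algebra.IsIntegral (ResidueField (Localization.AtPrime m)) (ResidueField Bn) :=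
    Algebra.IsIntegral.tower_top (R := Localization.AtPrime m)
  exact Groth.L05.isSepClosed_of_algebraic (ResidueField (Localization.AtPrime m)) (ResidueField Bn)

theorem extremallyDisconnected_of_localInjOn {Y X : Type u} [TopologicalSpace Y] [TopologicalSpace X]
    [ExtremallyDisconnected X] {f : Y → X} (hc : Continuous f) (ho : IsOpenMap f)
    (hinj : ∀ y, ∃ N : Set Y, IsOpen N ∧ y ∈ N ∧ Set.InjOn f N) : ExtremallyDisconnected Y := by
  refine ⟨fun U hU => isOpen_iff_forall_mem_open.mpr fun y hy => ?_⟩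
  obtain ⟨N, hN, hyN, hi⟩ := hinj y
  have he : IsOpenEmbedding (N.domRestrict f) :=
    .of_continuous_injective_isOpenMap (hc.comp continuous_subtype_val) hi.injective (ho.domRestrict hN)
  haveI := L27.WContractible.extremallyDisconnected_of_isOpen he.isOpen_range
  haveI : ExtremallyDisconnected N := extremallyDisconnected_of_homeo he.toIsEmbedding.toHomeomorph.symm
  have h := ExtremallyDisconnected.open_closure ((Subtype.val : N → Y) ⁻¹' U) (hU.preimage continuous_subtype_val)
  rw [← hN.isOpenMap_subtype_val.preimage_closure_eq_closure_preimage continuous_subtype_val] at h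
  exact ⟨Subtype.val '' ((Subtype.val : N → Y) ⁻¹' closure U), fun z ⟨w, hw, e⟩ => e ▸ hw,
    hN.isOpenMap_subtype_val _ h, ⟨y, hyN⟩, hy, rfl⟩

theorem isWContractible_of_finite [Module.Finite A B] (hA : EtPBC.IsWContractible A)
    (hC : ∀ b : B, IsConstructible (PrimeSpectrum.comap (algebraMap A B) '' PrimeSpectrum.basicOpen b))
    (hI : ∀ y : Cl B, ∃ b : B, b ∉ y.1.asIdeal ∧ ∀ y₁ y₂ : Cl B, b ∉ y₁.1.asIdeal → b ∉ y₂.1.asIdeal →
      PrimeSpectrum.comap (algebraMap A B) y₁.1 = PrimeSpectrum.comap (algebraMap A B) y₂.1 → y₁ = y₂) :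
    EtPBC.IsWContractible B := by
  obtain ⟨h1, h2, h3⟩ := (L27.WContractible.iff_conditions A).mp hA
  have hB := isWLocal_of_finite (B := B) h1 h3
  refine L27.WContractible.isWContractible_of_conditions B hB ?_ fun n _ => strictlyHenselian_of_finite h3 n
  obtain ⟨eA⟩ := nonempty_cl_homeo h1
  obtain ⟨eB⟩ := nonempty_cl_homeo hB
  haveI := h2
  haveI : ExtremallyDisconnected (Cl A) := extremallyDisconnected_of_homeo eA.symm
  let f : Cl B → Cl A := fun y => ⟨PrimeSpectrum.comap (algebraMap A B) y.1, (isClosed_iff_comap _).mp y.2⟩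
  have hf : Continuous f := ((PrimeSpectrum.continuous_comap _).comp continuous_subtype_val).subtype_mk _
  have hopen : IsOpenMap f := by
    have hbasis := PrimeSpectrum.isTopologicalBasis_basic_opens.isInducing
      (IsEmbedding.subtypeVal (p := (· ∈ Cl B))).isInducing
    rw [hbasis.isOpenMap_iff]
    rintro _ ⟨_, ⟨b, rfl⟩, rfl⟩
    rw [show f '' (Subtype.val ⁻¹' PrimeSpectrum.basicOpen b) =
        Subtype.val ⁻¹' (PrimeSpectrum.comap (algebraMap A B) '' PrimeSpectrum.basicOpen b) by
      ext x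
      constructor
      · rintro ⟨y, hy, rfl⟩
        exact ⟨y.1, hy, rfl⟩
      · rintro ⟨y, hy, e⟩
        exact ⟨⟨y, (isClosed_iff_comap y).mpr (e.symm ▸ x.2)⟩, hy, Subtype.ext e⟩]
    exact (isOpen_trace h1.2.1 (hC b)).isOpen
  haveI : ExtremallyDisconnected (Cl B) := extremallyDisconnected_of_localInjOn hf hopen fun y => by
    obtain ⟨b, hb, h⟩ := hI y
    exact ⟨Subtype.val ⁻¹' PrimeSpectrum.basicOpen b,
      (PrimeSpectrum.basicOpen b).2.preimage continuous_subtype_val, hb,
      fun y₁ hy₁ y₂ hy₂ e => h y₁ y₂ hy₁ hy₂ (congrArg Subtype.val e)⟩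
  exact extremallyDisconnected_of_homeo eB

end Finite

end Groth.L28.ProEt.WC
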