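import Groth.Agent.L28.ProEt.WCFinite
import Groth.Agent.L27.StrictCover
import Mathlib.RingTheory.FinitePresentation
import Mathlib.RingTheory.TensorProduct.Finite

/-!
Finite finitely presented algebras, and radical-finitely generated quotients, of w-contractible rings.
-/

set_option autoImplicit false
set_option linter.style.haveILetI false

universe u

open Topology TensorProduct IsLocalRing

namespace Groth.L28.ProEt.WC

variable {A B : Type u} [CommRing A] [CommRing B] [Algebra A B]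

theorem isSepClosed_quotient (m : Ideal A) [m.IsMaximal]
    (h : EtCoh.IsStrictlyHenselianLocalRing (Localization.AtPrime m)) :
    letI := Ideal.Quotient.field m
    IsSepClosed (A ⧸ m) := by
  letI := Ideal.Quotient.field m
  obtain ⟨_, hs⟩ := h
  haveI : IsSepClosed m.ResidueField := hs
  exact L27.StrictCover.isSepClosed_of_ringEquiv
    (RingEquiv.ofBijective _ m.bijective_algebraMap_quotient_residueField).symm

/-- at a maximal ideal with separably closed residue field, two points over it agree -/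
theorem comp_eq_of_ker_eq [Module.Finite A B] (y : Ideal B) [y.IsMaximal]
    (h : EtCoh.IsStrictlyHenselianLocalRing (Localization.AtPrime (y.comap (algebraMap A B))))
    {K : Type u} [CommRing K] [IsDomain K] [Algebra A K] (φ₁ φ₂ : B →ₐ[A] K)
    (h₁ : y ≤ RingHom.ker φ₁) (h₂ : y ≤ RingHom.ker φ₂) : φ₁ = φ₂ := by
  let m := y.comap (algebraMap A B)
  haveI : m.IsMaximal := Ideal.isMaximal_comap_of_isIntegral_of_isMaximal (R := A) y
  letI := Ideal.Quotient.field m
  letI := Ideal.Quotient.field y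
  haveI := isSepClosed_quotient m h
  letI : Algebra (A ⧸ m) (B ⧸ y) := (Ideal.quotientMap y (algebraMap A B) le_rfl).toAlgebra
  haveI : IsScalarTower A (A ⧸ m) (B ⧸ y) := .of_algebraMap_eq' rfl
  haveI : Module.Finite A (B ⧸ y) :=
    Module.Finite.of_surjective (Ideal.Quotient.mkₐ A y).toLinearMap Ideal.Quotient.mk_surjective
  haveI : Module.Finite (A ⧸ m) (B ⧸ y) := Module.Finite.of_restrictScalars_finite A _ _
  haveI : Algebra.IsAlgebraic (A ⧸ m) (B ⧸ y) := Algebra.IsAlgebraic.of_finite _ _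
  haveI := Groth.L05.isPurelyInseparable_of_isSepClosed_base (A ⧸ m) (B ⧸ y)
  have hm : ∀ a ∈ m, algebraMap A K a = 0 := fun a ha => by
    rw [← φ₁.commutes a]
    exact h₁ ha
  letI : Algebra (A ⧸ m) K := (Ideal.Quotient.lift m (algebraMap A K) hm).toAlgebra
  let ψ : ∀ φ : B →ₐ[A] K, y ≤ RingHom.ker φ → (B ⧸ y →ₐ[A ⧸ m] K) := fun φ hφ =>
    { Ideal.Quotient.lift y φ.toRingHom hφ with
      commutes' := fun a => by
        obtain ⟨a, rfl⟩ := Ideal.Quotient.mk_surjective a
        show Ideal.Quotient.lift y φ.toRingHom hφ (Ideal.Quotient.mk y (algebraMap A B a)) = _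
        exact φ.commutes a }
  refine AlgHom.ext fun b => ?_
  exact DFunLike.congr_fun (Subsingleton.elim (ψ φ₁ h₁) (ψ φ₂ h₂)) (Ideal.Quotient.mk y b)

theorem isWContractible_of_finite_presentation [Module.Finite A B] [Algebra.FinitePresentation A B]
    (hA : EtPBC.IsWContractible A) : EtPBC.IsWContractible B := by
  classical
  obtain ⟨h1, -, h3⟩ := (L27.WContractible.iff_conditions A).mp hA
  refine isWContractible_of_finite hA (fun b => PrimeSpectrum.isConstructible_comap_image
    (RingHom.finitePresentation_algebraMap.mpr inferInstance) PrimeSpectrum.isConstructible_basicOpen) fun y => ?_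
  haveI hy : y.1.asIdeal.IsMaximal := (PrimeSpectrum.isClosed_singleton_iff_isMaximal _).mp y.2
  let m := y.1.asIdeal.comap (algebraMap A B)
  haveI hm : m.IsMaximal := Ideal.isMaximal_comap_of_isIntegral_of_isMaximal (R := A) _
  -- an element separating `y` in its fibre
  obtain ⟨b, hby, hb⟩ : ∃ b : B, b ∉ y.1.asIdeal ∧ ∀ P : Ideal B, P.IsPrime →
      P.comap (algebraMap A B) = m → b ∉ P → P = y.1.asIdeal := by
    have hfin : (m.primesOver B \ {y.1.asIdeal}).Finite := (Algebra.QuasiFinite.finite_primesOver m).sdiff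
    have hnle : ¬ hfin.toFinset.inf id ≤ y.1.asIdeal := fun h => by
      obtain ⟨P, hP, hle⟩ := hy.isPrime.inf_le'.mp h
      obtain ⟨⟨hPp, hPo⟩, hne⟩ := hfin.mem_toFinset.mp hP
      haveI := hPp
      have hPc : P.comap (algebraMap A B) = m := hPo.over.symm
      haveI : P.IsMaximal := Ideal.isMaximal_of_isIntegral_of_isMaximal_comap (R := A) P (by rw [hPc]; exact hm)
      exact hne (‹P.IsMaximal›.eq_of_le hy.ne_top hle)
    obtain ⟨b, hb, hby⟩ := SetLike.not_le_iff_exists.mp hnle
    refine ⟨b, hby, fun P hP hPm hbP => Classical.byContradiction fun hne => hbP ?_⟩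
    exact Finset.inf_le (f := id) (hfin.mem_toFinset.mpr ⟨⟨hP, ⟨hPm.symm⟩⟩, hne⟩) hb
  obtain ⟨s, hs⟩ := Module.Finite.fg_top (R := A) (M := B)
  let f : B →ₐ[A] B ⊗[A] B := Algebra.TensorProduct.includeLeft
  let g : B →ₐ[A] B ⊗[A] B := Algebra.TensorProduct.includeRight
  haveI : Algebra.FinitePresentation A (B ⊗[A] B) := Algebra.FinitePresentation.trans A B (B ⊗[A] B)
  let D : B → Set (PrimeSpectrum A) := fun c => PrimeSpectrum.comap (algebraMap A (B ⊗[A] B)) ''
    PrimeSpectrum.basicOpen (f b * g b * (f c - g c))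
  have hD : IsConstructible (⋃ c ∈ (s : Set B), D c) :=
    IsConstructible.biUnion s.finite_toSet fun c _ => PrimeSpectrum.isConstructible_comap_image
      (RingHom.finitePresentation_algebraMap.mpr inferInstance) PrimeSpectrum.isConstructible_basicOpen
  let x : Cl A := ⟨⟨m, hm.isPrime⟩, (PrimeSpectrum.isClosed_singleton_iff_isMaximal _).mpr hm⟩
  have hx : x.1 ∉ ⋃ c ∈ (s : Set B), D c := by
    simp only [Set.mem_iUnion]
    rintro ⟨c, -, P, hP, hPx⟩
    have hPm : P.asIdeal.comap (algebraMap A (B ⊗[A] B)) = m := congrArg PrimeSpectrum.asIdeal hPx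
    have hc : ∀ φ : B →ₐ[A] B ⊗[A] B, (P.asIdeal.comap φ.toRingHom).comap (algebraMap A B) = m := fun φ => by
      rw [Ideal.comap_comap, AlgHom.toRingHom_eq_coe, AlgHom.comp_algebraMap, hPm]
    have hfb : f b ∉ P.asIdeal := fun h => hP (Ideal.mul_mem_right _ _ (Ideal.mul_mem_right _ _ h))
    have hgb : g b ∉ P.asIdeal := fun h => hP (Ideal.mul_mem_right _ _ (Ideal.mul_mem_left _ _ h))
    have e₁ := hb (P.asIdeal.comap f.toRingHom) inferInstance (hc f) hfb
    have e₂ := hb (P.asIdeal.comap g.toRingHom) inferInstance (hc g) hgb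
    let π : B ⊗[A] B →ₐ[A] (B ⊗[A] B) ⧸ P.asIdeal := Ideal.Quotient.mkₐ A P.asIdeal
    have e := comp_eq_of_ker_eq y.1.asIdeal (h3 m) (π.comp f) (π.comp g)
      (fun z hz => Ideal.Quotient.eq_zero_iff_mem.mpr ((SetLike.ext_iff.mp e₁ z).mpr hz))
      (fun z hz => Ideal.Quotient.eq_zero_iff_mem.mpr ((SetLike.ext_iff.mp e₂ z).mpr hz))
    have h0 : f c - g c ∈ P.asIdeal := Ideal.Quotient.eq.mp (DFunLike.congr_fun e c)
    exact hP (Ideal.mul_mem_left _ _ h0)
  obtain ⟨_, ⟨_, ⟨a, rfl⟩, rfl⟩, hxa, hsub⟩ := (PrimeSpectrum.isTopologicalBasis_basic_opens.isInducing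
    (IsEmbedding.subtypeVal (p := (· ∈ Cl A))).isInducing).exists_subset_of_mem_open
      (show x ∈ ((Subtype.val : Cl A → PrimeSpectrum A) ⁻¹' ⋃ c ∈ (s : Set B), D c)ᶜ from hx)
      (isOpen_trace h1.2.1 hD).compl.isOpen
  refine ⟨b * algebraMap A B a, fun h => (hy.isPrime.mem_or_mem h).elim hby hxa, fun y₁ y₂ h₁ h₂ e => ?_⟩
  obtain ⟨t, ht₁, ht₂⟩ := L27.StrictCover.exists_prime_tensor y₁.1 y₂.1 e
  have e₁ : t.asIdeal.comap f.toRingHom = y₁.1.asIdeal := congrArg PrimeSpectrum.asIdeal ht₁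
  have e₂ : t.asIdeal.comap g.toRingHom = y₂.1.asIdeal := congrArg PrimeSpectrum.asIdeal ht₂
  by_cases hall : ∀ c ∈ s, f c - g c ∈ t.asIdeal
  · let π : B ⊗[A] B →ₐ[A] (B ⊗[A] B) ⧸ t.asIdeal := Ideal.Quotient.mkₐ A t.asIdeal
    have heq : (π.comp f).toLinearMap = (π.comp g).toLinearMap :=
      LinearMap.ext_on hs fun c hc => Ideal.Quotient.eq.mpr (hall c hc)
    refine Subtype.ext (PrimeSpectrum.ext ?_)
    rw [← e₁, ← e₂]
    ext z
    show f z ∈ t.asIdeal ↔ g z ∈ t.asIdeal
    rw [← Ideal.Quotient.eq_zero_iff_mem, ← Ideal.Quotient.eq_zero_iff_mem]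
    exact Eq.congr_left (LinearMap.congr_fun heq z)
  · push Not at hall
    obtain ⟨c, hc, hct⟩ := hall
    let x' : Cl A := ⟨PrimeSpectrum.comap (algebraMap A B) y₁.1, (isClosed_iff_comap _).mp y₁.2⟩
    have hxa' : x' ∈ (Subtype.val : Cl A → PrimeSpectrum A) ⁻¹' PrimeSpectrum.basicOpen a := fun h =>
      h₁ (Ideal.mul_mem_left _ _ h)
    have hP : t ∈ PrimeSpectrum.basicOpen (f b * g b * (f c - g c)) := by
      intro h
      rcases t.2.mem_or_mem h with h | h
      · rcases t.2.mem_or_mem h with h | h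
        · exact h₁ (Ideal.mul_mem_right _ _ ((SetLike.ext_iff.mp e₁ b).mp h))
        · exact h₂ (Ideal.mul_mem_right _ _ ((SetLike.ext_iff.mp e₂ b).mp h))
      · exact hct h
    have hx' : PrimeSpectrum.comap (algebraMap A (B ⊗[A] B)) t = x'.1 := by
      show _ = PrimeSpectrum.comap (algebraMap A B) y₁.1
      rw [← ht₁, ← PrimeSpectrum.comap_comp_apply, ← IsScalarTower.algebraMap_eq]
    exact absurd (Set.mem_biUnion (Finset.mem_coe.mpr hc) (show x'.1 ∈ D c from ⟨t, hP, hx'⟩)) (hsub hxa')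

/-- quotients by ideals with finitely generated radical locus -/
theorem isWContractible_of_surjective (hs : Function.Surjective (algebraMap A B))
    (hZ : IsConstructible (Set.range (PrimeSpectrum.comap (algebraMap A B))))
    (hA : EtPBC.IsWContractible A) : EtPBC.IsWContractible B := by
  haveI : Module.Finite A B := Module.Finite.of_surjective (Algebra.linearMap A B) hs
  refine isWContractible_of_finite hA (fun b => ?_) fun y => ⟨1, y.1.asIdeal.ne_top_iff_one.mp y.1.2.ne_top,
    fun y₁ y₂ _ _ e => Subtype.ext (PrimeSpectrum.comap_injective_of_surjective _ hs e)⟩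
  obtain ⟨a, rfl⟩ := hs b
  rw [show PrimeSpectrum.comap (algebraMap A B) '' PrimeSpectrum.basicOpen (algebraMap A B a) =
      Set.range (PrimeSpectrum.comap (algebraMap A B)) ∩ PrimeSpectrum.basicOpen a by
    ext x
    constructor
    · rintro ⟨z, hz, rfl⟩
      exact ⟨⟨z, rfl⟩, hz⟩
    · rintro ⟨⟨z, rfl⟩, hz⟩
      exact ⟨z, hz, rfl⟩]
  exact hZ.inter PrimeSpectrum.isConstructible_basicOpen

end Groth.L28.ProEt.WC
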